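import Mathlib.GroupTheory.Sylow
import Mathlib.GroupTheory.GroupAction.MultipleTransitivity
import Mathlib.GroupTheory.GroupAction.Quotient

/-!
Doubly transitive groups of degree `n ≡ 2 (mod 4)`, `n > 2`: a minimal normal subgroup is
doubly transitive, simple, has trivial centralizer and lies in every nontrivial normal subgroup.
-/

namespace CfsgLib.Recognition

open MulAction Subgroup

variable {G Ω : Type*} [Group G] [MulAction G Ω]

/-- In a doubly transitive faithful action a nontrivial normal subgroup is transitive. -/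
theorem isPretransitive_normal_of_two [FaithfulSMul G Ω] (h2 : IsMultiplyPretransitive G Ω 2)
    (N : Subgroup G) [N.Normal] (hN : N ≠ ⊥) : IsPretransitive N Ω := by
  have := isPreprimitive_of_is_two_pretransitive h2
  apply IsQuasiPreprimitive.isPretransitive_of_normal
  intro h
  apply hN
  rw [eq_bot_iff]
  intro x hx
  rw [Subgroup.mem_bot]
  refine FaithfulSMul.eq_of_smul_eq_smul (α := Ω) fun w => ?_
  have hw : w ∈ fixedPoints N Ω := h ▸ Set.mem_univ w
  simpa [Subgroup.mk_smul] using hw ⟨x, hx⟩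

/-- A regular normal subgroup of a doubly transitive group has prime power order. -/
theorem exists_card_eq_prime_pow_of_regular [Finite G] [FaithfulSMul G Ω]
    (h2 : IsMultiplyPretransitive G Ω 2) (N : Subgroup G) [N.Normal] (hN : N ≠ ⊥) (a : Ω)
    (hreg : ∀ x ∈ N, x • a = a → x = 1) :
    ∃ p k : ℕ, p.Prime ∧ Nat.card Ω = p ^ k := by
  have := isPretransitive_normal_of_two h2 N hN
  have hne : Nat.card N ≠ 1 := fun h => hN (Subgroup.card_eq_one.1 h)
  obtain ⟨p, hp, hpd⟩ := Nat.exists_prime_and_dvd hne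
  have := Fact.mk hp
  obtain ⟨x, hx⟩ := exists_prime_orderOf_dvd_card' p hpd
  have hall : ∀ y : N, y ≠ 1 → orderOf y = p := by
    intro y hy
    have hxa : (x : G) • a ≠ a := fun h => by
      have := hreg _ x.2 h
      rw [← Subgroup.coe_one N, Subtype.coe_inj] at this
      rw [this, orderOf_one] at hx
      exact hp.one_lt.ne hx
    have hya : (y : G) • a ≠ a := fun h => hy (Subtype.ext (hreg _ y.2 h))
    obtain ⟨g, hga, hgx⟩ := is_two_pretransitive_iff.1 h2 hxa.symm hya.symm
    have hga' : g⁻¹ • a = a := by rw [inv_smul_eq_iff, hga]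
    have hconj : g * (x : G) * g⁻¹ ∈ N := ‹N.Normal›.conj_mem _ x.2 g
    have key : ((y : G))⁻¹ * (g * (x : G) * g⁻¹) = 1 := by
      refine hreg _ (N.mul_mem (N.inv_mem y.2) hconj) ?_
      rw [mul_smul, mul_smul, mul_smul, hga', hgx, inv_smul_smul]
    rw [inv_mul_eq_one] at key
    have h1 : orderOf (g * (x : G) * g⁻¹) = orderOf (x : G) :=
      (MulAut.conj g).orderOf_eq (x : G)
    rw [Subgroup.orderOf_coe, hx, ← key, Subgroup.orderOf_coe] at h1
    exact h1
  have hpg : IsPGroup p N := by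
    intro y
    by_cases hy : y = 1
    · exact ⟨0, by simp [hy]⟩
    · exact ⟨1, by rw [pow_one, ← hall y hy]; exact pow_orderOf_eq_one y⟩
  obtain ⟨k, hk⟩ := hpg.exists_card_eq
  refine ⟨p, k, hp, ?_⟩
  have hst : stabilizer N a = ⊥ := by
    rw [eq_bot_iff]
    intro y hy
    rw [Subgroup.mem_bot]
    exact Subtype.ext (hreg _ y.2 hy)
  rw [← index_stabilizer_of_transitive N a, hst, Subgroup.index_bot, hk]

/-- In degree `≡ 2 (mod 4)`, `> 2`, there is no regular normal subgroup. -/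
theorem not_regular_of_two_mod_four [Finite G] [FaithfulSMul G Ω]
    (h2 : IsMultiplyPretransitive G Ω 2) (hn : Nat.card Ω % 4 = 2) (hn2 : 2 < Nat.card Ω)
    (N : Subgroup G) [N.Normal] (hN : N ≠ ⊥) (a : Ω) : ∃ x ∈ N, x • a = a ∧ x ≠ 1 := by
  by_contra hcon
  push Not at hcon
  obtain ⟨p, k, hp, hk⟩ := exists_card_eq_prime_pow_of_regular h2 N hN a hcon
  have h2d : 2 ∣ p ^ k := hk ▸ Nat.dvd_of_mod_eq_zero (by omega)
  have hp2 : p = 2 :=
    ((Nat.prime_dvd_prime_iff_eq Nat.prime_two hp).1 (Nat.prime_two.dvd_of_dvd_pow h2d)).symm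
  subst hp2
  rcases Nat.lt_or_ge k 2 with hk2 | hk2
  · interval_cases k <;> omega
  · obtain ⟨m, rfl⟩ := Nat.exists_eq_add_of_le hk2
    rw [pow_add] at hk
    omega

/-- A nontrivial normal subgroup which is not regular has trivial centralizer. -/
theorem centralizer_eq_bot_of_two_mod_four [Finite G] [FaithfulSMul G Ω]
    (h2 : IsMultiplyPretransitive G Ω 2) (hn : Nat.card Ω % 4 = 2) (hn2 : 2 < Nat.card Ω)
    (N : Subgroup G) [N.Normal] (hN : N ≠ ⊥) : Subgroup.centralizer (N : Set G) = ⊥ := by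
  by_contra hC
  have : Nonempty Ω := (Nat.card_pos_iff.1 (by omega : 0 < Nat.card Ω)).1
  obtain ⟨a⟩ := ‹Nonempty Ω›
  obtain ⟨x, hxN, hxa, hx1⟩ := not_regular_of_two_mod_four h2 hn hn2 N hN a
  have := isPretransitive_normal_of_two h2 (Subgroup.centralizer (N : Set G)) hC
  apply hx1
  refine FaithfulSMul.eq_of_smul_eq_smul (α := Ω) fun w => ?_
  obtain ⟨c, hc⟩ := exists_smul_eq (Subgroup.centralizer (N : Set G)) a w
  rw [one_smul, ← hc, Subgroup.smul_def, ← mul_smul, Subgroup.mem_centralizer_iff.1 c.2 x hxN,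
    mul_smul, hxa]

/-- A group of order twice an odd number has a normal subgroup of index `2`; it contains every
element of odd order. -/
theorem exists_index_two_of_two_mul_odd {W : Type*} [Group W] [Finite W]
    (h2 : 2 ∣ Nat.card W) (h4 : ¬ 4 ∣ Nat.card W) :
    ∃ K : Subgroup W, Odd (Nat.card K) ∧ ∀ w : W, Odd (orderOf w) → w ∈ K := by
  classical
  have := Fintype.ofFinite W
  let f : W →* ℤˣ := Equiv.Perm.sign.comp (MulAction.toPermHom W W)
  obtain ⟨t, ht⟩ := exists_prime_orderOf_dvd_card' 2 h2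
  have ht1 : f t = -1 := by
    have htne : t ≠ 1 := by intro h; simp [h] at ht
    have htt : t * t = 1 := by rw [← pow_two, ← ht, pow_orderOf_eq_one]
    have hsupp : (MulAction.toPermHom W W t).support = Finset.univ := by
      ext w; simp [htne]
    have hct : (MulAction.toPermHom W W t).cycleType =
        Multiset.replicate (Nat.card W / 2) 2 := by
      have hord : orderOf (MulAction.toPermHom W W t) = 2 := by
        rw [orderOf_injective (MulAction.toPermHom W W) MulAction.toPerm_injective t, ht]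
      obtain ⟨k, hk⟩ := Equiv.Perm.cycleType_prime_order (hord ▸ Nat.prime_two)
      rw [hord] at hk
      have hs := Equiv.Perm.sum_cycleType (MulAction.toPermHom W W t)
      rw [hk, Multiset.sum_replicate, smul_eq_mul, hsupp, Finset.card_univ,
        ← Nat.card_eq_fintype_card] at hs
      rw [hk]
      congr 1
      omega
    show Equiv.Perm.sign _ = _
    rw [Equiv.Perm.sign_of_cycleType, hct, Multiset.sum_replicate, Multiset.card_replicate,
      smul_eq_mul]
    apply Odd.neg_one_pow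
    rw [Nat.odd_iff]
    omega
  refine ⟨f.ker, ?_, fun w hw => ?_⟩
  · have hidx : f.ker.index = 2 := by
      rw [Subgroup.index_ker]
      have hs : f.range = ⊤ := by
        rw [eq_top_iff]
        intro u _
        rcases Int.units_eq_one_or u with rfl | rfl
        · exact one_mem _
        · exact ⟨t, ht1⟩
      rw [hs, Subgroup.card_top, Nat.card_eq_fintype_card]
      rfl
    have := f.ker.card_mul_index
    rw [hidx] at this
    rw [Nat.odd_iff]
    omega
  · rw [MonoidHom.mem_ker]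
    rcases Int.units_eq_one_or (f w) with h | h
    · exact h
    · have hd := orderOf_map_dvd f w
      rw [h] at hd
      have : orderOf (-1 : ℤˣ) = 2 := orderOf_eq_prime (by decide) (by decide)
      rw [this] at hd
      obtain ⟨j, hj⟩ := hd
      rw [Nat.odd_iff] at hw
      omega

end CfsgLib.Recognition

namespace CfsgLib.Recognition

open MulAction Subgroup

variable {G Ω : Type*} [Group G] [MulAction G Ω]

/-- Two `p`-subgroups of the same order of full Sylow order in `X` are conjugate in `X`. -/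
theorem exists_conj_eq_of_not_dvd_relIndex [Finite G] {p : ℕ} [Fact p.Prime] {X T T' : Subgroup G}
    (hT : T ≤ X) (hT' : T' ≤ X) (hTp : IsPGroup p T) (hcard : Nat.card T' = Nat.card T)
    (hidx : ¬ p ∣ T.relIndex X) :
    ∃ x ∈ X, T.map (MulAut.conj x).toMonoidHom = T' := by
  obtain ⟨k, hk⟩ := hTp.exists_card_eq
  have hTp' : IsPGroup p T' := IsPGroup.of_card (hcard.trans hk)
  have hidx' : ¬ p ∣ T'.relIndex X := by
    have h1 := Subgroup.card_mul_index (T.subgroupOf X)
    have h2 := Subgroup.card_mul_index (T'.subgroupOf X)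
    rw [Nat.card_congr (Subgroup.subgroupOfEquivOfLe hT).toEquiv] at h1
    rw [Nat.card_congr (Subgroup.subgroupOfEquivOfLe hT').toEquiv, hcard] at h2
    rw [Subgroup.relIndex, Nat.eq_of_mul_eq_mul_left Nat.card_pos (h2.trans h1.symm)]
    exact hidx
  let P : Sylow p X := (hTp.comap_of_injective X.subtype X.subtype_injective).toSylow hidx
  let P' : Sylow p X := (hTp'.comap_of_injective X.subtype X.subtype_injective).toSylow hidx'
  obtain ⟨x, hx⟩ := exists_smul_eq X P P'
  refine ⟨x, x.2, ?_⟩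
  have hx' := congrArg (fun Q : Sylow p X => (Q : Subgroup X).map X.subtype) hx
  simp only [Sylow.coe_subgroup_smul] at hx'
  have hP : ((P : Subgroup X)).map X.subtype = T := by
    show (T.subgroupOf X).map X.subtype = T
    rw [Subgroup.subgroupOf_map_subtype, inf_eq_left.2 hT]
  have hP' : ((P' : Subgroup X)).map X.subtype = T' := by
    show (T'.subgroupOf X).map X.subtype = T'
    rw [Subgroup.subgroupOf_map_subtype, inf_eq_left.2 hT']
  rw [hP'] at hx'
  rw [← hx', ← hP]
  ext y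
  simp only [Subgroup.mem_map]
  constructor
  · rintro ⟨_, ⟨z, hz, rfl⟩, rfl⟩
    exact ⟨_, Subgroup.smul_mem_pointwise_smul _ _ _ hz, rfl⟩
  · rintro ⟨_, ⟨z, hz, rfl⟩, rfl⟩
    exact ⟨z, ⟨z, hz, rfl⟩, rfl⟩

/-- Conjugation moves the two-point stabiliser in a normal subgroup. -/
theorem map_conj_inf_stabilizer (M : Subgroup G) [M.Normal] (g : G) (b : Ω) :
    (M ⊓ stabilizer G b).map (MulAut.conj g).toMonoidHom = M ⊓ stabilizer G (g • b) := by
  ext y
  simp only [Subgroup.mem_map, MulEquiv.coe_toMonoidHom, MulAut.conj_apply, Subgroup.mem_inf,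
    mem_stabilizer_iff]
  constructor
  · rintro ⟨z, ⟨hzM, hzb⟩, rfl⟩
    exact ⟨‹M.Normal›.conj_mem z hzM g, by rw [mul_smul, mul_smul, inv_smul_smul, hzb]⟩
  · rintro ⟨hyM, hyb⟩
    refine ⟨g⁻¹ * y * g, ⟨?_, ?_⟩, by group⟩
    · simpa using ‹M.Normal›.conj_mem y hyM g⁻¹
    · rw [mul_smul, mul_smul, hyb, inv_smul_smul]

/-- The normaliser of `T` moves fixed points of `T` to fixed points of `T`. -/
theorem mem_fixedPoints_of_map_conj {T : Subgroup G} {g : G} {b : Ω}
    (hg : T.map (MulAut.conj g).toMonoidHom = T) (hb : b ∈ fixedPoints T Ω) :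
    g • b ∈ fixedPoints T Ω := by
  intro t
  obtain ⟨s, hs, hts⟩ : (t : G) ∈ T.map (MulAut.conj g).toMonoidHom := hg.symm ▸ t.2
  simp only [MulEquiv.coe_toMonoidHom, MulAut.conj_apply] at hts
  show (t : G) • g • b = g • b
  have := hb ⟨s, hs⟩
  rw [Subgroup.smul_def] at this
  rw [← hts, ← mul_smul, inv_mul_cancel_right, mul_smul, this]

/-- Doubly transitive of degree `≡ 2 (mod 4)`: nontrivial normal subgroups are doubly transitive. -/
theorem isTwoPretransitive_normal_of_two_mod_four [Finite G] [FaithfulSMul G Ω]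
    (h2 : IsMultiplyPretransitive G Ω 2) (hn : Nat.card Ω % 4 = 2) (hn2 : 2 < Nat.card Ω)
    (M : Subgroup G) [M.Normal] (hM : M ≠ ⊥) : IsMultiplyPretransitive M Ω 2 := by
  classical
  have hΩfin : Finite Ω := Nat.finite_of_card_ne_zero (by omega)
  have hMt := isPretransitive_normal_of_two h2 M hM
  have hGt := isPreprimitive_of_is_two_pretransitive h2
  suffices key : ∀ a c d : Ω, c ≠ a → d ≠ a → ∃ m ∈ M ⊓ stabilizer G a, m • c = d by
    rw [is_two_pretransitive_iff]
    intro a b c d hab hcd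
    obtain ⟨m, hm⟩ := exists_smul_eq M a c
    have hmb : m • b ≠ c := hm ▸ fun h => hab (MulAction.injective m h).symm
    obtain ⟨x, hx, hxd⟩ := key c (m • b) d hmb hcd.symm
    refine ⟨⟨x, hx.1⟩ * m, ?_, ?_⟩
    · rw [mul_smul, hm, Subgroup.mk_smul]; exact hx.2
    · rw [mul_smul, Subgroup.mk_smul, hxd]
  intro a
  set X := M ⊓ stabilizer G a with hX
  -- a Sylow 2-subgroup of the point stabiliser in `M`
  let P : Sylow 2 X := default
  set T : Subgroup G := (P : Subgroup X).map X.subtype with hTdef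
  have hTX : T ≤ X := Subgroup.map_subtype_le _
  have hTp : IsPGroup 2 T := P.2.map X.subtype
  have hTidx : ¬ 2 ∣ T.relIndex X := by
    have : T.subgroupOf X = (P : Subgroup X) :=
      Subgroup.comap_map_eq_self_of_injective X.subtype_injective _
    rw [Subgroup.relIndex, this]
    exact P.not_dvd_index
  have hcardM : ∀ b : Ω, Nat.card ↥(M ⊓ stabilizer G b) * Nat.card Ω = Nat.card M := by
    intro b
    rw [← Subgroup.card_mul_index (stabilizer M b), index_stabilizer_of_transitive]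
    congr 1
    refine Nat.card_congr
      { toFun := fun x => ⟨⟨x.1, x.2.1⟩, x.2.2⟩
        invFun := fun x => ⟨x.1.1, x.1.2, x.2⟩
        left_inv := fun x => rfl
        right_inv := fun x => rfl }
  have hconjX : ∀ b : Ω, b ∈ fixedPoints T Ω → ¬ 2 ∣ T.relIndex (M ⊓ stabilizer G b) := by
    intro b hb
    have hle : T ≤ M ⊓ stabilizer G b := fun t ht => ⟨(hTX ht).1, hb ⟨t, ht⟩⟩
    have h1 := Subgroup.card_mul_index (T.subgroupOf X)
    have h2 := Subgroup.card_mul_index (T.subgroupOf (M ⊓ stabilizer G b))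
    rw [Nat.card_congr (Subgroup.subgroupOfEquivOfLe hTX).toEquiv] at h1
    rw [Nat.card_congr (Subgroup.subgroupOfEquivOfLe hle).toEquiv] at h2
    have h3 : Nat.card ↥(M ⊓ stabilizer G b) = Nat.card X :=
      Nat.eq_of_mul_eq_mul_right (by omega : 0 < Nat.card Ω) ((hcardM b).trans (hcardM a).symm)
    rw [h3] at h2
    rw [Subgroup.relIndex, Nat.eq_of_mul_eq_mul_left Nat.card_pos (h2.trans h1.symm)]
    exact hTidx
  -- the fixed point set of `T`
  set D := fixedPoints T Ω with hD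
  have haD : a ∈ D := fun t => (hTX t.2).2
  have hDpar : 2 ∣ Nat.card D := by
    have := hTp.card_modEq_card_fixedPoints Ω
    rw [← hD, Nat.ModEq] at this
    omega
  have hD2 : ∀ u v u' v' : Ω, u ∈ D → v ∈ D → u' ∈ D → v' ∈ D → u ≠ v → u' ≠ v' →
      ∃ g : G, T.map (MulAut.conj g).toMonoidHom = T ∧ g • u = u' ∧ g • v = v' := by
    intro u v u' v' hu hv hu' hv' huv huv'
    obtain ⟨g, hgu, hgv⟩ := is_two_pretransitive_iff.1 h2 huv huv'
    set Y := M ⊓ stabilizer G u' ⊓ stabilizer G v'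
    have hTY : T ≤ Y := fun t ht => ⟨⟨(hTX ht).1, hu' ⟨t, ht⟩⟩, hv' ⟨t, ht⟩⟩
    have hT'Y : T.map (MulAut.conj g).toMonoidHom ≤ Y := by
      rintro _ ⟨t, ht, rfl⟩
      refine ⟨⟨‹M.Normal›.conj_mem t (hTX ht).1 g, ?_⟩, ?_⟩
      · show (g * t * g⁻¹) • u' = u'
        rw [← hgu, ← mul_smul, inv_mul_cancel_right, mul_smul]
        congr 1
        exact hu ⟨t, ht⟩
      · show (g * t * g⁻¹) • v' = v'
        rw [← hgv, ← mul_smul, inv_mul_cancel_right, mul_smul]
        congr 1
        exact hv ⟨t, ht⟩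
    have hidx : ¬ 2 ∣ T.relIndex Y := fun h =>
      hconjX u' hu' (h.trans (Dvd.intro _ (Subgroup.relIndex_mul_relIndex T Y
        (M ⊓ stabilizer G u') hTY inf_le_left)))
    have hcard : Nat.card T = Nat.card ↥(T.map (MulAut.conj g).toMonoidHom) :=
      Nat.card_congr (T.equivMapOfInjective _ (MulAut.conj g).injective).toEquiv
    obtain ⟨y, hy, hyT⟩ := exists_conj_eq_of_not_dvd_relIndex hTY hT'Y hTp hcard.symm hidx
    refine ⟨y⁻¹ * g, ?_, ?_, ?_⟩
    · rw [map_mul, show (MulAut.conj y⁻¹ * MulAut.conj g).toMonoidHom =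
          (MulAut.conj y⁻¹).toMonoidHom.comp (MulAut.conj g).toMonoidHom from rfl,
        ← Subgroup.map_map, ← hyT, Subgroup.map_map]
      convert Subgroup.map_id T using 2
      ext t
      simp [mul_assoc]
    · rw [mul_smul, hgu, inv_smul_eq_iff]; exact hy.1.2.symm
    · rw [mul_smul, hgv, inv_smul_eq_iff]; exact hy.2.symm
  -- the normaliser of `T` in `M` and its action on `D`
  let L : Subgroup G :=
    { carrier := {g | g ∈ M ∧ T.map (MulAut.conj g).toMonoidHom = T}
      mul_mem' := by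
        rintro g h ⟨hg, hg'⟩ ⟨hh, hh'⟩
        refine ⟨M.mul_mem hg hh, ?_⟩
        rw [map_mul, show (MulAut.conj g * MulAut.conj h).toMonoidHom =
            (MulAut.conj g).toMonoidHom.comp (MulAut.conj h).toMonoidHom from rfl,
          ← Subgroup.map_map, hh', hg']
      one_mem' := by
        refine ⟨M.one_mem, ?_⟩
        convert Subgroup.map_id T using 2
        ext t
        simp
      inv_mem' := by
        rintro g ⟨hg, hg'⟩
        refine ⟨M.inv_mem hg, ?_⟩
        conv_lhs => rw [← hg', Subgroup.map_map]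
        convert Subgroup.map_id T using 2
        ext t
        simp [mul_assoc] }
  have hTL : T ≤ L := fun t ht => ⟨(hTX ht).1, by
    ext y
    simp only [Subgroup.mem_map, MulEquiv.coe_toMonoidHom, MulAut.conj_apply]
    constructor
    · rintro ⟨z, hz, rfl⟩; exact T.mul_mem (T.mul_mem ht hz) (T.inv_mem ht)
    · intro hy
      exact ⟨t⁻¹ * y * t, T.mul_mem (T.mul_mem (T.inv_mem ht) hy) ht, by group⟩⟩
  let actD : MulAction L D :=
    { smul := fun g x => ⟨(g : G) • (x : Ω), mem_fixedPoints_of_map_conj g.2.2 x.2⟩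
      one_smul := fun x => Subtype.ext (one_smul G (x : Ω))
      mul_smul := fun g h x => Subtype.ext (mul_smul (g : G) (h : G) (x : Ω)) }
  have hLtrans : IsPretransitive L D := by
    constructor
    rintro ⟨u, hu⟩ ⟨v, hv⟩
    obtain ⟨m, hm⟩ := exists_smul_eq M u v
    set Y := M ⊓ stabilizer G v
    have hTY : T ≤ Y := fun t ht => ⟨(hTX ht).1, hv ⟨t, ht⟩⟩
    have hT'Y : T.map (MulAut.conj (m : G)).toMonoidHom ≤ Y := by
      rintro _ ⟨t, ht, rfl⟩
      refine ⟨‹M.Normal›.conj_mem t (hTX ht).1 m, ?_⟩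
      show ((m : G) * t * (m : G)⁻¹) • v = v
      rw [← hm, Subgroup.smul_def, ← mul_smul, inv_mul_cancel_right, mul_smul]
      congr 1
      exact hu ⟨t, ht⟩
    have hcard : Nat.card T = Nat.card ↥(T.map (MulAut.conj (m : G)).toMonoidHom) :=
      Nat.card_congr (T.equivMapOfInjective _ (MulAut.conj (m : G)).injective).toEquiv
    obtain ⟨y, hy, hyT⟩ :=
      exists_conj_eq_of_not_dvd_relIndex hTY hT'Y hTp hcard.symm (hconjX v hv)
    refine ⟨⟨y⁻¹ * m, M.mul_mem (M.inv_mem hy.1) m.2, ?_⟩, ?_⟩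
    · rw [map_mul, show (MulAut.conj y⁻¹ * MulAut.conj (m : G)).toMonoidHom =
          (MulAut.conj y⁻¹).toMonoidHom.comp (MulAut.conj (m : G)).toMonoidHom from rfl,
        ← Subgroup.map_map, ← hyT, Subgroup.map_map]
      convert Subgroup.map_id T using 2
      ext t
      simp [mul_assoc]
    · apply Subtype.ext
      show (y⁻¹ * (m : G)) • u = v
      rw [mul_smul]
      show y⁻¹ • m • u = v
      rw [hm, inv_smul_eq_iff]; exact hy.2.symm
  let φ : L →* Equiv.Perm D := MulAction.toPermHom L D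
  have hWtrans : ∀ x y : D, ∃ w ∈ φ.range, w x = y := fun x y =>
    let ⟨g, hg⟩ := exists_smul_eq L x y; ⟨φ g, ⟨g, rfl⟩, hg⟩
  have hW4 : ¬ 4 ∣ Nat.card φ.range := by
    intro h4
    rw [← Subgroup.index_ker] at h4
    have hker : T.subgroupOf L ≤ φ.ker := by
      intro t ht
      rw [MonoidHom.mem_ker]
      refine Equiv.ext fun x => Subtype.ext ?_
      exact x.2 ⟨(t : G), ht⟩
    have h5 : 4 ∣ T.relIndex L := h4.trans (Subgroup.index_dvd_of_le hker)
    have hLM : L ≤ M := fun g hg => hg.1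
    have h6 : 4 ∣ T.relIndex M :=
      h5.trans (Dvd.intro _ (Subgroup.relIndex_mul_relIndex T L M hTL hLM))
    have h7 : T.relIndex M = T.relIndex X * Nat.card Ω := by
      rw [← Subgroup.relIndex_mul_relIndex T X M hTX inf_le_left]
      congr 1
      rw [Subgroup.relIndex, ← index_stabilizer_of_transitive M a]
      congr 1
      ext g
      simp [Subgroup.mem_subgroupOf, hX, Subgroup.smul_def]
    obtain ⟨t, ht⟩ := Nat.odd_iff.2 (Nat.two_dvd_ne_zero.1 hTidx)
    obtain ⟨j, hj⟩ := h6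
    have hm4 : Nat.card Ω = 4 * (Nat.card Ω / 4) + 2 := by omega
    rw [h7, ht, hm4] at hj
    have : (2 * t + 1) * (4 * (Nat.card Ω / 4) + 2) =
        4 * ((2 * t + 1) * (Nat.card Ω / 4) + t) + 2 := by ring
    omega
  have hW2 : 2 ∣ Nat.card φ.range := by
    have : IsPretransitive φ.range D := ⟨fun x y => by
      obtain ⟨w, hw, hwx⟩ := hWtrans x y
      exact ⟨⟨w, hw⟩, hwx⟩⟩
    exact hDpar.trans (index_stabilizer_of_transitive φ.range (⟨a, haD⟩ : D) ▸
      Subgroup.index_dvd_card _)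
  obtain ⟨K, hKodd, hK⟩ := exists_index_two_of_two_mul_odd hW2 hW4
  -- the subgroup generated by elements of odd order acts trivially on `D`
  let O : Subgroup (Equiv.Perm D) := Subgroup.closure {w | w ∈ φ.range ∧ Odd (orderOf w)}
  have hOK : O ≤ K.map φ.range.subtype := by
    rw [Subgroup.closure_le]
    rintro w ⟨hw, hwo⟩
    exact ⟨⟨w, hw⟩, hK _ (by rw [Subgroup.orderOf_mk]; exact hwo), rfl⟩
  have hOodd : Odd (Nat.card O) := by
    have h := Subgroup.card_dvd_of_le hOK
    rw [Subgroup.card_map_of_injective φ.range.subtype_injective] at h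
    exact hKodd.of_dvd_nat h
  have hOfix : ∀ w ∈ φ.range, Odd (orderOf w) → w = 1 := by
    intro w hw hwo
    by_contra hne
    obtain ⟨x₀, hx₀⟩ : ∃ x, w x ≠ x := by
      by_contra h
      push Not at h
      exact hne (Equiv.ext h)
    have hwO : w ∈ O := Subgroup.subset_closure ⟨hw, hwo⟩
    have hall : ∀ x y : D, ∃ o : O, (o : Equiv.Perm D) x = y := by
      intro x y
      by_cases hxy : x = y
      · exact ⟨1, by simp [hxy]⟩
      obtain ⟨g, hgT, hgx, hgy⟩ := hD2 x₀ (w x₀) x y x₀.2 (w x₀).2 x.2 y.2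
        (fun h => hx₀ (Subtype.ext h.symm)) (fun h => hxy (Subtype.ext h))
      have hginv : T.map (MulAut.conj g⁻¹).toMonoidHom = T := by
        conv_lhs => rw [← hgT, Subgroup.map_map]
        convert Subgroup.map_id T using 2
        ext t
        simp [mul_assoc]
      let gp : Equiv.Perm D :=
        { toFun := fun z => ⟨g • (z : Ω), mem_fixedPoints_of_map_conj hgT z.2⟩
          invFun := fun z => ⟨g⁻¹ • (z : Ω), mem_fixedPoints_of_map_conj hginv z.2⟩
          left_inv := fun z => Subtype.ext (inv_smul_smul g (z : Ω))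
          right_inv := fun z => Subtype.ext (smul_inv_smul g (z : Ω)) }
      have hnorm : ∀ v ∈ φ.range, gp * v * gp⁻¹ ∈ φ.range := by
        rintro _ ⟨l, rfl⟩
        have hl : (g * (l : G) * g⁻¹) ∈ L := by
          refine ⟨‹M.Normal›.conj_mem _ l.2.1 g, ?_⟩
          rw [map_mul, map_mul, show (MulAut.conj g * MulAut.conj (l : G) *
              MulAut.conj g⁻¹).toMonoidHom = ((MulAut.conj g).toMonoidHom.comp
              (MulAut.conj (l : G)).toMonoidHom).comp (MulAut.conj g⁻¹).toMonoidHom from rfl,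
            ← Subgroup.map_map, ← Subgroup.map_map, hginv, l.2.2, hgT]
        refine ⟨⟨_, hl⟩, Equiv.ext fun z => Subtype.ext ?_⟩
        show (g * (l : G) * g⁻¹) • (z : Ω) = g • (l : G) • g⁻¹ • (z : Ω)
        simp only [mul_smul]
      have hgx' : gp x₀ = x := Subtype.ext hgx
      have hgy' : gp (w x₀) = y := Subtype.ext hgy
      refine ⟨⟨gp * w * gp⁻¹, Subgroup.subset_closure ⟨hnorm w hw, ?_⟩⟩, ?_⟩
      · rwa [show orderOf (gp * w * gp⁻¹) = orderOf w from (MulAut.conj gp).orderOf_eq w]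
      · show gp (w (gp.symm x)) = y
        rw [← hgx', Equiv.symm_apply_apply, hgy']
    have : IsPretransitive O D := ⟨hall⟩
    have h : 2 ∣ Nat.card O := hDpar.trans (index_stabilizer_of_transitive O (⟨a, haD⟩ : D) ▸
      Subgroup.index_dvd_card _)
    rw [Nat.odd_iff] at hOodd
    omega
  have hWcard : Nat.card φ.range = 2 := by
    by_contra hne
    obtain ⟨p, hp, hpd, hp2⟩ : ∃ p, p.Prime ∧ p ∣ Nat.card φ.range ∧ p ≠ 2 := by
      obtain ⟨j, hj⟩ := hW2
      have hj1 : j ≠ 1 := by omega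
      obtain ⟨p, hp, hpd⟩ := Nat.exists_prime_and_dvd hj1
      refine ⟨p, hp, hj ▸ hpd.mul_left 2, fun h => hW4 ?_⟩
      subst h
      obtain ⟨i, hi⟩ := hpd
      exact ⟨i, by rw [hj, hi]; ring⟩
    have := Fact.mk hp
    obtain ⟨⟨w, hw⟩, hwo⟩ := exists_prime_orderOf_dvd_card' p hpd
    rw [Subgroup.orderOf_mk] at hwo
    have := hOfix w hw (hwo ▸ hp.odd_of_ne_two hp2)
    rw [this, orderOf_one] at hwo
    exact hp.one_lt.ne hwo
  have hDcard : Nat.card D = 2 := by
    have : IsPretransitive φ.range D := ⟨fun x y => by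
      obtain ⟨w, hw, hwx⟩ := hWtrans x y
      exact ⟨⟨w, hw⟩, hwx⟩⟩
    have h := index_stabilizer_of_transitive φ.range (⟨a, haD⟩ : D)
    have hle : Nat.card D ≤ 2 :=
      hWcard ▸ h ▸ Nat.le_of_dvd Nat.card_pos (Subgroup.index_dvd_card _)
    have : 0 < Nat.card D := Nat.card_pos_iff.2 ⟨⟨⟨a, haD⟩⟩, inferInstance⟩
    omega
  obtain ⟨b, hbD, hba, hbuniq⟩ : ∃ b : Ω, b ∈ D ∧ b ≠ a ∧ ∀ c ∈ D, c ≠ a → c = b := by
    obtain ⟨x, y, hxy, huniv⟩ := Nat.card_eq_two_iff.1 hDcard
    have hmem : ∀ z : D, z = x ∨ z = y := by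
      intro z
      have : z ∈ ({x, y} : Set D) := huniv.symm ▸ Set.mem_univ z
      simpa using this
    rcases hmem ⟨a, haD⟩ with h | h
    · refine ⟨y, y.2, fun hy => hxy ?_, fun c hc hca => ?_⟩
      · rw [← h]; exact Subtype.ext hy.symm
      · rcases hmem ⟨c, hc⟩ with h' | h'
        · exact absurd (congrArg Subtype.val (h'.trans h.symm)) hca
        · exact congrArg Subtype.val h'
    · refine ⟨x, x.2, fun hx => hxy ?_, fun c hc hca => ?_⟩
      · rw [← h]; exact Subtype.ext hx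
      · rcases hmem ⟨c, hc⟩ with h' | h'
        · exact congrArg Subtype.val h'
        · exact absurd (congrArg Subtype.val (h'.trans h.symm)) hca
  -- every point other than `a` can be moved to `b` inside `X`
  have horb : ∀ c : Ω, c ≠ a → ∃ x ∈ X, x • c = b := by
    intro c hca
    obtain ⟨g, hga, hgb⟩ := is_two_pretransitive_iff.1 h2 hba.symm hca.symm
    set Xc := X ⊓ stabilizer G c
    have hcard : Nat.card T = Nat.card ↥(T.map (MulAut.conj g).toMonoidHom) :=
      Nat.card_congr (T.equivMapOfInjective _ (MulAut.conj g).injective).toEquiv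
    have hT'le : T.map (MulAut.conj g).toMonoidHom ≤ Xc := by
      rintro _ ⟨t, ht, rfl⟩
      refine ⟨⟨‹M.Normal›.conj_mem t (hTX ht).1 g, ?_⟩, ?_⟩
      · show (g * t * g⁻¹) • a = a
        rw [mul_smul, mul_smul, inv_smul_eq_iff.2 hga.symm, (hTX ht).2, hga]
      · show (g * t * g⁻¹) • c = c
        have := hbD ⟨t, ht⟩
        rw [Subgroup.smul_def] at this
        rw [mul_smul, mul_smul, inv_smul_eq_iff.2 hgb.symm, this, hgb]
    obtain ⟨x, hx, hxT⟩ := exists_conj_eq_of_not_dvd_relIndex hTX (hT'le.trans inf_le_left)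
      hTp hcard.symm hTidx
    refine ⟨x⁻¹, X.inv_mem hx, hbuniq _ ?_ ?_⟩
    · intro t
      show (t : G) • x⁻¹ • c = x⁻¹ • c
      have hmem : x * (t : G) * x⁻¹ ∈ T.map (MulAut.conj g).toMonoidHom := by
        rw [← hxT]
        exact ⟨t, t.2, rfl⟩
      have h' : (x * (t : G) * x⁻¹) • c = c := (hT'le hmem).2
      rw [mul_smul, mul_smul] at h'
      rw [eq_inv_smul_iff, h']
    · intro h
      apply hca
      rw [inv_smul_eq_iff] at h
      rw [h]
      exact hx.2
  intro c d hca hda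
  obtain ⟨x, hx, hxb⟩ := horb c hca
  obtain ⟨y, hy, hyb⟩ := horb d hda
  exact ⟨y⁻¹ * x, X.mul_mem (X.inv_mem hy) hx, by rw [mul_smul, hxb, ← hyb, inv_smul_smul]⟩

/-- The socle of a doubly transitive group of degree `≡ 2 (mod 4)` greater than `2`. -/
theorem exists_simple_socle_of_two_mod_four [Finite G] [FaithfulSMul G Ω]
    (h2 : IsMultiplyPretransitive G Ω 2) (hn : Nat.card Ω % 4 = 2) (hn2 : 2 < Nat.card Ω) :
    ∃ M : Subgroup G, M.Normal ∧ M ≠ ⊥ ∧ (∀ N : Subgroup G, N.Normal → N ≠ ⊥ → M ≤ N) ∧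
      IsSimpleGroup ↥M ∧ IsMultiplyPretransitive ↥M Ω 2 ∧
      Subgroup.centralizer (M : Set G) = ⊥ := by
  classical
  have hne : ∃ M : Subgroup G, M.Normal ∧ M ≠ ⊥ := by
    refine ⟨⊤, inferInstance, fun h => ?_⟩
    obtain ⟨⟨a⟩, _⟩ := Nat.card_pos_iff.1 (by omega : 0 < Nat.card Ω)
    have : IsPretransitive G Ω := (isPreprimitive_of_is_two_pretransitive h2).toIsPretransitive
    have hd := index_stabilizer_of_transitive G a
    rw [show stabilizer G a = ⊤ from le_antisymm le_top (h ▸ bot_le), Subgroup.index_top] at hd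
    omega
  obtain ⟨M, ⟨hMn, hMne⟩, hMmin⟩ : ∃ M : Subgroup G, (M.Normal ∧ M ≠ ⊥) ∧
      ∀ N : Subgroup G, N.Normal → N ≠ ⊥ → Nat.card M ≤ Nat.card N := by
    have h : ∃ k, ∃ M : Subgroup G, (M.Normal ∧ M ≠ ⊥) ∧ Nat.card M = k :=
      let ⟨M, hM⟩ := hne; ⟨_, M, hM, rfl⟩
    obtain ⟨M, hM, hMc⟩ := Nat.find_spec h
    exact ⟨M, hM, fun N hN hN' => hMc ▸ Nat.find_min' h ⟨N, ⟨hN, hN'⟩, rfl⟩⟩
  have hC := centralizer_eq_bot_of_two_mod_four h2 hn hn2 M hMne
  have hmin : ∀ N : Subgroup G, N.Normal → N ≠ ⊥ → M ≤ N := by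
    intro N hN hNne
    by_cases hinf : M ⊓ N = ⊥
    · exfalso
      apply hNne
      rw [eq_bot_iff, ← hC]
      intro y hy
      rw [Subgroup.mem_centralizer_iff]
      intro x hx
      exact Subgroup.commute_of_normal_of_disjoint M N hMn hN (disjoint_iff.2 hinf) x y hx hy
    · exact inf_eq_left.1
        (Subgroup.eq_of_le_of_card_ge inf_le_left (hMmin _ inferInstance hinf))
  have hM2 := isTwoPretransitive_normal_of_two_mod_four h2 hn hn2 M hMne
  refine ⟨M, hMn, hMne, hmin, ?_, hM2, hC⟩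
  have : Nontrivial M := Subgroup.nontrivial_iff_ne_bot _ |>.2 hMne
  refine { eq_bot_or_eq_top_of_normal := fun N hN => ?_ }
  by_contra hcon
  push Not at hcon
  obtain ⟨hNbot, hNtop⟩ := hcon
  obtain ⟨N₀, ⟨hN₀n, hN₀ne⟩, hN₀N, hN₀min⟩ : ∃ N₀ : Subgroup M, (N₀.Normal ∧ N₀ ≠ ⊥) ∧ N₀ ≤ N ∧
      ∀ K : Subgroup M, K.Normal → K ≠ ⊥ → K ≤ N₀ → K = N₀ := by
    have h : ∃ k, ∃ K : Subgroup M, (K.Normal ∧ K ≠ ⊥ ∧ K ≤ N) ∧ Nat.card K = k :=
      ⟨_, N, ⟨hN, hNbot, le_rfl⟩, rfl⟩
    obtain ⟨K, ⟨hKn, hKne, hKN⟩, hKc⟩ := Nat.find_spec h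
    exact ⟨K, ⟨hKn, hKne⟩, hKN, fun L hL hLne hLK => Subgroup.eq_of_le_of_card_ge hLK
      (hKc ▸ Nat.find_min' h ⟨L, ⟨hL, hLne, hLK.trans hKN⟩, rfl⟩)⟩
  have hC' := centralizer_eq_bot_of_two_mod_four hM2 hn hn2 N₀ hN₀ne
  have hnormG : (N₀.map M.subtype).Normal := by
    constructor
    rintro _ ⟨x, hx, rfl⟩ g
    let e : MulAut M := MulAut.conjNormal g
    let N₁ : Subgroup M := N₀.map e.toMonoidHom
    have hN₁n : N₁.Normal := hN₀n.map _ e.surjective
    have hN₁ : N₀ ≤ N₁ := by
      by_contra hle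
      have hinf : N₀ ⊓ N₁ = ⊥ := by
        by_contra hne'
        exact hle (inf_eq_left.1 (hN₀min _ inferInstance hne' inf_le_left))
      have : N₁ ≤ Subgroup.centralizer (N₀ : Set M) := by
        intro y hy
        rw [Subgroup.mem_centralizer_iff]
        intro z hz
        exact Subgroup.commute_of_normal_of_disjoint N₀ N₁ hN₀n hN₁n (disjoint_iff.2 hinf) z y hz hy
      rw [hC', le_bot_iff] at this
      exact hN₀ne ((Subgroup.map_eq_bot_iff_of_injective N₀ (f := e.toMonoidHom) e.injective).1 this)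
    have hN₁eq : N₀ = N₁ := Subgroup.eq_of_le_of_card_ge hN₁
      (Subgroup.card_map_of_injective (f := e.toMonoidHom) e.injective).le
    refine ⟨e x, ?_, rfl⟩
    show e x ∈ N₀
    exact hN₁eq ▸ Subgroup.mem_map_of_mem e.toMonoidHom hx
  have hle := hmin _ hnormG
    (fun h => hN₀ne ((Subgroup.map_eq_bot_iff_of_injective N₀ M.subtype_injective).1 h))
  apply hNtop
  rw [eq_top_iff]
  intro x _
  obtain ⟨y, hy, hyx⟩ := hle x.2
  exact hN₀N (Subtype.ext hyx ▸ hy)

end CfsgLib.Recognition
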