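import Cfsg.Agent.Lib.Characters.Decomp
import Cfsg.Agent.Lib.Small.Intersection
import Mathlib.GroupTheory.SpecificGroups.Cyclic

/-!
Groups with an elementary abelian self-centralizing Sylow 3-subgroup of order 9:
local structure and the triangle lemma for products of elements of order 3.
-/

set_option autoImplicit false

namespace CfsgLib.ThreeSelfCentral

set_option linter.unusedSectionVars false

open Subgroup
open scoped Pointwise

variable {G : Type*} [Group G]

/-- `S` is a Sylow 3-subgroup of order 9 and exponent 3 equal to the centralizer of each of its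
non-identity elements. -/
structure Hyp (S : Subgroup G) : Prop where
  card : Nat.card S = 9
  exp3 : ∀ s ∈ S, s ^ 3 = 1
  cent : ∀ s ∈ S, s ≠ 1 → centralizer ({s} : Set G) = S
  syl : ∃ P : Sylow 3 G, (P : Subgroup G) = S

/-- The trace of the class of `s` on `S`. -/
def orb (S : Subgroup G) (s : G) : Set G := {x | x ∈ S ∧ IsConj s x}

theorem isConj_of_eq {a b : G} (g : G) (h : g * a * g⁻¹ = b) : IsConj a b :=
  isConj_iff.2 ⟨g, h⟩

theorem isConj_inv_inv {a b : G} (h : IsConj a b) : IsConj a⁻¹ b⁻¹ := by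
  obtain ⟨g, rfl⟩ := isConj_iff.1 h
  exact isConj_of_eq g (by group)

theorem inv_eq_mul_self {x : G} (hx : x ^ 3 = 1) : x⁻¹ = x * x :=
  inv_eq_of_mul_eq_one_right (by rw [← hx]; simp [pow_succ, mul_assoc])

/-- In a triangle group `(3,3,3)` the elements `x y⁻¹`, `y⁻¹ x` commute, and generate a subgroup
normalized by `x`. -/
theorem triangle {x y : G} (hx : x ^ 3 = 1) (hy : y ^ 3 = 1) (hxy : (x * y) ^ 3 = 1) :
    Commute (x * y⁻¹) (y⁻¹ * x) ∧ x * (y⁻¹ * x) * x⁻¹ = x * y⁻¹ ∧
      x * (x * y⁻¹) * x⁻¹ = (x * y⁻¹ * (y⁻¹ * x))⁻¹ := by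
  have hyy : y⁻¹ * y⁻¹ = y := by
    rw [← mul_inv_rev, ← inv_eq_mul_self hy, inv_inv]
  have hxx : x * x = x⁻¹ := (inv_eq_mul_self hx).symm
  have hab : x * y⁻¹ * (y⁻¹ * x) = x * y * x := by
    calc x * y⁻¹ * (y⁻¹ * x) = x * (y⁻¹ * y⁻¹) * x := by group
      _ = _ := by rw [hyy]
  have hw : (x * y * x) * (y * x * y) = 1 := by
    rw [← hxy]
    simp [pow_succ, mul_assoc]
  have hba : y⁻¹ * x * (x * y⁻¹) = x * y * x := by
    calc y⁻¹ * x * (x * y⁻¹) = y⁻¹ * (x * x) * y⁻¹ := by group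
      _ = y⁻¹ * x⁻¹ * y⁻¹ := by rw [hxx]
      _ = (y * x * y)⁻¹ := by group
      _ = x * y * x := (eq_inv_of_mul_eq_one_left hw).symm
  refine ⟨hab.trans hba.symm, by group, ?_⟩
  rw [hab]
  calc x * (x * y⁻¹) * x⁻¹ = (x * x) * y⁻¹ * x⁻¹ := by group
    _ = x⁻¹ * y⁻¹ * x⁻¹ := by rw [hxx]
    _ = _ := by group

section
variable [Finite G]

theorem card_centralizer_of_isConj {a b : G} (h : IsConj a b) :
    Nat.card (centralizer ({a} : Set G)) = Nat.card (centralizer ({b} : Set G)) := by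
  have h1 := CfsgLib.Characters.card_isConj_mul_card_centralizer a
  have h2 := CfsgLib.Characters.card_isConj_mul_card_centralizer b
  have e : Nat.card {x : G // IsConj a x} = Nat.card {x : G // IsConj b x} :=
    Nat.card_congr (Equiv.subtypeEquivRight fun x => ⟨h.symm.trans, h.trans⟩)
  rw [e, ← h2] at h1
  have : Nonempty {x : G // IsConj b x} := ⟨⟨b, IsConj.refl b⟩⟩
  exact Nat.eq_of_mul_eq_mul_left Nat.card_pos h1

variable {S : Subgroup G} (hS : Hyp S)
include hS

theorem mul_comm_mem {s t : G} (hs : s ∈ S) (ht : t ∈ S) : s * t = t * s := by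
  by_cases h : s = 1
  · simp [h]
  · have := hS.cent s hs h
    rw [← this] at ht
    exact (mem_centralizer_singleton_iff.1 ht).symm

theorem card_centralizer {s : G} (hs : s ∈ S) (h1 : s ≠ 1) :
    Nat.card (centralizer ({s} : Set G)) = 9 := by
  rw [hS.cent s hs h1, hS.card]

theorem inv_ne_self {s : G} (hs : s ∈ S) (h1 : s ≠ 1) : s⁻¹ ≠ s := by
  intro h
  refine h1 ?_
  have h3 := inv_eq_mul_self (hS.exp3 s hs)
  rw [h] at h3
  exact mul_eq_left.1 h3.symm

theorem le_of_isPGroup {H : Subgroup G} (hH : IsPGroup 3 H) {t : G} (ht : t ∈ H) (htS : t ∈ S)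
    (ht1 : t ≠ 1) : H ≤ S := by
  obtain ⟨R, hR⟩ := hH.exists_le_sylow
  obtain ⟨P, hP⟩ := hS.syl
  have hc : Nat.card R = 3 ^ 2 := by
    rw [R.card_eq_multiplicity, ← P.card_eq_multiplicity, hP, hS.card]; norm_num
  have hcomm := IsPGroup.commutative_of_card_eq_prime_sq hc
  intro h hh
  rw [← hS.cent t htS ht1, mem_centralizer_singleton_iff]
  exact congrArg Subtype.val (hcomm ⟨h, hR hh⟩ ⟨t, hR ht⟩)

theorem exists_conj_mem {g : G} (hg : g ^ 3 = 1) : ∃ s ∈ S, IsConj g s := by
  obtain ⟨P, rfl⟩ := hS.syl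
  have hp : IsPGroup 3 (zpowers g) := by
    rintro ⟨x, k, rfl⟩
    refine ⟨1, Subtype.ext ?_⟩
    change (g ^ k) ^ (3 ^ 1) = 1
    rw [← zpow_natCast, ← zpow_mul, mul_comm, zpow_mul, zpow_natCast, pow_one, hg, one_zpow]
  obtain ⟨R, hR⟩ := hp.exists_le_sylow
  obtain ⟨c, hc⟩ := MulAction.exists_smul_eq G R P
  refine ⟨c * g * c⁻¹, ?_, isConj_of_eq c rfl⟩
  rw [← hc]
  show c * g * c⁻¹ ∈ (MulAut.conj c • (R : Subgroup G))
  exact Subgroup.smul_mem_pointwise_smul _ _ _ (hR (mem_zpowers g))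

theorem card_centralizer_three {g : G} (hg : g ^ 3 = 1) (h1 : g ≠ 1) :
    Nat.card (centralizer ({g} : Set G)) = 9 := by
  obtain ⟨s, hs, hc⟩ := exists_conj_mem hS hg
  rw [card_centralizer_of_isConj hc]
  refine card_centralizer hS hs fun h => h1 ?_
  rw [h] at hc
  exact isConj_one_left.1 hc

theorem isPGroup_centralizer_three {g : G} (hg : g ^ 3 = 1) (h1 : g ≠ 1) :
    IsPGroup 3 (centralizer ({g} : Set G)) :=
  IsPGroup.of_card (n := 2) (by rw [card_centralizer_three hS hg h1]; norm_num)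

/-- A product relation `x y = t` between elements of order 3, `t ∈ S`, either takes place in `S`
or involves a single class. -/
theorem mem_or_conj {x y t : G} (hx : x ^ 3 = 1) (hy : y ^ 3 = 1) (hx1 : x ≠ 1)
    (ht : t ∈ S) (ht1 : t ≠ 1) (hxy : x * y = t) :
    (x ∈ S ∧ y ∈ S) ∨ (IsConj x y ∧ IsConj x t⁻¹) := by
  obtain ⟨hcomm, hconjb, hconja⟩ := triangle hx hy (by rw [hxy]; exact hS.exp3 t ht)
  set a := x * y⁻¹ with ha
  set b := y⁻¹ * x with hb
  set K : Subgroup G := closure {a, b} with hK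
  have haK : a ∈ K := subset_closure (by simp)
  have hbK : b ∈ K := subset_closure (by simp)
  have hKcomm : ∀ g ∈ K, ∀ h ∈ K, g * h = h * g := by
    have h1 : K ≤ centralizer ({a, b} : Set G) := by
      rw [hK, closure_le]
      rintro g hg
      rw [SetLike.mem_coe, mem_centralizer_iff]
      rintro h hh
      simp only [Set.mem_insert_iff, Set.mem_singleton_iff] at hg hh
      rcases hg with rfl | rfl <;> rcases hh with rfl | rfl <;>
        first | rfl | exact hcomm.eq | exact hcomm.eq.symm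
    intro g hg h hh
    have h2 : K ≤ centralizer ({g} : Set G) := by
      rw [hK, closure_le]
      intro z hz
      rw [SetLike.mem_coe, mem_centralizer_singleton_iff]
      exact mem_centralizer_iff.1 (h1 hg) z hz
    exact (mem_centralizer_singleton_iff.1 (h2 hh)).symm
  have hxconj : ∀ g ∈ K, x * g * x⁻¹ ∈ K := by
    intro g hg
    have : K ≤ K.comap (MulAut.conj x).toMonoidHom := by
      rw [hK, closure_le]
      rintro g hg
      simp only [Set.mem_insert_iff, Set.mem_singleton_iff] at hg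
      rw [SetLike.mem_coe, mem_comap]
      change x * g * x⁻¹ ∈ closure {a, b}
      rcases hg with rfl | rfl
      · rw [hconja]; exact inv_mem (mul_mem haK hbK)
      · rw [hconjb]; exact haK
    exact this hg
  have hxinv : ∀ g ∈ K, x⁻¹ * g * x ∈ K := by
    intro g hg
    have h2 := hxconj _ (hxconj g hg)
    have e : x⁻¹ * g * x = x * (x * g * x⁻¹) * x⁻¹ := by
      calc x⁻¹ * g * x = x⁻¹ * g * (x⁻¹)⁻¹ := by rw [inv_inv]
        _ = (x * x) * g * (x * x)⁻¹ := by rw [inv_eq_mul_self hx]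
        _ = _ := by group
    rw [e]; exact h2
  have hyK : x⁻¹ * y ∈ K := by
    have e : x⁻¹ * y = b⁻¹ := by rw [hb]; group
    rw [e]; exact inv_mem hbK
  by_cases hP : IsPGroup 3 K
  · left
    have hz : zpowers x ≤ normalizer (K : Set G) := by
      rw [zpowers_le, mem_normalizer_iff]
      refine fun g => ⟨hxconj g, fun h => ?_⟩
      have := hxinv _ h
      simpa [mul_assoc] using this
    have hpx : IsPGroup 3 (zpowers x) :=
      IsPGroup.of_card (n := 1) (by
        rw [Nat.card_zpowers, pow_one]; exact orderOf_eq_prime hx hx1)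
    have hH : IsPGroup 3 (zpowers x ⊔ K : Subgroup G) := hpx.to_sup_of_normal_right' hP hz
    have hxH : x ∈ zpowers x ⊔ K := mem_sup_left (mem_zpowers x)
    have hyH : y ∈ zpowers x ⊔ K := by
      have : y = x * (x⁻¹ * y) := by group
      rw [this]; exact mul_mem hxH (mem_sup_right hyK)
    have hle := le_of_isPGroup hS hH (hxy ▸ mul_mem hxH hyH) ht ht1
    exact ⟨hle hxH, hle hyH⟩
  · right
    have h3 : ¬ 3 ∣ Nat.card K := by
      intro h
      obtain ⟨k, hk⟩ := exists_prime_orderOf_dvd_card' 3 h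
      have hk3 : (k : G) ^ 3 = 1 := by
        have := pow_orderOf_eq_one k
        rw [hk] at this
        exact_mod_cast this
      have hk1 : (k : G) ≠ 1 := fun h => by
        rw [OneMemClass.coe_eq_one.1 h, orderOf_one] at hk; omega
      refine hP ((isPGroup_centralizer_three hS hk3 hk1).to_le fun g hg => ?_)
      exact mem_centralizer_singleton_iff.2 (hKcomm g hg k k.2)
    let f : K → K := fun k => ⟨x⁻¹ * k * x * (k : G)⁻¹, mul_mem (hxinv k k.2) (inv_mem k.2)⟩
    have hinj : Function.Injective f := by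
      intro k k' h
      have hval : x⁻¹ * k * x * (k : G)⁻¹ = x⁻¹ * k' * x * (k' : G)⁻¹ := congrArg Subtype.val h
      have hd : ((k'⁻¹ * k : K) : G) ∈ centralizer ({x} : Set G) := by
        rw [mem_centralizer_singleton_iff]
        push_cast
        calc ((k' : G)⁻¹ * k) * x = (k' : G)⁻¹ * x * (x⁻¹ * k * x * (k : G)⁻¹) * k := by group
          _ = (k' : G)⁻¹ * x * (x⁻¹ * k' * x * (k' : G)⁻¹) * k := by rw [hval]
          _ = x * ((k' : G)⁻¹ * k) := by group
      have hd1 : k'⁻¹ * k = 1 := by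
        rw [← orderOf_eq_one_iff, ← Nat.dvd_one]
        have hdv : orderOf (k'⁻¹ * k) ∣ 3 ^ 2 := by
          rw [← Subgroup.orderOf_coe, show (3 : ℕ) ^ 2 = 9 from rfl,
            ← card_centralizer_three hS hx hx1]
          exact (centralizer ({x} : Set G)).orderOf_dvd_natCard hd
        have hcop : Nat.Coprime (3 ^ 2) (Nat.card K) :=
          ((Nat.prime_three.coprime_iff_not_dvd).2 h3).pow_left 2
        exact hcop ▸ Nat.dvd_gcd hdv (_root_.orderOf_dvd_natCard _)
      exact (inv_mul_eq_one.1 hd1).symm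
    have hsurj : Function.Surjective f := Finite.surjective_of_injective hinj
    have key : ∀ g : G, x⁻¹ * g ∈ K → IsConj x g := by
      intro g hg
      obtain ⟨k, hk⟩ := hsurj ⟨_, hg⟩
      have hk' : x⁻¹ * k * x * (k : G)⁻¹ = x⁻¹ * g := congrArg Subtype.val hk
      refine isConj_of_eq (k : G) (mul_left_cancel (a := x⁻¹) ?_)
      rw [← hk']; group
    refine ⟨key y hyK, key t⁻¹ ?_⟩
    have e : x⁻¹ * t⁻¹ = x⁻¹ * (x⁻¹ * y)⁻¹ * x * (x * x * x)⁻¹ := by
      rw [← hxy]; group
    rw [e, show x * x * x = 1 by rw [← hx]; simp [pow_succ], inv_one, mul_one]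
    exact hxinv _ (inv_mem hyK)

theorem exists_normalizer_conj {s t : G} (hs : s ∈ S) (ht : t ∈ S) (h1 : s ≠ 1)
    (h : IsConj s t) : ∃ g ∈ normalizer (S : Set G), g * s * g⁻¹ = t := by
  obtain ⟨g, hg⟩ := isConj_iff.1 h
  have ht1 : t ≠ 1 := fun e => h1 (isConj_one_left.1 (e ▸ h))
  refine ⟨g, ?_, hg⟩
  rw [mem_normalizer_iff]
  intro z
  rw [show (z ∈ S ↔ z * s = s * z) by
      rw [← mem_centralizer_singleton_iff]
      exact (SetLike.ext_iff.1 (hS.cent s hs h1) z).symm,
    show (g * z * g⁻¹ ∈ S ↔ g * z * g⁻¹ * t = t * (g * z * g⁻¹)) by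
      rw [← mem_centralizer_singleton_iff]
      exact (SetLike.ext_iff.1 (hS.cent t ht ht1) _).symm,
    ← hg]
  constructor
  · intro hz
    calc g * z * g⁻¹ * (g * s * g⁻¹) = g * (z * s) * g⁻¹ := by group
      _ = g * (s * z) * g⁻¹ := by rw [hz]
      _ = _ := by group
  · intro hz
    have : g * (z * s) * g⁻¹ = g * (s * z) * g⁻¹ := by
      calc g * (z * s) * g⁻¹ = g * z * g⁻¹ * (g * s * g⁻¹) := by group
        _ = g * s * g⁻¹ * (g * z * g⁻¹) := hz
        _ = _ := by group
    exact mul_left_cancel (mul_right_cancel this)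

theorem card_orb_mul {s : G} (hs : s ∈ S) (h1 : s ≠ 1) :
    Nat.card (orb S s) * 9 = Nat.card (normalizer (S : Set G)) := by
  set N := normalizer (S : Set G) with hN
  let s' : N := ⟨s, le_normalizer hs⟩
  have h := CfsgLib.Characters.card_isConj_mul_card_centralizer s'
  have hc : centralizer ({s'} : Set N) = S.subgroupOf N := by
    ext g
    rw [mem_centralizer_singleton_iff, mem_subgroupOf, Subtype.ext_iff]
    conv_rhs => rw [← hS.cent s hs h1, mem_centralizer_singleton_iff]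
    rfl
  have hc9 : Nat.card (centralizer ({s'} : Set N)) = 9 := by
    rw [hc, Nat.card_congr (Subgroup.subgroupOfEquivOfLe le_normalizer).toEquiv, hS.card]
  rw [hc9] at h
  rw [← h]
  congr 1
  refine Nat.card_congr ⟨fun x => ⟨⟨x.1, le_normalizer x.2.1⟩, ?_⟩, fun x => ⟨x.1.1, ?_⟩,
    fun x => rfl, fun x => rfl⟩
  · obtain ⟨g, hg, hgx⟩ := exists_normalizer_conj hS hs x.2.1 h1 x.2.2
    exact isConj_iff.2 ⟨⟨g, hg⟩, Subtype.ext hgx⟩
  · obtain ⟨g, hg⟩ := isConj_iff.1 x.2
    have hg' : (g : G) * s * (g : G)⁻¹ = (x.1 : G) := congrArg Subtype.val hg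
    exact ⟨hg' ▸ (mem_normalizer_iff.1 g.2 s).1 hs, isConj_of_eq _ hg'⟩

theorem card_sylow_modEq : Nat.card (Sylow 3 G) ≡ 1 [MOD 9] := by
  by_contra h
  obtain ⟨P, R, hne, hidx⟩ := CfsgLib.Small.exists_pair_of_not_modEq (p := 3) (k := 2) h
  obtain ⟨Q, hQ⟩ := hS.syl
  obtain ⟨c, rfl⟩ := MulAction.exists_smul_eq G Q P
  obtain ⟨d, rfl⟩ := MulAction.exists_smul_eq G (c • Q) R
  have hP9 : Nat.card (c • Q : Sylow 3 G) = 9 := by
    rw [Sylow.card_eq_multiplicity, ← Q.card_eq_multiplicity, hQ, hS.card]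
  set T := ((d • c • Q : Sylow 3 G) : Subgroup G).subgroupOf ((c • Q : Sylow 3 G) : Subgroup G)
    with hT
  have hTne : T ≠ ⊥ := by
    intro h0
    rw [h0, Subgroup.index_bot, hP9] at hidx
    norm_num at hidx
  obtain ⟨u, hu, hu1⟩ := (Subgroup.bot_or_exists_ne_one _).resolve_left hTne
  have hu1' : (u : G) ≠ 1 := fun e => hu1 (Subtype.ext e)
  have hsame : ∀ R₁ : Sylow 3 G, (u : G) ∈ (R₁ : Subgroup G) →
      (R₁ : Subgroup G) = centralizer ({(u : G)} : Set G) := by
    intro R₁ hmem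
    have hc : Nat.card R₁ = 3 ^ 2 := by
      rw [R₁.card_eq_multiplicity, ← Q.card_eq_multiplicity, hQ, hS.card]; norm_num
    have hu3 : (u : G) ^ 3 = 1 := by
      obtain ⟨e, he⟩ := MulAction.exists_smul_eq G R₁ Q
      have hm : e * (u : G) * e⁻¹ ∈ S := by
        have h' : e * (u : G) * e⁻¹ ∈ ((e • R₁ : Sylow 3 G) : Subgroup G) :=
          Subgroup.smul_mem_pointwise_smul _ (MulAut.conj e) _ hmem
        exact hQ.le (congrArg Sylow.toSubgroup he ▸ h')
      have := hS.exp3 _ hm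
      rw [conj_pow] at this
      exact conj_eq_one_iff.1 this
    refine eq_of_le_of_card_ge (fun z hz => ?_) ?_
    · rw [mem_centralizer_singleton_iff]
      exact congrArg Subtype.val
        (IsPGroup.commutative_of_card_eq_prime_sq hc ⟨z, hz⟩ ⟨(u : G), hmem⟩)
    · rw [card_centralizer_three hS hu3 hu1', hc]; norm_num
  exact hne (Sylow.ext ((hsame _ u.2).trans (hsame _ hu).symm))

theorem exists_card_orb_eq [IsSimpleGroup G] (hG : ¬ IsMulCommutative G) :
    ∃ m, m ≠ 1 ∧ ¬ 3 ∣ m ∧ Nat.card (normalizer (S : Set G)) = 9 * m := by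
  obtain ⟨P, hP⟩ := hS.syl
  have hdvd : Nat.card S ∣ Nat.card (normalizer (S : Set G)) := card_dvd_of_le le_normalizer
  obtain ⟨m, hm⟩ := hdvd
  rw [hS.card] at hm
  refine ⟨m, ?_, ?_, hm⟩
  · rintro rfl
    have h3 : 3 ∣ Nat.card G :=
      (show 3 ∣ Nat.card S by rw [hS.card]; norm_num).trans (card_subgroup_dvd_card S)
    refine CfsgLib.Small.not_normalizer_le_centralizer hG h3 P ?_
    rw [hP]
    have : normalizer (S : Set G) = S :=
      (eq_of_le_of_card_ge le_normalizer (by rw [hm, hS.card])).symm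
    rw [this]
    intro z hz
    rw [mem_centralizer_iff]
    exact fun w hw => mul_comm_mem hS hw hz
  · intro h3
    obtain ⟨k, rfl⟩ := h3
    have h27 : 3 ^ 3 ∣ Nat.card G := by
      refine Dvd.dvd.trans ⟨k, ?_⟩ (card_subgroup_dvd_card (normalizer (S : Set G)))
      rw [hm]; ring
    rw [← card_mul_index S, hS.card, show 3 ^ 3 = 9 * 3 by norm_num] at h27
    have h3i := Nat.dvd_of_mul_dvd_mul_left (by norm_num) h27
    rw [← hP] at h3i
    exact P.not_dvd_index h3i

/-- If the index of `S` in its normalizer is even, an involution inverts `S`. -/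
theorem isConj_inv {m : ℕ} (hm : Nat.card (normalizer (S : Set G)) = 9 * m) (he : 2 ∣ m)
    {s : G} (hs : s ∈ S) : IsConj s s⁻¹ := by
  obtain ⟨n, hn⟩ := exists_prime_orderOf_dvd_card' (G := normalizer (S : Set G)) 2
    (by rw [hm]; exact he.mul_left 9)
  have hnn : (n : G) * (n : G) = 1 := by
    have := pow_orderOf_eq_one n
    rw [hn, pow_two] at this
    exact congrArg Subtype.val this
  have hnS : (n : G) ∉ S := by
    intro h
    have h3 : orderOf (n : G) ∣ 3 := orderOf_dvd_of_pow_eq_one (hS.exp3 _ h)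
    rw [Subgroup.orderOf_coe, hn] at h3
    omega
  have hninv : (n : G)⁻¹ = n := inv_eq_of_mul_eq_one_right hnn
  have hms : (n : G) * s * (n : G)⁻¹ ∈ S := (mem_normalizer_iff.1 n.2 s).1 hs
  refine isConj_of_eq (n : G) ?_
  set s' := (n : G) * s * (n : G)⁻¹ with hs'
  by_contra hne
  have hz1 : s * s' ≠ 1 := fun h => hne (inv_eq_of_mul_eq_one_right h).symm
  refine hnS ((SetLike.ext_iff.1 (hS.cent _ (mul_mem hs hms) hz1) _).1 ?_)
  rw [mem_centralizer_singleton_iff]
  have hfix : (n : G) * (s * s') * (n : G)⁻¹ = s * s' := by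
    calc (n : G) * (s * s') * (n : G)⁻¹
        = ((n : G) * s * (n : G)⁻¹) * (((n : G) * (n : G)) * s * ((n : G) * (n : G))⁻¹) := by
          rw [hs']; group
      _ = s' * s := by rw [hnn]; simp [hs']
      _ = _ := mul_comm_mem hS hms hs
  exact mul_inv_eq_iff_eq_mul.1 hfix

end

end CfsgLib.ThreeSelfCentral
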