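import Mathlib
import Cfsg.Agent.Lib.Small.Basic

/-!
A group of order 60 without a normal Sylow 5-subgroup is the alternating group on five points.
-/

set_option autoImplicit false

namespace CfsgLib.Recognition.OrderSixty

open Subgroup
open scoped Pointwise

variable {G : Type*} [Group G] [Finite G]

/-- An element of order five normalizing a subgroup of order three centralizes it. -/
theorem five_centralizes_three {x : G} (hx : x ^ 5 = 1) {Q : Subgroup G} (hQ : Nat.card Q = 3)
    (hn : x ∈ normalizer (Q : Set G)) {q : G} (hq : q ∈ Q) : x * q * x⁻¹ = q := by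
  have : Fact (Nat.Prime 3) := ⟨Nat.prime_three⟩
  by_cases hq1 : q = 1
  · simp [hq1]
  have hzq := CfsgLib.Small.eq_zpowers_of_mem hQ hq hq1
  have hq3 : q ^ 3 = 1 := by
    rw [← hQ]
    exact congrArg Subtype.val (pow_card_eq_one' (x := (⟨q, hq⟩ : Q)))
  have hy : x * q * x⁻¹ ∈ Q := (mem_normalizer_iff.1 hn q).1 hq
  rw [hzq, mem_zpowers_iff] at hy
  obtain ⟨k, hk⟩ := hy
  rw [← zpow_mod_natCast_eq hq3 k] at hk
  have h0 : 0 ≤ k % 3 := Int.emod_nonneg _ (by norm_num)
  have h3 : k % 3 < 3 := Int.emod_lt_of_pos _ (by norm_num)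
  interval_cases hk3 : k % 3
  · rw [zpow_zero] at hk
    exact absurd (conj_eq_one_iff.1 hk.symm) hq1
  · simpa using hk.symm
  · exfalso
    have hinv : x * q * x⁻¹ = q⁻¹ := by
      rw [← hk, zpow_two, eq_inv_iff_mul_eq_one, ← sq, ← pow_succ, hq3]
    have h2 : x ^ 2 * q * (x ^ 2)⁻¹ = q := by
      rw [show x ^ 2 * q * (x ^ 2)⁻¹ = x * (x * q * x⁻¹) * x⁻¹ by simp only [pow_two, mul_inv_rev, mul_assoc], hinv,
        show x * q⁻¹ * x⁻¹ = (x * q * x⁻¹)⁻¹ by group, hinv, inv_inv]
    have hcomm : Commute (x ^ 2) q := mul_inv_eq_iff_eq_mul.1 h2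
    have hxq : Commute x q := by
      have h5 : x = (x ^ 2) ^ 3 := by
        rw [← pow_mul, show 2 * 3 = 5 + 1 from rfl, pow_succ, hx, one_mul]
      rw [h5]
      exact hcomm.pow_left 3
    rw [hxq.eq, mul_inv_cancel_right, eq_inv_iff_mul_eq_one, ← sq] at hinv
    apply hq1
    rw [← hq3, pow_succ, hinv, one_mul]
where
  zpow_mod_natCast_eq {q : G} (h : q ^ 3 = 1) (k : ℤ) : q ^ (k % 3) = q ^ k := by
    conv_rhs => rw [← Int.mul_ediv_add_emod k 3, zpow_add, zpow_mul,
      show q ^ (3 : ℤ) = 1 from (zpow_natCast q 3).trans h, one_zpow, one_mul]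

/-- An element of order five in a group of order 30 generates a normal subgroup. -/
theorem card_sylow_five_of_card_thirty (hG : Nat.card G = 30) : Nat.card (Sylow 5 G) = 1 := by
  classical
  have h5 : Fact (Nat.Prime 5) := ⟨by norm_num⟩
  have h3 : Fact (Nat.Prime 3) := ⟨Nat.prime_three⟩
  obtain ⟨P⟩ := (inferInstance : Nonempty (Sylow 5 G))
  obtain ⟨Q⟩ := (inferInstance : Nonempty (Sylow 3 G))
  have hP5 : ∀ R : Sylow 5 G, Nat.card R = 5 := fun R => by
    simpa using CfsgLib.Small.card_sylow_of_card_eq (k := 1) (m := 6) (by rw [hG]; rfl) (by norm_num) R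
  have hQ3 : ∀ R : Sylow 3 G, Nat.card R = 3 := fun R => by
    simpa using CfsgLib.Small.card_sylow_of_card_eq (k := 1) (m := 10) (by rw [hG]; rfl) (by norm_num) R
  have hd5 : Nat.card (Sylow 5 G) ∣ 6 := by
    rw [← CfsgLib.Small.index_sylow_of_card_eq (k := 1) (m := 6) (by rw [hG]; rfl) (by norm_num) P]
    exact P.card_dvd_index
  have hm5 : Nat.card (Sylow 5 G) % 5 = 1 := card_sylow_modEq_one 5 G
  have hle5 := Nat.le_of_dvd (by norm_num) hd5
  by_contra hne
  have h6 : Nat.card (Sylow 5 G) = 6 := by omega
  have hd3 : Nat.card (Sylow 3 G) ∣ 10 := by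
    rw [← CfsgLib.Small.index_sylow_of_card_eq (k := 1) (m := 10) (by rw [hG]; rfl) (by norm_num) Q]
    exact Q.card_dvd_index
  have hm3 : Nat.card (Sylow 3 G) % 3 = 1 := card_sylow_modEq_one 3 G
  have hle3 := Nat.le_of_dvd (by norm_num) hd3
  have hcount := CfsgLib.Small.sum_card_orderOf_le (G := G) {5, 3}
  rw [Finset.sum_pair (by norm_num), CfsgLib.Small.card_orderOf_eq_prime hP5,
    CfsgLib.Small.card_orderOf_eq_prime hQ3, h6, hG] at hcount
  have h1 : Nat.card (Sylow 3 G) = 1 := by omega
  have : Subsingleton (Sylow 3 G) := (Nat.card_eq_one_iff_unique.1 h1).1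
  have hQn : (Q : Subgroup G).Normal := Sylow.normal_of_subsingleton Q
  have hQN : (Q : Subgroup G) ≤ normalizer ((P : Subgroup G) : Set G) := by
    intro q hq
    rw [mem_normalizer_iff]
    intro x
    have hcen : ∀ y ∈ (P : Subgroup G), q * y * q⁻¹ = y := by
      intro y hy
      have hy5 : y ^ 5 = 1 := by
        rw [← hP5 P]
        exact congrArg Subtype.val (pow_card_eq_one' (x := (⟨y, hy⟩ : (P : Subgroup G))))
      have := five_centralizes_three hy5 (hQ3 Q) (by rw [normalizer_eq_top]; trivial) hq
      rw [mul_inv_eq_iff_eq_mul] at this ⊢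
      exact this.symm
    constructor
    · intro hx; rw [hcen x hx]; exact hx
    · intro hx
      have := hcen _ hx
      have h' : q * x * q⁻¹ = x := by
        have h2 := congrArg (fun z => q⁻¹ * z * q) this
        simpa [mul_assoc] using h2
      rwa [h'] at hx
  have hdvd := card_dvd_of_le hQN
  have hN := CfsgLib.Small.card_normalizer_mul_card_sylow P
  rw [h6, hG] at hN
  rw [show Nat.card (Q : Subgroup G) = 3 from hQ3 Q,
    show Nat.card (normalizer ((P : Subgroup G) : Set G)) = 5 by omega] at hdvd
  norm_num at hdvd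

/-- A group of order 60 with six Sylow 5-subgroups is simple. -/
theorem isSimpleGroup_of_card_sylow (hG : Nat.card G = 60) (h6 : Nat.card (Sylow 5 G) = 6) :
    IsSimpleGroup G := by
  classical
  have h5 : Fact (Nat.Prime 5) := ⟨by norm_num⟩
  have h3 : Fact (Nat.Prime 3) := ⟨Nat.prime_three⟩
  have : Nontrivial G := Finite.one_lt_card_iff_nontrivial.1 (by omega)
  obtain ⟨P⟩ := (inferInstance : Nonempty (Sylow 5 G))
  have hP5 : ∀ R : Sylow 5 G, Nat.card R = 5 := fun R => by
    simpa using CfsgLib.Small.card_sylow_of_card_eq (k := 1) (m := 12) (by rw [hG]; rfl) (by norm_num) R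
  have hNP : Nat.card (normalizer ((P : Subgroup G) : Set G)) = 10 := by
    have hN := CfsgLib.Small.card_normalizer_mul_card_sylow P
    rw [h6, hG] at hN
    omega
  obtain ⟨x, hxP, hxord⟩ : ∃ x ∈ (P : Subgroup G), orderOf x = 5 := by
    obtain ⟨x, hx⟩ := exists_prime_orderOf_dvd_card' (G := (P : Subgroup G)) 5 (dvd_of_eq (hP5 P).symm)
    exact ⟨x, x.2, by rw [Subgroup.orderOf_coe, hx]⟩
  have hx5 : x ^ 5 = 1 := by rw [← hxord]; exact pow_orderOf_eq_one x
  -- no normal subgroup of order divisible by five
  have hA : ∀ N : Subgroup G, N.Normal → 5 ∣ Nat.card N → N = ⊤ := by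
    intro N hN hd
    have hall : ∀ R : Sylow 5 G, (R : Subgroup G) ≤ N := by
      intro R
      obtain ⟨y, hy⟩ := exists_prime_orderOf_dvd_card' (G := N) 5 hd
      obtain ⟨S, hS⟩ := (IsPGroup.of_card (p := 5) (n := 1)
        (by rw [Nat.card_zpowers, Subgroup.orderOf_coe, hy, pow_one] :
          Nat.card (zpowers (y : G)) = 5 ^ 1)).exists_le_sylow
      have hSN : (S : Subgroup G) ≤ N := by
        rw [CfsgLib.Small.eq_zpowers_of_mem (hP5 S) (hS (mem_zpowers _))
          (fun e => by
            rw [← Subgroup.orderOf_coe, e, orderOf_one] at hy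
            norm_num at hy)]
        exact zpowers_le.2 y.2
      obtain ⟨g, rfl⟩ := MulAction.exists_smul_eq G S R
      intro z hz
      rw [Sylow.coe_subgroup_smul, Subgroup.mem_pointwise_smul_iff_inv_smul_mem] at hz
      have h := hN.conj_mem _ (hSN hz) g
      simpa [mul_assoc] using h
    have hinj : Function.Injective (fun R : Sylow 5 G => R.subtype (hall R)) :=
      fun R S h => Sylow.subtype_injective h
    have h6N : 6 ≤ Nat.card (Sylow 5 N) := h6 ▸ Nat.card_le_card_of_injective _ hinj
    have hcard : Nat.card N ∣ 60 := hG ▸ card_subgroup_dvd_card N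
    obtain ⟨S⟩ := (inferInstance : Nonempty (Sylow 5 N))
    have hle : Nat.card N ≤ 60 := Nat.le_of_dvd (by norm_num) hcard
    have hmod : Nat.card (Sylow 5 N) % 5 = 1 := card_sylow_modEq_one 5 N
    have hidx : Nat.card (Sylow 5 N) ∣ (S : Subgroup N).index := S.card_dvd_index
    have hle' : Nat.card (Sylow 5 N) ≤ (S : Subgroup N).index :=
      Nat.le_of_dvd (Nat.pos_of_ne_zero index_ne_zero_of_finite) hidx
    have hmul := card_mul_index (S : Subgroup N)
    have hS5 : 5 ≤ Nat.card (S : Subgroup N) := by
      have := S.dvd_card_of_dvd_card hd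
      exact Nat.le_of_dvd Nat.card_pos this
    have : 30 ≤ Nat.card N := by
      calc 30 = 5 * 6 := rfl
        _ ≤ Nat.card (S : Subgroup N) * (S : Subgroup N).index := Nat.mul_le_mul hS5 (h6N.trans hle')
        _ = Nat.card N := hmul
    have hcases : Nat.card N = 30 ∨ Nat.card N = 60 := by
      obtain ⟨k, hk⟩ := hcard
      have hk2 : k ≤ 2 := by
        by_contra h
        have : Nat.card N * 3 ≤ Nat.card N * k := Nat.mul_le_mul_left _ (by omega)
        omega
      interval_cases k <;> omega
    rcases hcases with h30 | h60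
    · have := card_sylow_five_of_card_thirty h30
      omega
    · exact eq_top_of_card_eq N (h60.trans hG.symm)
  constructor
  intro N hN
  by_cases h5N : 5 ∣ Nat.card N
  · exact Or.inr (hA N hN h5N)
  left
  by_contra hne
  have h12 : Nat.card N ∣ 12 := by
    have hdN := card_subgroup_dvd_card N
    rw [hG, show 60 = 5 * 12 from rfl] at hdN
    refine (Nat.Coprime.dvd_of_dvd_mul_left ?_ hdN)
    exact ((Nat.Prime.coprime_iff_not_dvd (by norm_num)).2 h5N).symm
  by_cases h3N : 3 ∣ Nat.card N
  · -- a Sylow 3-subgroup of N is normalized, hence centralized, by x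
    have hQ3 : ∀ Q : Sylow 3 N, Nat.card Q = 3 := by
      intro Q
      have h9 : ¬ 9 ∣ Nat.card N := fun h => absurd (h.trans h12) (by norm_num)
      obtain ⟨k, hk⟩ := IsPGroup.iff_card.1 Q.isPGroup'
      have hd := card_subgroup_dvd_card (Q : Subgroup N)
      rw [hk] at hd
      have h1 := Q.dvd_card_of_dvd_card h3N
      rcases k with _ | _ | k
      · rw [hk] at h1; norm_num at h1
      · exact hk
      · exact absurd ((Dvd.intro_left (3 ^ k) (by ring)).trans hd) h9
    obtain ⟨Q₀⟩ := (inferInstance : Nonempty (Sylow 3 N))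
    have hle4 : Nat.card (Sylow 3 N) ≤ 4 := by
      have h1 := Nat.le_of_dvd (Nat.pos_of_ne_zero index_ne_zero_of_finite) Q₀.card_dvd_index
      have h2 := card_mul_index (Q₀ : Subgroup N)
      rw [show Nat.card (Q₀ : Subgroup N) = 3 from hQ3 Q₀] at h2
      have := Nat.le_of_dvd (by norm_num) h12
      omega
    let σ : Equiv.Perm (Sylow 3 N) := MulAction.toPerm (MulAut.conjNormal (H := N) x)
    have hσ : σ ^ 5 = 1 := by
      have h : (MulAction.toPermHom (MulAut N) (Sylow 3 N)).comp (MulAut.conjNormal (H := N)) (x ^ 5) = 1 := by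
        rw [hx5, map_one]
      rw [map_pow] at h
      exact h
    have hσ1 : σ = 1 := by
      rcases (Nat.dvd_prime h5.out).1 (orderOf_dvd_of_pow_eq_one hσ) with h | h
      · exact orderOf_eq_one_iff.1 h
      · have h2 := orderOf_dvd_natCard σ
        rw [h, Nat.card_perm] at h2
        have h4 : Nat.factorial (Nat.card (Sylow 3 N)) ∣ Nat.factorial 4 := Nat.factorial_dvd_factorial hle4
        exact absurd (h2.trans h4) (by norm_num [Nat.factorial])
    have hQfix : MulAut.conjNormal (H := N) x • Q₀ = Q₀ := congrArg (· Q₀) (congrArg DFunLike.coe hσ1)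
    set Q := ((Q₀ : Subgroup N)).map N.subtype with hQ
    have hQc : Nat.card Q = 3 :=
      (card_map_of_injective N.subtype_injective).trans (hQ3 Q₀)
    have hxn : x ∈ normalizer (Q : Set G) := by
      refine mem_normalizer_iff.2 fun z => ?_
      constructor
      · rintro ⟨q, hq, rfl⟩
        refine ⟨MulAut.conjNormal (H := N) x q, ?_, by simp⟩
        have h' : (MulAut.conjNormal (H := N) x • (Q₀ : Subgroup N)) = (Q₀ : Subgroup N) :=
          congrArg Sylow.toSubgroup hQfix
        rw [SetLike.mem_coe, ← h']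
        exact Subgroup.smul_mem_pointwise_smul q _ _ hq
      · rintro ⟨q, hq, hqz⟩
        refine ⟨(MulAut.conjNormal (H := N) x)⁻¹ q, ?_, ?_⟩
        · have h' : (MulAut.conjNormal (H := N) x • (Q₀ : Subgroup N)) = (Q₀ : Subgroup N) :=
            congrArg Sylow.toSubgroup hQfix
          rw [SetLike.mem_coe] at hq ⊢
          rw [← h', Subgroup.mem_pointwise_smul_iff_inv_smul_mem] at hq
          exact hq
        · rw [← map_inv]
          simp only [Subgroup.coe_subtype] at hqz ⊢
          rw [MulAut.conjNormal_apply, hqz]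
          group
    have hQN : Q ≤ normalizer ((P : Subgroup G) : Set G) := by
      intro q hq
      have hc := five_centralizes_three hx5 hQc hxn hq
      have hcomm : Commute x q := mul_inv_eq_iff_eq_mul.1 hc
      rw [CfsgLib.Small.eq_zpowers_of_mem (hP5 P) hxP (fun e => by simp [e] at hxord)]
      refine mem_normalizer_iff.2 fun z => ?_
      constructor
      · intro hz
        obtain ⟨k, rfl⟩ := hz
        rw [← (hcomm.zpow_left k).eq, mul_inv_cancel_right]
        exact ⟨k, rfl⟩
      · rintro ⟨k, hk⟩
        refine ⟨k, ?_⟩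
        have h1 : q * z * q⁻¹ = x ^ k := hk.symm
        show x ^ k = z
        rw [mul_inv_eq_iff_eq_mul, (hcomm.zpow_left k).eq] at h1
        exact (mul_left_cancel h1).symm
    have := card_dvd_of_le hQN
    rw [hQc, hNP] at this
    norm_num at this
  · -- N has order 2 or 4
    have h24 : Nat.card N = 2 ∨ Nat.card N = 4 := by
      have h1 : 1 < Nat.card N := (one_lt_card_iff_ne_bot N).2 hne
      have hle := Nat.le_of_dvd (by norm_num) h12
      interval_cases h : Nat.card N <;> revert h3N h12 <;> norm_num
    rcases h24 with h2 | h4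
    · have hq : Nat.card (G ⧸ N) = 30 := by
        have := card_eq_card_quotient_mul_card_subgroup N
        rw [hG, h2] at this
        omega
      obtain ⟨R⟩ := (inferInstance : Nonempty (Sylow 5 (G ⧸ N)))
      have : Subsingleton (Sylow 5 (G ⧸ N)) :=
        (Nat.card_eq_one_iff_unique.1 (card_sylow_five_of_card_thirty hq)).1
      have hRn : (R : Subgroup (G ⧸ N)).Normal := Sylow.normal_of_subsingleton R
      have hR5 : Nat.card (R : Subgroup (G ⧸ N)) = 5 := by
        simpa using CfsgLib.Small.card_sylow_of_card_eq (k := 1) (m := 6) (by rw [hq]; rfl) (by norm_num) R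
      have hc : Nat.card ((R : Subgroup (G ⧸ N)).comap (QuotientGroup.mk' N)) = 10 := by
        have := QuotientGroup.card_preimage_mk N ((R : Subgroup (G ⧸ N)) : Set (G ⧸ N))
        rw [h2, SetLike.coe_sort_coe, hR5] at this
        exact this
      have := hA _ inferInstance (by rw [hc]; norm_num)
      rw [this, card_top, hG] at hc
      norm_num at hc
    · have hNle : N ≤ normalizer ((P : Subgroup G) : Set G) := by
        intro n hn
        have hcomm : Commute x n := by
          let σ : Equiv.Perm N := MulAction.toPermHom (MulAut N) N (MulAut.conjNormal (H := N) x)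
          have hσ : σ ^ 5 = 1 := by
            rw [← map_pow, ← map_pow, hx5, map_one, map_one]
          have hσ1 : σ = 1 := by
            rcases (Nat.dvd_prime h5.out).1 (orderOf_dvd_of_pow_eq_one hσ) with h | h
            · exact orderOf_eq_one_iff.1 h
            · have h2 := orderOf_dvd_natCard σ
              rw [h, Nat.card_perm, h4] at h2
              exact absurd h2 (by norm_num [Nat.factorial])
          have := congrArg (fun τ : Equiv.Perm N => ((τ ⟨n, hn⟩ : N) : G)) hσ1
          exact mul_inv_eq_iff_eq_mul.1 this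
        rw [CfsgLib.Small.eq_zpowers_of_mem (hP5 P) hxP (fun e => by simp [e] at hxord)]
        refine mem_normalizer_iff.2 fun z => ?_
        constructor
        · intro hz
          obtain ⟨k, rfl⟩ := hz
          rw [← (hcomm.zpow_left k).eq, mul_inv_cancel_right]
          exact ⟨k, rfl⟩
        · rintro ⟨k, hk⟩
          refine ⟨k, ?_⟩
          have h1 : n * z * n⁻¹ = x ^ k := hk.symm
          show x ^ k = z
          rw [mul_inv_eq_iff_eq_mul, (hcomm.zpow_left k).eq] at h1
          exact (mul_left_cancel h1).symm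
      have := card_dvd_of_le hNle
      rw [h4, hNP] at this
      norm_num at this

/-- A group of order 60 with six Sylow 5-subgroups is isomorphic to the alternating group of
degree five. -/
theorem nonempty_mulEquiv_alternating_five (hG : Nat.card G = 60) (h6 : Nat.card (Sylow 5 G) = 6) :
    Nonempty (G ≃* alternatingGroup (Fin 5)) := by
  classical
  have h5 : Fact (Nat.Prime 5) := ⟨by norm_num⟩
  have hsimp := isSimpleGroup_of_card_sylow hG h6
  have hnc : ¬ IsMulCommutative G := CfsgLib.Small.nc_of_not_prime (by rw [hG]; norm_num)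
  obtain ⟨P⟩ := (inferInstance : Nonempty (Sylow 5 G))
  set H := normalizer ((P : Subgroup G) : Set G) with hH
  have hidx : H.index = 6 := P.card_eq_index_normalizer.symm.trans h6
  let := Fintype.ofFinite (G ⧸ H)
  have hHtop : H ≠ ⊤ := fun h => by rw [h, index_top] at hidx; norm_num at hidx
  obtain ⟨f, hf, -⟩ := CfsgLib.Small.exists_hom_alternating_quotient hnc H hHtop
  -- the alternating group of degree six
  let A := alternatingGroup (G ⧸ H)
  have hX : Nat.card (G ⧸ H) = 6 := hidx
  have : Nontrivial (G ⧸ H) := Finite.one_lt_card_iff_nontrivial.1 (by omega)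
  have hA : Nat.card A = 360 := by
    show Nat.card (alternatingGroup (G ⧸ H)) = 360
    rw [nat_card_alternatingGroup, hX]; rfl
  have hAs : IsSimpleGroup A := alternatingGroup.isSimpleGroup (by omega)
  have hAnc : ¬ IsMulCommutative A := CfsgLib.Small.nc_of_not_prime (by rw [hA]; norm_num)
  let R := f.range
  have hR : Nat.card R = 60 := by
    rw [← hG]; exact (Nat.card_congr (MonoidHom.ofInjective hf).toEquiv).symm
  have hRidx : R.index = 6 := by
    have := card_mul_index R
    rw [hR, hA] at this
    omega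
  have hRtop : R ≠ ⊤ := fun h => by rw [h, index_top] at hRidx; norm_num at hRidx
  let := Fintype.ofFinite (A ⧸ R)
  obtain ⟨k, hk, hkv⟩ := CfsgLib.Small.exists_hom_alternating_quotient hAnc R hRtop
  let X := A ⧸ R
  let x₀ : X := QuotientGroup.mk 1
  let s : Finset X := Finset.univ.erase x₀
  let φ : R →* alternatingGroup X := k.comp R.subtype
  have hφ : Function.Injective φ := hk.comp R.subtype_injective
  have hle : φ.range ≤ (alternatingGroup.ofSubtype s).range := by
    rintro _ ⟨r, rfl⟩
    rw [alternatingGroup.mem_range_ofSubtype_iff]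
    intro y hy
    refine Finset.mem_erase.2 ⟨?_, Finset.mem_univ y⟩
    rintro rfl
    rw [Equiv.Perm.mem_support] at hy
    apply hy
    show ((k (r : A) : alternatingGroup X) : Equiv.Perm X) x₀ = x₀
    rw [hkv]
    exact QuotientGroup.eq.2 (by simp)
  have hs : Nat.card s = 5 := by
    rw [Nat.card_eq_fintype_card, Fintype.card_coe, Finset.card_erase_of_mem (Finset.mem_univ _),
      Finset.card_univ, ← Nat.card_eq_fintype_card]
    show R.index - 1 = 5
    omega
  have : Nontrivial s := Finite.one_lt_card_iff_nontrivial.1 (by omega)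
  have heq : φ.range = (alternatingGroup.ofSubtype s).range := by
    refine eq_of_le_of_card_ge hle (le_of_eq ?_)
    rw [← Nat.card_congr (MonoidHom.ofInjective hφ).toEquiv, hR,
      ← Nat.card_congr (MonoidHom.ofInjective alternatingGroup.ofSubtype_injective).toEquiv,
      nat_card_alternatingGroup, hs]
    rfl
  have e5 : s ≃ Fin 5 := (Finite.equivFin s).trans (finCongr hs)
  exact ⟨((MonoidHom.ofInjective hf).trans ((MonoidHom.ofInjective hφ).trans
    ((MulEquiv.subgroupCongr heq).trans
      (MonoidHom.ofInjective alternatingGroup.ofSubtype_injective).symm))).trans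
        e5.altCongrHom⟩

end CfsgLib.Recognition.OrderSixty
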