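import Mathlib

/-!
A group generated by pairwise commuting copies of one non-abelian simple group is a direct power.
-/

set_option autoImplicit false

namespace CfsgLib.Recognition.PowerOfSimple

open Subgroup

variable {G : Type*} [Group G]

theorem center_eq_bot_of_simple {S : Type*} [Group S] [hS : IsSimpleGroup S]
    (hna : ¬ IsMulCommutative S) : Subgroup.center S = ⊥ :=
  (hS.eq_bot_or_eq_top_of_normal _ inferInstance).resolve_right fun h =>
    hna ⟨⟨fun a b => mem_center_iff.1 (h.symm ▸ mem_top b : b ∈ center S) a⟩⟩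

/-- Pairwise commuting non-abelian simple subgroups indexed injectively are independent. -/
theorem iSupIndep_of_commute_simple {ι : Type*} (K : ι → Subgroup G)
    (hs : ∀ i, IsSimpleGroup (K i)) (hna : ∀ i, ¬ IsMulCommutative (K i))
    (hc : Pairwise fun i j => ∀ x y : G, x ∈ K i → y ∈ K j → Commute x y) :
    iSupIndep K := by
  intro i
  rw [disjoint_iff, eq_bot_iff]
  rintro x ⟨hx, hx'⟩
  have hcen : x ∈ centralizer (K i : Set G) := by
    have hle : (⨆ (j) (_ : j ≠ i), K j) ≤ centralizer (K i : Set G) :=
      iSup₂_le fun j hj y hy z hz => (hc (Ne.symm hj) z y hz hy).eq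
    exact hle hx'
  have := hs i
  have h1 : (⟨x, hx⟩ : K i) ∈ center (K i) :=
    mem_center_iff.2 fun z => Subtype.ext (hcen z z.2)
  rw [center_eq_bot_of_simple (hna i), mem_bot] at h1
  rw [mem_bot]
  exact congrArg Subtype.val h1

/-- A group generated by pairwise commuting subgroups, each isomorphic to a fixed non-abelian
simple group, is a direct power of it. -/
theorem nonempty_mulEquiv_pow [Finite G] {T : Type*} [Group T] [IsSimpleGroup T]
    (hT : ¬ IsMulCommutative T) {ι : Type*} [Finite ι] (K : ι → Subgroup G)
    (he : ∀ i, Nonempty (K i ≃* T))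
    (hc : Pairwise fun i j => ∀ x y : G, x ∈ K i → y ∈ K j → Commute x y)
    (N : Subgroup G) (hN : N = ⨆ i, K i) :
    Nonempty (N ≃* (Fin (Nat.card ι) → T)) := by
  classical
  have := Fintype.ofFinite ι
  have hs : ∀ i, IsSimpleGroup (K i) := fun i => by
    obtain ⟨e⟩ := he i
    have : Nontrivial (K i) := e.toEquiv.nontrivial
    exact IsSimpleGroup.isSimpleGroup_of_surjective e.symm.toMonoidHom e.symm.surjective
  have hna : ∀ i, ¬ IsMulCommutative (K i) := fun i h => by
    obtain ⟨e⟩ := he i
    exact hT ⟨⟨fun a b => e.symm.injective (by rw [map_mul, map_mul]; exact mul_comm' _ _)⟩⟩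
  have hind := iSupIndep_of_commute_simple K hs hna hc
  let φ := Subgroup.noncommPiCoprod hc
  have hinj : Function.Injective φ := Subgroup.injective_noncommPiCoprod_of_iSupIndep hind
  have hrange : φ.range = N := by rw [hN]; exact Subgroup.noncommPiCoprod_range
  let e := fun i => (he i).some
  refine ⟨?_⟩
  refine ((MulEquiv.subgroupCongr hrange.symm).trans (MonoidHom.ofInjective hinj).symm).trans ?_
  refine (MulEquiv.piCongrRight fun i => e i).trans ?_
  let ee : ι ≃ Fin (Nat.card ι) := Finite.equivFin ι
  exact
    { toEquiv := Equiv.arrowCongr ee (Equiv.refl T)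
      map_mul' := fun f g => rfl }

end CfsgLib.Recognition.PowerOfSimple
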