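import Cfsg.Agent.Lib.Recognition.CosetCert
import Cfsg.Agent.Lib.Small.OrderSixty
import Cfsg.Agent.Lib.Characters.Burnside

/-!
The icosahedral group and the binary icosahedral group by generators and relations, and groups of
order 120 with quaternion Sylow 2-subgroups.
-/

set_option autoImplicit false

namespace CfsgLib.Icosahedral

/-- Representative words for the twelve right cosets of `⟨y⟩`. -/
def words : List (List ℕ) :=
  [[], [0], [0, 0], [0, 0, 1], [0, 0, 1, 0], [0, 0, 1, 1], [0, 0, 1, 0, 0], [0, 0, 1, 1, 0],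
    [0, 0, 1, 0, 0, 1], [0, 0, 1, 0, 0, 1, 1], [0, 0, 1, 0, 0, 1, 1, 0],
    [0, 0, 1, 0, 0, 1, 1, 0, 0]]

theorem check_words :
    CosetCert.check 2 [1] [[0, 0, 0], [1, 1, 1, 1, 1], [0, 1, 0, 1]] words
      [(0, 0, 1), (1, 0, 2), (2, 1, 3), (3, 0, 4), (3, 1, 5), (4, 0, 6), (5, 0, 7), (6, 1, 8),
        (8, 1, 9), (9, 0, 10), (10, 0, 11), (0, 1, 0)]
      [(0, 0, 0), (0, 0, 3), (0, 0, 9), (2, 0, 1), (2, 0, 2), (2, 0, 6), (1, 0, 4), (2, 1, 5),
        (0, 0, 8), (2, 0, 7), (1, 0, 10), (2, 0, 11)] = true := by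
  decide +kernel

theorem words_length : words.length = 12 := rfl

variable {G : Type*} [Group G]

/-- A group generated by `x, y` with `x³ = y⁵ = (xy)² = 1` has order at most 60. -/
theorem finite_card_le_sixty {x y : G} (hx : x ^ 3 = 1) (hy : y ^ 5 = 1) (hxy : (x * y) ^ 2 = 1)
    (hgen : Subgroup.closure ({x, y} : Set G) = ⊤) : Finite G ∧ Nat.card G ≤ 60 := by
  classical
  let g : ℕ → G := fun i => if i = 0 then x else y
  have hyo : IsOfFinOrder y := isOfFinOrder_iff_pow_eq_one.2 ⟨5, by norm_num, hy⟩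
  have : Finite (Subgroup.zpowers y) := hyo.finite_zpowers
  have himg : g '' {a | a < 2} = {x, y} := by
    ext z
    constructor
    · rintro ⟨a, -, rfl⟩
      by_cases h : a = 0 <;> simp [g, h]
    · rintro (rfl | rfl)
      · exact ⟨0, by simp, by simp [g]⟩
      · exact ⟨1, by simp, by simp [g]⟩
  obtain ⟨hfin, hcard⟩ := CosetCert.finite_card_le (g := g) (H := Subgroup.zpowers y)
    (fun a ha => by simp at ha; simp [g, ha, Subgroup.mem_zpowers])
    (fun w hw => by
      simp only [List.mem_cons, List.not_mem_nil, or_false] at hw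
      rcases hw with rfl | rfl | rfl
      · simpa [CosetCert.eval, g, pow_succ, mul_assoc] using hx
      · simpa [CosetCert.eval, g, pow_succ, mul_assoc] using hy
      · simpa [CosetCert.eval, g, pow_succ, mul_assoc] using hxy)
    check_words (by rw [himg]; exact hgen)
    (fun a _ => by
      by_cases h : a = 0
      · simp only [g, h, if_true]; exact isOfFinOrder_iff_pow_eq_one.2 ⟨3, by norm_num, hx⟩
      · simp only [g, h, if_false]; exact hyo)
  refine ⟨hfin, hcard.trans ?_⟩
  rw [words_length, Nat.card_zpowers]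
  have : orderOf y ≤ 5 := Nat.le_of_dvd (by norm_num) (orderOf_dvd_of_pow_eq_one hy)
  omega

/-- A group generated by `x, y, z` with `z` central, `x³ = y⁵ = z² = 1`, `(xy)² = z` has order at
most 120. -/
theorem finite_card_le_onetwenty {x y z : G} (hx : x ^ 3 = 1) (hy : y ^ 5 = 1) (hz : z ^ 2 = 1)
    (hxz : z * x = x * z) (hyz : z * y = y * z) (hxy : (x * y) ^ 2 = z)
    (hgen : Subgroup.closure ({x, y, z} : Set G) = ⊤) : Finite G ∧ Nat.card G ≤ 120 := by
  let Z := Subgroup.zpowers z
  have hzc : ∀ a : G, z * a = a * z := by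
    intro a
    have ha : a ∈ Subgroup.centralizer ({z} : Set G) := by
      have hle : Subgroup.closure ({x, y, z} : Set G) ≤ Subgroup.centralizer ({z} : Set G) := by
        rw [Subgroup.closure_le]
        rintro b (rfl | rfl | rfl) <;>
          simp [Subgroup.mem_centralizer_singleton_iff, hxz, hyz]
      exact hle (hgen ▸ Subgroup.mem_top a)
    exact (Subgroup.mem_centralizer_singleton_iff.1 ha).symm
  have hZc : Z ≤ Subgroup.center G :=
    Subgroup.zpowers_le.2 (Subgroup.mem_center_iff.2 fun a => (hzc a).symm)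
  have : Z.Normal := ⟨fun n hn g => by
    rwa [Subgroup.mem_center_iff.1 (hZc hn) g, mul_inv_cancel_right]⟩
  let q := QuotientGroup.mk' Z
  have hq : q z = 1 := (QuotientGroup.eq_one_iff _).2 (Subgroup.mem_zpowers z)
  obtain ⟨hfin, hcard⟩ := finite_card_le_sixty (x := q x) (y := q y)
    (by rw [← map_pow, hx, map_one]) (by rw [← map_pow, hy, map_one])
    (by rw [← map_mul, ← map_pow, hxy, hq])
    (by
      rw [eq_top_iff]
      intro a _
      obtain ⟨b, rfl⟩ := QuotientGroup.mk'_surjective Z a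
      have hb : b ∈ Subgroup.closure ({x, y, z} : Set G) := hgen ▸ Subgroup.mem_top b
      have hle : Subgroup.closure ({x, y, z} : Set G) ≤
          (Subgroup.closure ({q x, q y} : Set (G ⧸ Z))).comap q := by
        rw [Subgroup.closure_le]
        rintro c (rfl | rfl | rfl)
        · exact Subgroup.subset_closure (Or.inl rfl)
        · exact Subgroup.subset_closure (Or.inr rfl)
        · rw [SetLike.mem_coe, Subgroup.mem_comap, hq]; exact one_mem _
      exact hle hb)
  have hzo : IsOfFinOrder z := isOfFinOrder_iff_pow_eq_one.2 ⟨2, by norm_num, hz⟩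
  have : Finite Z := hzo.finite_zpowers
  have hG : Finite G := Finite.of_equiv _ (Subgroup.groupEquivQuotientProdSubgroup (s := Z)).symm
  refine ⟨hG, ?_⟩
  rw [Subgroup.card_eq_card_quotient_mul_card_subgroup Z, Nat.card_zpowers]
  calc Nat.card (G ⧸ Z) * orderOf z ≤ 60 * 2 :=
        Nat.mul_le_mul hcard (Nat.le_of_dvd (by norm_num) (orderOf_dvd_of_pow_eq_one hz))
    _ = 120 := rfl

/-- A group of order 30 is solvable. -/
theorem isSolvable_of_card_thirty [Finite G] (h : Nat.card G = 30) : Group.IsSolvable G := by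
  have : IsZGroup G := IsZGroup.of_squarefree (by rw [h]; decide +kernel)
  infer_instance

/-- The proper divisors of 120 other than 60 give solvable groups. -/
theorem isSolvable_of_card_dvd [Finite G] (h : Nat.card G ∣ 120) (h60 : Nat.card G ≠ 60)
    (h120 : Nat.card G ≠ 120) : Group.IsSolvable G := by
  have h2 := Nat.prime_two
  have h3 := Nat.prime_three
  have h5 : Nat.Prime 5 := by norm_num
  have key : Nat.card G ∈ Nat.divisors 120 := Nat.mem_divisors.2 ⟨h, by norm_num⟩
  rw [show Nat.divisors 120 = {1, 2, 3, 4, 5, 6, 8, 10, 12, 15, 20, 24, 30, 40, 60, 120} from by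
    decide +kernel] at key
  simp only [Finset.mem_insert, Finset.mem_singleton] at key
  rcases key with e | e | e | e | e | e | e | e | e | e | e | e | e | e | e | e
  · exact Burnside.isSolvable_of_card_eq h2 h3 0 0 (by rw [e]; norm_num)
  · exact Burnside.isSolvable_of_card_eq h2 h3 1 0 (by rw [e]; norm_num)
  · exact Burnside.isSolvable_of_card_eq h2 h3 0 1 (by rw [e]; norm_num)
  · exact Burnside.isSolvable_of_card_eq h2 h3 2 0 (by rw [e]; norm_num)
  · exact Burnside.isSolvable_of_card_eq h2 h5 0 1 (by rw [e]; norm_num)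
  · exact Burnside.isSolvable_of_card_eq h2 h3 1 1 (by rw [e]; norm_num)
  · exact Burnside.isSolvable_of_card_eq h2 h3 3 0 (by rw [e]; norm_num)
  · exact Burnside.isSolvable_of_card_eq h2 h5 1 1 (by rw [e]; norm_num)
  · exact Burnside.isSolvable_of_card_eq h2 h3 2 1 (by rw [e]; norm_num)
  · exact Burnside.isSolvable_of_card_eq h3 h5 1 1 (by rw [e]; norm_num)
  · exact Burnside.isSolvable_of_card_eq h2 h5 2 1 (by rw [e]; norm_num)
  · exact Burnside.isSolvable_of_card_eq h2 h3 3 1 (by rw [e]; norm_num)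
  · exact isSolvable_of_card_thirty e
  · exact Burnside.isSolvable_of_card_eq h2 h5 3 1 (by rw [e]; norm_num)
  · exact absurd e h60
  · exact absurd e h120

/-- A non-solvable group of order 60 is simple. -/
theorem isSimpleGroup_of_card_sixty [Finite G] (h : Nat.card G = 60)
    (hns : ¬ Group.IsSolvable G) : IsSimpleGroup G := by
  have : Nontrivial G := Finite.one_lt_card_iff_nontrivial.1 (by omega)
  refine ⟨fun N hN => ?_⟩
  by_contra hcon
  push Not at hcon
  obtain ⟨h1, h2⟩ := hcon
  have hmul := Subgroup.card_mul_index N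
  rw [h] at hmul
  have hi : 1 < N.index := Subgroup.one_lt_index_of_ne_top h2
  have hc : 1 < Nat.card N := (Subgroup.one_lt_card_iff_ne_bot N).2 h1
  have hs1 : Group.IsSolvable N := isSolvable_of_card_dvd
    ((Dvd.intro _ hmul).trans (by norm_num)) (by intro e; rw [e] at hmul; omega)
    (by intro e; rw [e] at hmul; omega)
  have hs2 : Group.IsSolvable (G ⧸ N) := isSolvable_of_card_dvd
    (by rw [← Subgroup.index_eq_card]; exact (Dvd.intro_left _ hmul).trans (by norm_num))
    (by rw [← Subgroup.index_eq_card]; intro e; rw [e] at hmul; omega)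
    (by rw [← Subgroup.index_eq_card]; intro e; rw [e] at hmul; omega)
  exact hns ((Group.isSolvable_iff_subgroup_quotient N).2 ⟨hs1, hs2⟩)

theorem quaternion_involution_unique :
    ∀ a b : QuaternionGroup 2, a ^ 2 = 1 → a ≠ 1 → b ^ 2 = 1 → b ≠ 1 → a = b := by
  decide +kernel

theorem alt_five_two_involutions :
    ∃ a b : Equiv.Perm (Fin 5), Equiv.Perm.sign a = 1 ∧ Equiv.Perm.sign b = 1 ∧ a ^ 2 = 1 ∧
      b ^ 2 = 1 ∧ a ≠ 1 ∧ b ≠ 1 ∧ a ≠ b ∧ a * b = b * a :=
  ⟨Equiv.swap 0 1 * Equiv.swap 2 3, Equiv.swap 0 2 * Equiv.swap 1 3, by decide +kernel⟩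

theorem alt_five_gens :
    ∃ a b : Equiv.Perm (Fin 5), Equiv.Perm.sign a = 1 ∧ Equiv.Perm.sign b = 1 ∧
      a ^ 3 = 1 ∧ b ^ 5 = 1 ∧ (a * b) ^ 2 = 1 ∧ a * b ≠ 1 ∧
      ∀ p : Equiv.Perm (Fin 5), Equiv.Perm.sign p = 1 →
        ∃ w ∈ words, ∃ k < 5,
          p = b ^ k * CosetCert.eval (fun i => if i = 0 then a else b) w :=
  ⟨Equiv.swap 1 2 * Equiv.swap 1 4,
    Equiv.swap 0 1 * Equiv.swap 1 2 * Equiv.swap 2 3 * Equiv.swap 3 4, by decide +kernel⟩

/-- `x, y` in `A₅` with the icosahedral relations, generating `A₅`. -/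
theorem exists_alt_five_gens :
    ∃ a b : alternatingGroup (Fin 5), a ^ 3 = 1 ∧ b ^ 5 = 1 ∧ (a * b) ^ 2 = 1 ∧ a * b ≠ 1 ∧
      Subgroup.closure ({a, b} : Set (alternatingGroup (Fin 5))) = ⊤ := by
  obtain ⟨a, b, ha, hb, h1, h2, h3, h4, hall⟩ := alt_five_gens
  refine ⟨⟨a, Equiv.Perm.mem_alternatingGroup.2 ha⟩, ⟨b, Equiv.Perm.mem_alternatingGroup.2 hb⟩,
    Subtype.ext h1, Subtype.ext h2, Subtype.ext h3, fun h => h4 (congrArg Subtype.val h), ?_⟩
  rw [eq_top_iff]
  rintro ⟨p, hp⟩ -
  obtain ⟨w, -, k, -, rfl⟩ := hall p (Equiv.Perm.mem_alternatingGroup.1 hp)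
  have hw : ∀ w : List ℕ, CosetCert.eval (fun i => if i = 0 then a else b) w ∈
      (Subgroup.closure ({⟨a, Equiv.Perm.mem_alternatingGroup.2 ha⟩,
        ⟨b, Equiv.Perm.mem_alternatingGroup.2 hb⟩} : Set (alternatingGroup (Fin 5)))).map
        (alternatingGroup (Fin 5)).subtype := by
    intro w
    apply Subgroup.list_prod_mem
    intro z hz
    obtain ⟨i, -, rfl⟩ := List.mem_map.1 hz
    by_cases hi : i = 0
    · simp only [hi, if_true]; exact ⟨_, Subgroup.subset_closure (Or.inl rfl), rfl⟩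
    · simp only [hi, if_false]; exact ⟨_, Subgroup.subset_closure (Or.inr rfl), rfl⟩
  have hb' : b ∈ (Subgroup.closure ({⟨a, Equiv.Perm.mem_alternatingGroup.2 ha⟩,
      ⟨b, Equiv.Perm.mem_alternatingGroup.2 hb⟩} : Set (alternatingGroup (Fin 5)))).map
        (alternatingGroup (Fin 5)).subtype :=
    ⟨_, Subgroup.subset_closure (Or.inr rfl), rfl⟩
  obtain ⟨z, hz, hze⟩ := Subgroup.mul_mem _ (Subgroup.pow_mem _ hb' k) (hw w)
  exact (Subtype.ext hze : z = ⟨_, hp⟩) ▸ hz

/-- A non-solvable group of order 120 with quaternion Sylow 2-subgroups is generated by elements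
`x, y, z` with the binary icosahedral relations. -/
theorem exists_binary_gens [Finite G] (h : Nat.card G = 120) (hns : ¬ Group.IsSolvable G)
    (hQ : ∀ P : Sylow 2 G, Nonempty ((P : Subgroup G) ≃* QuaternionGroup 2)) :
    ∃ x y z : G, x ^ 3 = 1 ∧ y ^ 5 = 1 ∧ z ^ 2 = 1 ∧ z * x = x * z ∧ z * y = y * z ∧
      (x * y) ^ 2 = z ∧ Subgroup.closure ({x, y, z} : Set G) = ⊤ := by
  classical
  have : Fact (Nat.Prime 2) := ⟨Nat.prime_two⟩
  -- two commuting involutions coincide
  have huniq : ∀ a b : G, a ^ 2 = 1 → b ^ 2 = 1 → a ≠ 1 → b ≠ 1 → a * b = b * a → a = b := by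
    intro a b ha hb ha1 hb1 hab
    have hcom : Commute a b := hab
    have hpg : ∀ c : G, c ^ 2 = 1 → IsPGroup 2 (Subgroup.zpowers c) := by
      intro c hc
      rintro ⟨t, ht⟩
      obtain ⟨k, rfl⟩ := Subgroup.mem_zpowers_iff.1 ht
      refine ⟨1, Subtype.ext ?_⟩
      show (c ^ k) ^ 2 ^ 1 = 1
      rw [pow_one, ← zpow_natCast (c ^ k), ← zpow_mul, mul_comm, zpow_mul, zpow_natCast, hc,
        one_zpow]
    have hnorm : Subgroup.zpowers a ≤
        Subgroup.normalizer ((Subgroup.zpowers b : Subgroup G) : Set G) := by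
      rw [Subgroup.zpowers_le, Subgroup.mem_normalizer_iff]
      intro c
      constructor
      · intro hc
        obtain ⟨k, rfl⟩ := Subgroup.mem_zpowers_iff.1 hc
        rw [(hcom.zpow_right k).eq, mul_inv_cancel_right]
        exact hc
      · intro hc
        obtain ⟨k, hk⟩ := Subgroup.mem_zpowers_iff.1 hc
        have : c = b ^ k := by
          calc c = a⁻¹ * (a * c * a⁻¹) * a := by group
            _ = a⁻¹ * b ^ k * a := by rw [hk]
            _ = b ^ k := by rw [mul_assoc, ← (hcom.zpow_right k).eq, inv_mul_cancel_left]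
        rw [this]
        exact Subgroup.zpow_mem _ (Subgroup.mem_zpowers b) k
    obtain ⟨P, hPle⟩ := ((hpg a ha).to_sup_of_normal_right' (hpg b hb) hnorm).exists_le_sylow
    have haP : a ∈ (P : Subgroup G) := hPle (Subgroup.mem_sup_left (Subgroup.mem_zpowers a))
    have hbP : b ∈ (P : Subgroup G) := hPle (Subgroup.mem_sup_right (Subgroup.mem_zpowers b))
    obtain ⟨e⟩ := hQ P
    have := quaternion_involution_unique (e ⟨a, haP⟩) (e ⟨b, hbP⟩)
      (by rw [← map_pow]; simp [Subtype.ext_iff, ha])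
      (by simp [Subtype.ext_iff, ha1])
      (by rw [← map_pow]; simp [Subtype.ext_iff, hb])
      (by simp [Subtype.ext_iff, hb1])
    exact congrArg Subtype.val (e.injective this)
  have hnsimp : ¬ IsSimpleGroup G := by
    intro hS
    have : Fact (Nat.Prime 5) := ⟨by norm_num⟩
    have hG := Small.nc_of_not_prime (G := G) (by rw [h]; norm_num)
    have hm := Small.card_sylow_mem (p := 5) hG (k := 1) (m := 24) one_ne_zero
      (by rw [h]; norm_num) (by norm_num)
    rw [show ((Nat.divisors 24).filter fun n => n % 5 = 1 ∧ 1 < n) = {6} from by decide,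
      Finset.mem_singleton] at hm
    obtain ⟨P⟩ := (inferInstance : Nonempty (Sylow 5 G))
    let H := Subgroup.normalizer ((P : Subgroup G) : Set G)
    have hH : H.index = 6 := P.card_eq_index_normalizer.symm.trans hm
    have hne : H ≠ ⊤ := fun e => by rw [e, Subgroup.index_top] at hH; omega
    have := Fintype.ofFinite (G ⧸ H)
    obtain ⟨f, hf, -⟩ := Small.exists_hom_alternating_quotient hG H hne
    have hA : 5 ≤ Nat.card (G ⧸ H) := by rw [← Subgroup.index_eq_card, hH]; norm_num
    have : IsSimpleGroup (alternatingGroup (G ⧸ H)) := alternatingGroup.isSimpleGroup hA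
    have : Nontrivial (G ⧸ H) := Finite.one_lt_card_iff_nontrivial.1 (by omega)
    have hAcard : Nat.card (alternatingGroup (G ⧸ H)) = 360 := by
      have := two_mul_nat_card_alternatingGroup (α := G ⧸ H)
      rw [Nat.card_perm, ← Subgroup.index_eq_card, hH] at this
      simp only [Nat.factorial] at this
      omega
    have hr : f.range.index = 3 := by
      have := Subgroup.card_mul_index f.range
      rw [Nat.card_congr (MonoidHom.ofInjective hf).toEquiv.symm, h, hAcard] at this
      omega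
    have hAG := Small.nc_of_not_prime (G := alternatingGroup (G ⧸ H)) (by rw [hAcard]; norm_num)
    have := Small.two_mul_card_dvd_factorial_index hAG (H := f.range)
      (fun e => by rw [e, Subgroup.index_top] at hr; omega)
    rw [hr, hAcard] at this
    norm_num [Nat.factorial] at this
  -- a proper nontrivial normal subgroup
  have : Nontrivial G := Finite.one_lt_card_iff_nontrivial.1 (by omega)
  obtain ⟨N, hN, h1, h2⟩ : ∃ N : Subgroup G, N.Normal ∧ N ≠ ⊥ ∧ N ≠ ⊤ := by
    by_contra hcon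
    push Not at hcon
    exact hnsimp ⟨fun N hN => or_iff_not_imp_left.2 (hcon N hN)⟩
  have hmul := Subgroup.card_mul_index N
  rw [h] at hmul
  have hc : 1 < Nat.card N := (Subgroup.one_lt_card_iff_ne_bot N).2 h1
  have hi : 1 < N.index := Subgroup.one_lt_index_of_ne_top h2
  have hNne : Nat.card N ≠ 60 := by
    intro e
    by_cases hsN : Group.IsSolvable N
    · have hsQ : Group.IsSolvable (G ⧸ N) := isSolvable_of_card_dvd
        (by rw [← Subgroup.index_eq_card]; exact Dvd.intro_left _ hmul)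
        (by rw [← Subgroup.index_eq_card]; intro e'; rw [e, e'] at hmul; omega)
        (by rw [← Subgroup.index_eq_card]; intro e'; rw [e, e'] at hmul; omega)
      exact hns ((Group.isSolvable_iff_subgroup_quotient N).2 ⟨hsN, hsQ⟩)
    · have := isSimpleGroup_of_card_sixty e hsN
      obtain ⟨φ⟩ := Small.nonempty_mulEquiv_alternating_five (G := N) e
      obtain ⟨a, b, sa, sb, ha, hb, ha1, hb1, hab, hcom⟩ := alt_five_two_involutions
      let a' : alternatingGroup (Fin 5) := ⟨a, Equiv.Perm.mem_alternatingGroup.2 sa⟩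
      let b' : alternatingGroup (Fin 5) := ⟨b, Equiv.Perm.mem_alternatingGroup.2 sb⟩
      let ι := N.subtype.comp φ.symm.toMonoidHom
      have hι : Function.Injective ι := N.subtype_injective.comp φ.symm.injective
      apply hab
      have := huniq (ι a') (ι b')
        (by rw [← map_pow, show a' ^ 2 = 1 from Subtype.ext ha, map_one])
        (by rw [← map_pow, show b' ^ 2 = 1 from Subtype.ext hb, map_one])
        ((map_ne_one_iff ι hι).2 fun e => ha1 (congrArg Subtype.val e))
        ((map_ne_one_iff ι hι).2 fun e => hb1 (congrArg Subtype.val e))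
        (by rw [← map_mul, ← map_mul, show a' * b' = b' * a' from Subtype.ext hcom])
      exact congrArg Subtype.val (hι this)
  have hsN : Group.IsSolvable N := isSolvable_of_card_dvd (Dvd.intro _ hmul) hNne
    (by intro e; rw [e] at hmul; omega)
  have hqi : N.index = 60 := by
    by_contra hne
    have hsQ : Group.IsSolvable (G ⧸ N) := isSolvable_of_card_dvd
      (by rw [← Subgroup.index_eq_card]; exact Dvd.intro_left _ hmul)
      (by rw [← Subgroup.index_eq_card]; exact hne)
      (by rw [← Subgroup.index_eq_card]; intro e'; rw [e'] at hmul; omega)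
    exact hns ((Group.isSolvable_iff_subgroup_quotient N).2 ⟨hsN, hsQ⟩)
  have hN2 : Nat.card N = 2 := by rw [hqi] at hmul; omega
  have hQ60 : Nat.card (G ⧸ N) = 60 := by rw [← Subgroup.index_eq_card, hqi]
  have hnsQ : ¬ Group.IsSolvable (G ⧸ N) := fun hs =>
    hns ((Group.isSolvable_iff_subgroup_quotient N).2 ⟨hsN, hs⟩)
  have := isSimpleGroup_of_card_sixty hQ60 hnsQ
  obtain ⟨φ⟩ := Small.nonempty_mulEquiv_alternating_five (G := G ⧸ N) hQ60
  let π : G →* alternatingGroup (Fin 5) := φ.toMonoidHom.comp (QuotientGroup.mk' N)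
  have hπ : Function.Surjective π := φ.surjective.comp (QuotientGroup.mk'_surjective N)
  have hker : ∀ g, π g = 1 → g ∈ N := by
    intro g hg
    rw [← QuotientGroup.eq_one_iff (N := N)]
    exact φ.injective (hg.trans (map_one φ).symm)
  obtain ⟨n, hnN, hn1⟩ := (Subgroup.bot_or_exists_ne_one N).resolve_left h1
  have hn2 : n ^ 2 = 1 := by
    have : (⟨n, hnN⟩ : N) ^ 2 = 1 := hN2 ▸ pow_card_eq_one'
    simpa [Subtype.ext_iff] using this
  have hNmem : ∀ g ∈ N, g = 1 ∨ g = n := by
    intro g hg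
    obtain ⟨u, v, huv, huv'⟩ := Nat.card_eq_two_iff.1 hN2
    have hmem : ∀ w : N, w = u ∨ w = v := fun w => by
      have := Set.eq_univ_iff_forall.1 huv' w; simpa using this
    have hne : (1 : N) ≠ ⟨n, hnN⟩ := fun e => hn1 (congrArg Subtype.val e).symm
    rcases hmem 1 with a | a <;> rcases hmem ⟨n, hnN⟩ with b | b <;>
      rcases hmem ⟨g, hg⟩ with c | c <;>
      first
        | exact absurd (a.trans b.symm) hne
        | exact Or.inl (congrArg Subtype.val (c.trans a.symm))
        | exact Or.inr (congrArg Subtype.val (c.trans b.symm))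
  have hcen : ∀ g : G, n * g = g * n := by
    intro g
    rcases hNmem _ (hN.conj_mem n hnN g) with e | e
    · rw [mul_inv_eq_one, mul_eq_left] at e; exact absurd e hn1
    · rw [mul_inv_eq_iff_eq_mul] at e; exact e.symm
  obtain ⟨a, b, ha, hb, hab, hab1, hgen⟩ := exists_alt_five_gens
  obtain ⟨x₀, hx₀⟩ := hπ a
  obtain ⟨y₀, hy₀⟩ := hπ b
  have hsq : ∀ g ∈ N, g ^ 2 = 1 := fun g hg => by
    rcases hNmem g hg with rfl | rfl
    · exact one_pow 2
    · exact hn2
  refine ⟨x₀ ^ 4, y₀ ^ 6, n, ?_, ?_, hn2, hcen _, hcen _, ?_, ?_⟩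
  · rw [show (x₀ ^ 4) ^ 3 = ((x₀ ^ 3) ^ 2) ^ 2 by simp only [← pow_mul],
      hsq (x₀ ^ 3) (hker _ (by rw [map_pow, hx₀, ha])), one_pow]
  · rw [show (y₀ ^ 6) ^ 5 = ((y₀ ^ 5) ^ 2) ^ 3 by simp only [← pow_mul],
      hsq (y₀ ^ 5) (hker _ (by rw [map_pow, hy₀, hb])), one_pow]
  · have hx : π (x₀ ^ 4) = a := by rw [map_pow, hx₀, pow_succ, ha, one_mul]
    have hy : π (y₀ ^ 6) = b := by rw [map_pow, hy₀, pow_succ, hb, one_mul]
    have hmem : (x₀ ^ 4 * y₀ ^ 6) ^ 2 ∈ N := hker _ (by rw [map_pow, map_mul, hx, hy, hab])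
    refine (hNmem _ hmem).resolve_left fun e => hab1 ?_
    have hne : x₀ ^ 4 * y₀ ^ 6 ≠ 1 := fun e' => hab1 (by rw [← hx, ← hy, ← map_mul, e', map_one])
    have := huniq _ n e hn2 hne hn1 (hcen _).symm
    rw [← hx, ← hy, ← map_mul, this]
    show φ (QuotientGroup.mk' N n) = 1
    rw [show QuotientGroup.mk' N n = 1 from (QuotientGroup.eq_one_iff n).2 hnN, map_one]
  · rw [eq_top_iff]
    intro g _
    set C := Subgroup.closure ({x₀ ^ 4, y₀ ^ 6, n} : Set G) with hC
    have hle : Subgroup.closure ({a, b} : Set (alternatingGroup (Fin 5))) ≤ C.map π := by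
      rw [Subgroup.closure_le]
      rintro c (rfl | rfl)
      · exact ⟨_, Subgroup.subset_closure (Or.inl rfl), by rw [map_pow, hx₀, pow_succ, ha, one_mul]⟩
      · exact ⟨_, Subgroup.subset_closure (Or.inr (Or.inl rfl)),
          by rw [map_pow, hy₀, pow_succ, hb, one_mul]⟩
    obtain ⟨c, hc, hce⟩ := hle (hgen ▸ Subgroup.mem_top (π g))
    have hgc : c⁻¹ * g ∈ N := hker _ (by rw [map_mul, map_inv, hce, inv_mul_cancel])
    rcases hNmem _ hgc with e | e
    · rw [inv_mul_eq_one] at e; exact e ▸ hc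
    · have : g = c * n := by rw [← e, mul_inv_cancel_left]
      rw [this]
      exact mul_mem hc (Subgroup.subset_closure (Or.inr (Or.inr rfl)))

end CfsgLib.Icosahedral
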