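import Cfsg.Agent.Lib.Characters.Values
import Cfsg.Agent.Lib.Characters.FrobSchur
import Cfsg.Agent.Lib.Chars17.IrrBasic
import Cfsg.Agent.Lib.Recognition.Icosahedral
import Mathlib.GroupTheory.GroupAction.Quotient

/-!
A perfect finite group with a faithful real irreducible character of degree three has order 60
and is simple.  The proof is the classical count of the axes of rotations.
-/

set_option autoImplicit false
set_option linter.style.haveILetI false
set_option linter.unusedSectionVars false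
set_option linter.unusedSimpArgs false

namespace CfsgLib.RealDegreeThree

open Cfsg CfsgLib.Characters Matrix
open scoped ComplexConjugate

universe u

/-! ## Eigenvalues -/

theorem fin_three_cover : ∀ i j k l : Fin 3, i ≠ j → j ≠ k → i ≠ k → l = i ∨ l = j ∨ l = k := by
  decide

theorem fin_three_other : ∀ i j : Fin 3, i ≠ j → ∃ k, i ≠ k ∧ j ≠ k := by
  decide

section Eigen

variable {H : Type u} [Group H]

theorem det_eq_one_of_perfect (hp : commutator H = ⊤) {V : Type*} [AddCommGroup V] [Module ℂ V]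
    (ρ : Representation ℂ H V) (g : H) : LinearMap.det (ρ g) = 1 := by
  have h : g ∈ ((LinearMap.det.comp ρ).toHomUnits : H →* ℂˣ).ker :=
    Abelianization.commutator_subset_ker _ (hp ▸ Subgroup.mem_top g)
  exact congrArg Units.val (MonoidHom.mem_ker.mp h)

theorem det_eq_prod_eigen {V ι : Type*} [AddCommGroup V] [Module ℂ V] [Fintype ι] [DecidableEq ι]
    (T : V →ₗ[ℂ] V) (b : Module.Basis ι ℂ V) (ω : ι → ℂ) (h : ∀ i, T (b i) = ω i • b i) :
    LinearMap.det T = ∏ i, ω i := by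
  rw [← LinearMap.det_toMatrix b, ← Matrix.det_diagonal]
  congr 1
  ext i j
  rw [LinearMap.toMatrix_apply, h, map_smul, Module.Basis.repr_self]
  by_cases hij : i = j
  · subst hij; simp
  · simp [Finsupp.single_apply, Matrix.diagonal, hij, Ne.symm hij]

variable [Finite H] (ρ : Representation ℂ H (Fin 3 → ℂ))

/-- Eigenvalues of an element in a three dimensional representation of a perfect group. -/
theorem exists_eigen_three (hp : commutator H = ⊤) (g : H) :
    ∃ (b : Module.Basis (Fin 3) ℂ (Fin 3 → ℂ)) (ω : Fin 3 → ℂ),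
      (∀ i, ρ g (b i) = ω i • b i) ∧ (∀ i, ω i * conj (ω i) = 1) ∧
      ω 0 * ω 1 * ω 2 = 1 ∧ ρ.character g = ω 0 + ω 1 + ω 2 ∧
      ω 0 * ω 1 + ω 0 * ω 2 + ω 1 * ω 2 = conj (ρ.character g) := by
  obtain ⟨b, ω, hpow, hb⟩ := exists_eigenbasis ρ g
  let e : Fin (Module.finrank ℂ (Fin 3 → ℂ)) ≃ Fin 3 := finCongr (Module.finrank_fin_fun ℂ)
  set b' := b.reindex e
  set ω' := ω ∘ e.symm
  have hb' : ∀ i, ρ g (b' i) = ω' i • b' i := fun i => by
    simp [b', ω', Module.Basis.reindex_apply, hb]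
  have hn : ∀ i, ω' i * conj (ω' i) = 1 := fun i => by
    rw [Complex.mul_conj', show ‖ω' i‖ = 1 from
      Complex.norm_eq_one_of_pow_eq_one (hpow _) (orderOf_pos g).ne']
    simp
  have hd : ω' 0 * ω' 1 * ω' 2 = 1 := by
    rw [← Fin.prod_univ_three ω', ← det_eq_prod_eigen (ρ g) b' ω' hb']
    exact det_eq_one_of_perfect hp ρ g
  have hc : ρ.character g = ω' 0 + ω' 1 + ω' 2 := by
    rw [character_eq_sum_of_eigenbasis ρ g b' ω' hb', Fin.sum_univ_three]
  refine ⟨b', ω', hb', hn, hd, hc, ?_⟩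
  rw [hc, map_add, map_add]
  linear_combination (-(ω' 0) * ω' 1) * hn 2 - ω' 0 * ω' 2 * hn 1 - ω' 1 * ω' 2 * hn 0 +
    (conj (ω' 0) + conj (ω' 1) + conj (ω' 2)) * hd

/-- An element with value `-1` acts as an involution or trivially. -/
theorem mul_self_eq_one (hp : commutator H = ⊤) {g : H} (hg : ρ.character g = -1) :
    ρ g * ρ g = 1 := by
  obtain ⟨b, ω, hb, -, hd, hc, he⟩ := exists_eigen_three ρ hp g
  rw [hg] at hc he
  simp only [map_neg, map_one] at he
  refine b.ext fun i => ?_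
  rw [Module.End.mul_apply, hb, map_smul, hb, smul_smul, Module.End.one_apply]
  have key : (ω i - 1) * (ω i + 1) ^ 2 = 0 := by
    match i with
    | 0 => linear_combination (-(ω 0 ^ 2)) * hc - ω 0 * he + hd
    | 1 => linear_combination (-(ω 1 ^ 2)) * hc - ω 1 * he + hd
    | 2 => linear_combination (-(ω 2 ^ 2)) * hc - ω 2 * he + hd
  have hsq : ω i * ω i = 1 := by
    rcases mul_eq_zero.mp key with h | h
    · rw [sub_eq_zero.mp h, one_mul]
    · rw [eq_neg_of_add_eq_zero_left (pow_eq_zero_iff (two_ne_zero) |>.mp h)]; ring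
  rw [hsq, one_smul]

/-- The hypotheses of the count. -/
structure Good : Prop where
  irr : ρ.IsIrreducible
  perfect : commutator H = ⊤
  real : ∀ h, (ρ.character h).im = 0
  faithful : ∀ h, ρ h = 1 → h = 1

/-- The fixed space of an element. -/
def fix (h : H) : Submodule ℂ (Fin 3 → ℂ) := LinearMap.eqLocus (ρ h) LinearMap.id

theorem mem_fix {h : H} {v : Fin 3 → ℂ} : v ∈ fix ρ h ↔ ρ h v = v := Iff.rfl

variable {ρ}

/-- A non-trivial element has exactly one eigenvalue `1`. -/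
theorem Good.axis (hG : Good ρ) {h : H} (hh : h ≠ 1) :
    ∃ (b : Module.Basis (Fin 3) ℂ (Fin 3 → ℂ)) (ω : Fin 3 → ℂ) (i₀ : Fin 3),
      (∀ i, ρ h (b i) = ω i • b i) ∧ ω i₀ = 1 ∧ ∀ i, i ≠ i₀ → ω i ≠ 1 := by
  obtain ⟨b, ω, hb, -, hd, hc, he⟩ := exists_eigen_three ρ hG.perfect h
  rw [Complex.conj_eq_iff_im.mpr (hG.real h), hc] at he
  have key : (1 - ω 0) * (1 - ω 1) * (1 - ω 2) = 0 := by
    linear_combination he - hd
  have hall : ∀ i j k : Fin 3, i ≠ j → j ≠ k → i ≠ k → ω i = 1 → ω j = 1 → False := by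
    intro i j k hij hjk hik h1 h2
    apply hh
    apply hG.faithful
    have hd' : ω i * ω j * ω k = 1 := by
      fin_cases i <;> fin_cases j <;> fin_cases k <;> simp at hij hjk hik ⊢ <;>
        linear_combination hd
    have h3 : ω k = 1 := by simpa [h1, h2] using hd'
    refine b.ext fun l => ?_
    have hl := fin_three_cover i j k l hij hjk hik
    rcases hl with rfl | rfl | rfl <;> simp [hb, h1, h2, h3]
  obtain ⟨i₀, hi₀⟩ : ∃ i, ω i = 1 := by
    rcases mul_eq_zero.mp key with h' | h'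
    · rcases mul_eq_zero.mp h' with h'' | h''
      · exact ⟨0, (sub_eq_zero.mp h'').symm⟩
      · exact ⟨1, (sub_eq_zero.mp h'').symm⟩
    · exact ⟨2, (sub_eq_zero.mp h').symm⟩
  refine ⟨b, ω, i₀, hb, hi₀, fun i hi h1 => ?_⟩
  obtain ⟨k, hk1, hk2⟩ := fin_three_other i i₀ hi
  exact hall i i₀ k hi hk2 hk1 h1 hi₀

theorem fix_eq_span {h : H} {b : Module.Basis (Fin 3) ℂ (Fin 3 → ℂ)} {ω : Fin 3 → ℂ} {i₀ : Fin 3}
    (hb : ∀ i, ρ h (b i) = ω i • b i) (h0 : ω i₀ = 1) (hne : ∀ i, i ≠ i₀ → ω i ≠ 1) :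
    fix ρ h = Submodule.span ℂ {b i₀} := by
  apply le_antisymm
  · intro v hv
    have hrep : ∀ i, b.repr v i * (ω i - 1) = 0 := by
      intro i
      have h1 : ρ h v = ∑ j, (b.repr v j * ω j) • b j := by
        conv_lhs => rw [← b.sum_repr v]
        rw [map_sum]
        exact Finset.sum_congr rfl fun j _ => by rw [map_smul, hb, smul_smul]
      have h2 := congrArg (fun w => b.repr w i) (h1.symm.trans ((mem_fix ρ).mp hv))
      simp [Finsupp.single_apply] at h2
      linear_combination h2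
    have hv' : v = b.repr v i₀ • b i₀ := by
      conv_lhs => rw [← b.sum_repr v]
      refine Finset.sum_eq_single _ (fun i _ hi => ?_) (fun hc => absurd (Finset.mem_univ _) hc)
      rw [(mul_eq_zero.mp (hrep i)).resolve_right (sub_ne_zero.mpr (hne i hi)), zero_smul]
    rw [Submodule.mem_span_singleton]
    exact ⟨_, hv'.symm⟩
  · rw [Submodule.span_singleton_le_iff_mem, mem_fix, hb, h0, one_smul]

theorem Good.exists_gen (hG : Good ρ) {h : H} (hh : h ≠ 1) :
    ∃ v : Fin 3 → ℂ, v ≠ 0 ∧ fix ρ h = Submodule.span ℂ {v} := by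
  obtain ⟨b, ω, i₀, hb, h0, hne⟩ := hG.axis hh
  exact ⟨b i₀, b.ne_zero i₀, fix_eq_span hb h0 hne⟩

theorem Good.fix_eq_of_le (hG : Good ρ) {g h : H} (hg : g ≠ 1) (hh : h ≠ 1)
    (hle : fix ρ h ≤ fix ρ g) : fix ρ g = fix ρ h := by
  obtain ⟨v, hv, hve⟩ := hG.exists_gen hh
  obtain ⟨w, hw, hwe⟩ := hG.exists_gen hg
  rw [hve, hwe, Submodule.span_singleton_le_iff_mem, Submodule.mem_span_singleton] at hle
  obtain ⟨c, rfl⟩ := hle
  rw [hve, hwe, Submodule.span_singleton_smul_eq (IsUnit.mk0 c (fun hc => hv (by simp [hc]))) w]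

theorem Good.fix_ne_top (hG : Good ρ) {h : H} (hh : h ≠ 1) : fix ρ h ≠ ⊤ := fun e =>
  hh (hG.faithful h (LinearMap.ext fun v => (mem_fix ρ).mp (e ▸ Submodule.mem_top)))

/-- An element preserving an axis acts on it by `±1`. -/
theorem Good.sq_eq_one (hG : Good ρ) {g h : H} (hh : h ≠ 1) {v : Fin 3 → ℂ} (hv : v ≠ 0)
    (hvh : ρ h v = v) {α : ℂ} (hg : ρ g v = α • v) : α = 1 ∨ α = -1 := by
  haveI := Fintype.ofFinite H
  obtain ⟨B, hB0, hB⟩ := (CfsgLib.FrobSchur.exists_invForm_iff_real ρ hG.irr).mpr hG.real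
  have hdet := CfsgLib.FrobSchur.isUnit_det_of_invForm ρ hG.irr hB hB0
  have hA : ∀ (k : H) (w : Fin 3 → ℂ), CfsgLib.FrobSchur.matHom ρ k *ᵥ w = ρ k w := fun k w => by
    simp [CfsgLib.FrobSchur.matHom, LinearMap.toMatrix'_mulVec]
  have hinv : ∀ (k : H) (x y : Fin 3 → ℂ), (ρ k x) ⬝ᵥ (B *ᵥ ρ k y) = x ⬝ᵥ (B *ᵥ y) := by
    intro k x y
    rw [← hA k x, ← hA k y, ← Matrix.vecMul_transpose, ← Matrix.dotProduct_mulVec,
      Matrix.mulVec_mulVec, Matrix.mulVec_mulVec, hB k]
  have hne : v ⬝ᵥ (B *ᵥ v) ≠ 0 := by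
    intro h0
    apply hv
    obtain ⟨b, ω, i₀, hb, h1, hω⟩ := hG.axis hh
    obtain ⟨c, hc⟩ := Submodule.mem_span_singleton.mp
      (fix_eq_span hb h1 hω ▸ ((mem_fix ρ).mpr hvh))
    have hbas : ∀ i, v ⬝ᵥ (B *ᵥ b i) = 0 := by
      intro i
      rcases eq_or_ne i i₀ with rfl | hi
      · have hc0 : c ≠ 0 := fun e => hv (by rw [← hc, e, zero_smul])
        have : b i = c⁻¹ • v := by rw [← hc, smul_smul, inv_mul_cancel₀ hc0, one_smul]
        rw [this, Matrix.mulVec_smul, dotProduct_smul, h0, smul_zero]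
      · have h2 := hinv h v (b i)
        rw [hvh, hb, Matrix.mulVec_smul, dotProduct_smul, smul_eq_mul] at h2
        exact (mul_eq_zero.mp (by linear_combination h2 :
          (ω i - 1) * (v ⬝ᵥ (B *ᵥ b i)) = 0)).resolve_left (sub_ne_zero.mpr (hω i hi))
    refine Matrix.eq_zero_of_vecMul_eq_zero hdet.ne_zero (funext fun j => ?_)
    have hj : v ⬝ᵥ (B *ᵥ Pi.single j (1 : ℂ)) = 0 := by
      rw [← b.sum_repr (Pi.single j (1 : ℂ)), Matrix.mulVec_sum, dotProduct_sum]
      exact Finset.sum_eq_zero fun i _ => by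
        rw [Matrix.mulVec_smul, dotProduct_smul, hbas, smul_zero]
    rwa [Matrix.dotProduct_mulVec, dotProduct_single_one] at hj
  have h3 := hinv g v v
  rw [hg, Matrix.mulVec_smul, dotProduct_smul, smul_dotProduct, smul_smul, smul_eq_mul] at h3
  exact mul_self_eq_one_iff.mp ((mul_eq_right₀ hne).mp h3)

end Eigen

/-! ## Arithmetic -/

theorem arith_three_core {n k₁ k₂ k₃ c₃ : ℕ} (hk₂ : 2 ≤ k₂) (hk₃ : 2 ≤ k₃)
    (h₁ : n = k₁ * 2) (h₂ : n = k₂ * 3) (h₃ : n = k₃ * c₃) (hs : k₁ + k₂ + k₃ = n + 1) :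
    2 * n = 12 ∨ 2 * n = 24 ∨ 2 * n = 60 := by
  have hc : c₃ ≤ 5 := by
    by_contra hc
    have : k₃ * 6 ≤ k₃ * c₃ := Nat.mul_le_mul_left _ (by omega)
    omega
  interval_cases c₃ <;> omega

theorem arith_three_two {n k₁ k₂ k₃ c₂ c₃ : ℕ} (hk₂ : 2 ≤ k₂) (hk₃ : 2 ≤ k₃)
    (hc₂ : 2 ≤ c₂) (hc₃ : 2 ≤ c₃) (h₁ : n = k₁ * 2) (h₂ : n = k₂ * c₂) (h₃ : n = k₃ * c₃)
    (hs : k₁ + k₂ + k₃ = n + 1) : 2 * n = 12 ∨ 2 * n = 24 ∨ 2 * n = 60 := by
  rcases (show c₂ = 2 ∨ c₃ = 2 ∨ c₂ = 3 ∨ c₃ = 3 ∨ (4 ≤ c₂ ∧ 4 ≤ c₃) by omega) with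
    rfl | rfl | rfl | rfl | ⟨a, b⟩
  · omega
  · omega
  · exact arith_three_core hk₂ hk₃ h₁ h₂ h₃ hs
  · exact arith_three_core hk₃ hk₂ h₁ h₃ h₂ (by omega)
  · have := Nat.mul_le_mul_left k₂ a
    have := Nat.mul_le_mul_left k₃ b
    omega

theorem arith_two {N k₁ k₂ a b : ℕ} (ha : 2 ≤ a) (hk₁ : 2 ≤ k₁) (hk₂ : 2 ≤ k₂)
    (h₁ : N = k₁ * a) (h₂ : N = k₂ * (2 * b)) (hs : k₁ + k₂ = k₂ * b + 1) : N = 12 := by
  rcases (show a = 2 ∨ 3 ≤ a by omega) with rfl | ha3
  · have : k₂ * (2 * b) = (k₂ * b) * 2 := by ring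
    omega
  have h3 := Nat.mul_le_mul_left k₁ ha3
  have hb : b ≤ 2 := by
    by_contra hb
    have h4 : k₂ * 3 ≤ k₂ * b := Nat.mul_le_mul_left _ (by omega)
    have : k₂ * (2 * b) = (k₂ * b) * 2 := by ring
    omega
  interval_cases b
  · omega
  · omega
  · rcases (show a = 3 ∨ 4 ≤ a by omega) with rfl | ha4
    · omega
    · have := Nat.mul_le_mul_left k₁ ha4
      omega

/-- The solutions of the axis equation. -/
theorem arith {ι : Type u} [Fintype ι] {N : ℕ} (k e c : ι → ℕ) (hN : 1 < N)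
    (he : ∀ i, e i = 1 ∨ e i = 2) (hc : ∀ i, 2 ≤ c i) (hk : ∀ i, 2 ≤ k i)
    (hNi : ∀ i, N = k i * (e i * c i)) (heq : N = 1 + ∑ i, k i * (c i - 1)) :
    N = 12 ∨ N = 24 ∨ N = 60 := by
  have hw : ∀ i, N ≤ 4 * (k i * (c i - 1)) := by
    intro i
    rw [hNi i, mul_left_comm 4]
    refine Nat.mul_le_mul_left _ ?_
    rcases he i with h | h <;> rw [h] <;> have := hc i <;> omega
  have hr : Fintype.card ι < 4 := by
    by_contra hr
    have h1 : Fintype.card ι * N ≤ 4 * ∑ i, k i * (c i - 1) := by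
      rw [Finset.mul_sum, ← Finset.card_univ, ← smul_eq_mul]
      exact Finset.card_nsmul_le_sum _ _ _ fun i _ => hw i
    have : 4 * N ≤ Fintype.card ι * N := Nat.mul_le_mul_right _ (by omega)
    omega
  have hone : ∀ i, e i = 1 → N = k i * c i ∧ k i * (c i - 1) + k i = N := fun i h => by
    have := hNi i
    rw [h, one_mul] at this
    refine ⟨this, ?_⟩
    rw [this, Nat.mul_sub, mul_one, Nat.sub_add_cancel]
    exact Nat.le_mul_of_pos_right _ (by have := hc i; omega)
  have htwo : ∀ i, e i = 2 → N = 2 * (k i * c i) ∧ k i * (c i - 1) + k i = k i * c i := fun i h => by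
    have := hNi i
    rw [h, mul_left_comm] at this
    refine ⟨this, ?_⟩
    rw [Nat.mul_sub, mul_one, Nat.sub_add_cancel]
    exact Nat.le_mul_of_pos_right _ (by have := hc i; omega)
  have hhalf : ∀ i, e i = 1 → k i * 2 ≤ N := fun i h => by
    rw [(hone i h).1]; exact Nat.mul_le_mul_left _ (hc i)
  suffices key : ∀ (r : ℕ) (f : Fin r ≃ ι), r < 4 → N = 1 + ∑ i, k (f i) * (c (f i) - 1) →
      N = 12 ∨ N = 24 ∨ N = 60 by
    refine key _ (Fintype.equivFin ι).symm hr ?_
    rw [Equiv.sum_comp (Fintype.equivFin ι).symm fun i => k i * (c i - 1)]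
    exact heq
  clear hr heq
  intro r f hr heq
  interval_cases r
  · simp at heq; omega
  · simp only [Fin.sum_univ_one] at heq
    rcases he (f 0) with h | h
    · have := hone _ h; have := hk (f 0); omega
    · have := htwo _ h; have := hk (f 0); omega
  · simp only [Fin.sum_univ_two] at heq
    rcases he (f 0) with h | h <;> rcases he (f 1) with h' | h'
    · have := hone _ h; have := hone _ h'; have := hhalf _ h; have := hhalf _ h'; omega
    · have a1 := hone _ h; have a2 := htwo _ h'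
      exact Or.inl (arith_two (b := c (f 1)) (hc (f 0)) (hk (f 0)) (hk (f 1)) a1.1 (by rw [a2.1]; ring) (by omega))
    · have a1 := hone _ h'; have a2 := htwo _ h
      exact Or.inl (arith_two (b := c (f 0)) (hc (f 1)) (hk (f 1)) (hk (f 0)) a1.1 (by rw [a2.1]; ring) (by omega))
    · have := htwo _ h; have := htwo _ h'; have := hk (f 0); omega
  · simp only [Fin.sum_univ_three] at heq
    have q : ∀ i, e i = 2 := by
      intro i
      by_contra hi
      have hi1 := (he i).resolve_right hi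
      have := hw (f 0); have := hw (f 1); have := hw (f 2)
      have := hone _ hi1; have := hhalf _ hi1
      obtain ⟨j, rfl⟩ := f.surjective i
      fin_cases j <;> simp at * <;> omega
    obtain ⟨e0, g0⟩ := htwo _ (q (f 0))
    obtain ⟨e1, g1⟩ := htwo _ (q (f 1))
    obtain ⟨e2, g2⟩ := htwo _ (q (f 2))
    have c0 := hc (f 0); have c1 := hc (f 1); have c2 := hc (f 2)
    have k0 := hk (f 0); have k1 := hk (f 1); have k2 := hk (f 2)
    generalize k (f 0) = K0 at *
    generalize k (f 1) = K1 at *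
    generalize k (f 2) = K2 at *
    generalize c (f 0) = C0 at *
    generalize c (f 1) = C1 at *
    generalize c (f 2) = C2 at *
    rcases (show C0 = 2 ∨ C1 = 2 ∨ C2 = 2 ∨ (3 ≤ C0 ∧ 3 ≤ C1 ∧ 3 ≤ C2) by omega) with
      rfl | rfl | rfl | ⟨a, b, d⟩
    · have := arith_three_two (n := K0 * 2) (k₁ := K0) k1 k2 c1 c2 rfl (by omega) (by omega)
        (by omega)
      omega
    · have := arith_three_two (n := K1 * 2) (k₁ := K1) k0 k2 c0 c2 rfl (by omega) (by omega)
        (by omega)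
      omega
    · have := arith_three_two (n := K2 * 2) (k₁ := K2) k0 k1 c0 c1 rfl (by omega) (by omega)
        (by omega)
      omega
    · have := Nat.mul_le_mul_left K0 a
      have := Nat.mul_le_mul_left K1 b
      have := Nat.mul_le_mul_left K2 d
      omega

/-! ## The count -/

section Count

variable {H : Type u} [Group H] [Finite H] {ρ : Representation ℂ H (Fin 3 → ℂ)}

variable (ρ) in
/-- The axes of the non-trivial elements. -/
abbrev Axis : Type := {L : Submodule ℂ (Fin 3 → ℂ) // ∃ h : H, h ≠ 1 ∧ fix ρ h = L}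

theorem fix_conj (g h : H) : fix ρ (g * h * g⁻¹) = (fix ρ h).map (ρ g) := by
  ext w
  constructor
  · intro hw
    refine ⟨ρ g⁻¹ w, ?_, ρ.self_inv_apply g w⟩
    rw [SetLike.mem_coe, mem_fix]
    have h1 := congrArg (ρ g⁻¹) ((mem_fix ρ).mp hw)
    rwa [map_mul, map_mul, Module.End.mul_apply, Module.End.mul_apply, ρ.inv_self_apply] at h1
  · rintro ⟨x, hx, rfl⟩
    rw [mem_fix, map_mul, map_mul, Module.End.mul_apply, Module.End.mul_apply, ρ.inv_self_apply,
      (mem_fix ρ).mp hx]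

/-- The action on the axes. -/
@[reducible] def axisAction : MulAction H (Axis ρ) where
  smul g L := ⟨L.1.map (ρ g), by
    obtain ⟨h, hh, he⟩ := L.2
    exact ⟨g * h * g⁻¹, fun e => hh (conj_eq_one_iff.mp e), by rw [fix_conj, he]⟩⟩
  one_smul L := Subtype.ext (show L.1.map (ρ 1) = L.1 by
    rw [map_one]; exact Submodule.map_id _)
  mul_smul g g' L := Subtype.ext (show L.1.map (ρ (g * g')) = (L.1.map (ρ g')).map (ρ g) by
    rw [map_mul, Module.End.mul_eq_comp, Submodule.map_comp])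

/-- The pointwise stabiliser. -/
def pointwise (L : Submodule ℂ (Fin 3 → ℂ)) : Subgroup H where
  carrier := {g | ∀ v ∈ L, ρ g v = v}
  one_mem' v _ := by simp
  mul_mem' {a b} ha hb v hv := by rw [map_mul, Module.End.mul_apply, hb v hv, ha v hv]
  inv_mem' {a} ha v hv := by
    conv_lhs => rw [← ha v hv]
    exact ρ.inv_self_apply a v

theorem mem_pointwise_iff (L : Submodule ℂ (Fin 3 → ℂ)) (g : H) :
    g ∈ pointwise (ρ := ρ) L ↔ ∀ v ∈ L, ρ g v = v := Iff.rfl

/-- The number of elements with a given axis. -/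
theorem Good.card_fibre (hG : Good ρ) (L : Axis ρ) :
    Nat.card {h : {h : H // h ≠ 1} // fix ρ h.1 = L.1} =
      Nat.card (pointwise (ρ := ρ) L.1) - 1 := by
  classical
  haveI := Fintype.ofFinite H
  have h1 : Nat.card {h : {h : H // h ≠ 1} // fix ρ h.1 = L.1} =
      Nat.card {g : pointwise (ρ := ρ) L.1 // g ≠ 1} := by
    refine Nat.card_eq_of_bijective
      (fun h => ⟨⟨h.1.1, fun v hv => (mem_fix ρ).mp (h.2.symm ▸ hv)⟩,
        fun e => h.1.2 (congrArg Subtype.val e)⟩) ⟨?_, ?_⟩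
    · intro a b hab
      exact Subtype.ext (Subtype.ext (congrArg (fun g => g.1.1) hab))
    · rintro ⟨⟨g, hg⟩, hg1⟩
      have hg1' : g ≠ 1 := fun e => hg1 (Subtype.ext e)
      obtain ⟨h₀, hh₀, he₀⟩ := L.2
      refine ⟨⟨⟨g, hg1'⟩, ?_⟩, rfl⟩
      rw [← he₀]
      refine hG.fix_eq_of_le hg1' hh₀ fun v hv => ?_
      exact (mem_fix ρ).mpr (hg v (he₀ ▸ hv))
  rw [h1, Nat.card_eq_fintype_card, Nat.card_eq_fintype_card, Fintype.card_subtype_compl,
    Fintype.card_subtype_eq]

theorem mem_pointwise_span {v : Fin 3 → ℂ} {L : Submodule ℂ (Fin 3 → ℂ)}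
    (hL : L = Submodule.span ℂ {v}) (g : H) : g ∈ pointwise (ρ := ρ) L ↔ ρ g v = v := by
  subst hL
  rw [mem_pointwise_iff]
  refine ⟨fun h => h v (Submodule.mem_span_singleton_self v), fun h w hw => ?_⟩
  obtain ⟨c, rfl⟩ := Submodule.mem_span_singleton.mp hw
  rw [map_smul, h]

theorem pointwise_two_le (L : Axis ρ) : 2 ≤ Nat.card (pointwise (ρ := ρ) L.1) := by
  obtain ⟨h₀, hh₀, he₀⟩ := L.2
  have hh0C : h₀ ∈ pointwise (ρ := ρ) L.1 := fun w hw => (mem_fix ρ).mp (he₀.symm ▸ hw)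
  show 1 < _
  rw [Finite.one_lt_card_iff_nontrivial]
  exact ⟨⟨h₀, hh0C⟩, 1, fun e => hh₀ (congrArg Subtype.val e)⟩

/-- The setwise stabiliser of an axis. -/
def setwise (L : Submodule ℂ (Fin 3 → ℂ)) : Subgroup H where
  carrier := {g | L.map (ρ g) = L}
  one_mem' := by
    show L.map (ρ 1) = L
    rw [map_one]; exact Submodule.map_id _
  mul_mem' {a b} ha hb := by
    show L.map (ρ (a * b)) = L
    rw [map_mul, Module.End.mul_eq_comp, Submodule.map_comp, hb, ha]
  inv_mem' {a} ha := by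
    show L.map (ρ a⁻¹) = L
    have h1 : (L.map (ρ a)).map (ρ a⁻¹) = L := by
      rw [← Submodule.map_comp, ← Module.End.mul_eq_comp, ← map_mul, inv_mul_cancel, map_one]
      exact Submodule.map_id _
    rwa [ha] at h1

theorem mem_setwise {L : Submodule ℂ (Fin 3 → ℂ)} {g : H} :
    g ∈ setwise (ρ := ρ) L ↔ L.map (ρ g) = L := Iff.rfl

theorem Good.setwise_card (hG : Good ρ) (L : Axis ρ) :
    (Nat.card (setwise (ρ := ρ) L.1) = Nat.card (pointwise (ρ := ρ) L.1) ∨
      Nat.card (setwise (ρ := ρ) L.1) = 2 * Nat.card (pointwise (ρ := ρ) L.1)) := by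
  classical
  obtain ⟨h₀, hh₀, he₀⟩ := L.2
  obtain ⟨v, hv, hve⟩ := hG.exists_gen hh₀
  have hL : L.1 = Submodule.span ℂ {v} := he₀.symm.trans hve
  have hvh : ρ h₀ v = v := (mem_fix ρ).mp (hve ▸ Submodule.mem_span_singleton_self v)
  have hle : pointwise (ρ := ρ) L.1 ≤ setwise (ρ := ρ) L.1 := by
    intro g hg
    rw [mem_setwise]
    ext w
    exact ⟨fun ⟨x, hx, hxw⟩ => by rw [← hxw, hg x hx]; exact hx,
      fun hw => ⟨w, hw, hg w hw⟩⟩
  have hsign : ∀ g ∈ setwise (ρ := ρ) L.1, ρ g v = v ∨ ρ g v = -v := by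
    intro g hg
    have h2 : ρ g v ∈ L.1 :=
      (mem_setwise.mp hg) ▸ Submodule.mem_map_of_mem (hL ▸ Submodule.mem_span_singleton_self v)
    rw [hL, Submodule.mem_span_singleton] at h2
    obtain ⟨α, hα⟩ := h2
    rcases hG.sq_eq_one hh₀ hv hvh hα.symm with rfl | rfl <;> simp [← hα]
  have hd2 : Nat.card (setwise (ρ := ρ) L.1) ≤ 2 * Nat.card (pointwise (ρ := ρ) L.1) := by
    by_cases hall : ∀ g ∈ setwise (ρ := ρ) L.1, g ∈ pointwise (ρ := ρ) L.1
    · rw [le_antisymm hle hall]; omega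
    · push Not at hall
      obtain ⟨g₁, hg₁, hg₁n⟩ := hall
      have hneg : ∀ g ∈ setwise (ρ := ρ) L.1, g ∉ pointwise (ρ := ρ) L.1 → ρ g v = -v :=
        fun g hg hgn => (hsign g hg).resolve_left fun h =>
          hgn ((mem_pointwise_span hL g).mpr h)
      let ψ : (setwise (ρ := ρ) L.1) → Bool × pointwise (ρ := ρ) L.1 := fun g =>
        if h : (g : H) ∈ pointwise (ρ := ρ) L.1 then (true, ⟨g, h⟩)
        else (false, ⟨g₁⁻¹ * g, (mem_pointwise_span hL _).mpr (by
          rw [map_mul, Module.End.mul_apply, hneg g g.2 h, ← hneg g₁ hg₁ hg₁n,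
            ρ.inv_self_apply])⟩)
      have hψ : Function.Injective ψ := by
        intro a b hab
        by_cases ha : (a : H) ∈ pointwise (ρ := ρ) L.1 <;>
          by_cases hb : (b : H) ∈ pointwise (ρ := ρ) L.1 <;>
          simp [ψ, ha, hb] at hab
        · exact hab
        · exact hab
      refine (Nat.card_le_card_of_injective ψ hψ).trans (le_of_eq ?_)
      simp [Nat.card_prod]
  obtain ⟨d, hd⟩ := Subgroup.card_dvd_of_le hle
  have hpos : 0 < Nat.card (setwise (ρ := ρ) L.1) := Nat.card_pos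
  rw [hd] at hd2 hpos ⊢
  have hc0 : 0 < Nat.card (pointwise (ρ := ρ) L.1) := Nat.card_pos
  have : d ≤ 2 := by
    by_contra h
    have : Nat.card (pointwise (ρ := ρ) L.1) * 3 ≤
        Nat.card (pointwise (ρ := ρ) L.1) * d := Nat.mul_le_mul_left _ (by omega)
    omega
  interval_cases d <;> omega

theorem Good.setwise_ne_top (hG : Good ρ) (L : Axis ρ) : setwise (ρ := ρ) L.1 ≠ ⊤ := by
  intro htop
  obtain ⟨h₀, hh₀, he₀⟩ := L.2
  obtain ⟨v, hv, hve⟩ := hG.exists_gen hh₀
  obtain ⟨-, hirr⟩ := (isIrreducible_iff ρ).mp hG.irr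
  rcases hirr L.1 (fun g w hw =>
      (mem_setwise.mp (htop ▸ Subgroup.mem_top g)) ▸ Submodule.mem_map_of_mem hw) with h | h
  · rw [← he₀, hve, Submodule.span_singleton_eq_bot] at h; exact hv h
  · exact hG.fix_ne_top hh₀ (he₀.trans h)

theorem card_pointwise_map (g : H) (L : Submodule ℂ (Fin 3 → ℂ)) :
    Nat.card (pointwise (ρ := ρ) (L.map (ρ g))) = Nat.card (pointwise (ρ := ρ) L) := by
  refine Nat.card_congr ((MulAut.conj g).toEquiv.subtypeEquiv fun a => ?_).symm
  show (∀ v ∈ L, ρ a v = v) ↔ ∀ v ∈ L.map (ρ g), ρ (g * a * g⁻¹) v = v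
  constructor
  · rintro h _ ⟨x, hx, rfl⟩
    rw [map_mul, map_mul, Module.End.mul_apply, Module.End.mul_apply, ρ.inv_self_apply, h x hx]
  · intro h x hx
    have := h _ (Submodule.mem_map_of_mem hx)
    rw [map_mul, map_mul, Module.End.mul_apply, Module.End.mul_apply, ρ.inv_self_apply] at this
    exact (Function.LeftInverse.injective (ρ.inv_self_apply g)) this

theorem Good.one_lt_card (hG : Good ρ) : 1 < Nat.card H := by
  rw [Finite.one_lt_card_iff_nontrivial]
  by_contra hnt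
  rw [not_nontrivial_iff_subsingleton] at hnt
  obtain ⟨-, hirr⟩ := (isIrreducible_iff ρ).mp hG.irr
  rcases hirr (Submodule.span ℂ {Pi.single (0 : Fin 3) (1 : ℂ)}) (fun g v hv => by
      rw [Subsingleton.elim g 1, map_one]; exact hv) with h | h
  · rw [Submodule.span_singleton_eq_bot] at h
    simpa using congrFun h 0
  · have h1 : (Pi.single (1 : Fin 3) (1 : ℂ) : Fin 3 → ℂ) ∈
        Submodule.span ℂ {Pi.single (0 : Fin 3) (1 : ℂ)} := by rw [h]; exact Submodule.mem_top
    obtain ⟨c, hc⟩ := Submodule.mem_span_singleton.mp h1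
    simpa using congrFun hc 1

theorem Good.card_eq (hG : Good ρ) : Nat.card H = 12 ∨ Nat.card H = 24 ∨ Nat.card H = 60 := by
  classical
  haveI := Fintype.ofFinite H
  letI inst : MulAction H (Axis ρ) := axisAction
  haveI : Finite (Axis ρ) := Finite.of_surjective
    (fun h : {h : H // h ≠ 1} => (⟨fix ρ h.1, h.1, h.2, rfl⟩ : Axis ρ))
    (by rintro ⟨L, h, hh, rfl⟩; exact ⟨⟨h, hh⟩, rfl⟩)
  haveI := Fintype.ofFinite (Axis ρ)
  let Ω := Quotient (MulAction.orbitRel H (Axis ρ))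
  have hstab : ∀ L : Axis ρ, MulAction.stabilizer H L = setwise (ρ := ρ) L.1 := fun L => by
    ext g
    rw [MulAction.mem_stabilizer_iff, mem_setwise, Subtype.ext_iff]
    rfl
  let c : Ω → ℕ := fun q => Nat.card (pointwise (ρ := ρ) q.out.1)
  let e : Ω → ℕ := fun q => Nat.card (setwise (ρ := ρ) q.out.1) / c q
  let k : Ω → ℕ := fun q => (setwise (ρ := ρ) q.out.1).index
  refine arith k e c hG.one_lt_card (fun q => ?_) (fun q => pointwise_two_le q.out)
    (fun q => ?_) (fun q => ?_) ?_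
  · have h1 := pointwise_two_le q.out
    rcases hG.setwise_card q.out with h | h
    · left; simp only [e, c, h]; exact Nat.div_self (by omega)
    · right; simp only [e, c, h]; exact Nat.mul_div_cancel _ (by omega)
  · exact Subgroup.one_lt_index_of_ne_top (hG.setwise_ne_top q.out)
  · have hd : c q ∣ Nat.card (setwise (ρ := ρ) q.out.1) := by
      rcases hG.setwise_card q.out with h | h
      · exact dvd_of_eq h.symm
      · exact ⟨2, h.trans (mul_comm _ _)⟩
    rw [Nat.div_mul_cancel hd, Subgroup.index_mul_card]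
  · have h1 : Nat.card {h : H // h ≠ 1} =
        ∑ L : Axis ρ, (Nat.card (pointwise (ρ := ρ) L.1) - 1) := by
      rw [← Finset.sum_congr rfl fun L _ => hG.card_fibre L, ← Nat.card_sigma]
      refine Nat.card_eq_of_bijective
        (fun h => ⟨⟨fix ρ h.1, h.1, h.2, rfl⟩, h, rfl⟩) ⟨fun a b hab => ?_, ?_⟩
      · exact congrArg (fun z : Σ L : Axis ρ, {h : {h : H // h ≠ 1} // fix ρ h.1 = L.1} => z.2.1)
          hab
      · rintro ⟨⟨L, hL⟩, ⟨h, hh⟩⟩
        obtain rfl : fix ρ h.1 = L := hh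
        exact ⟨h, rfl⟩
    have h2 : ∑ L : Axis ρ, (Nat.card (pointwise (ρ := ρ) L.1) - 1) =
        ∑ q : Ω, k q * (c q - 1) := by
      rw [← (MulAction.selfEquivSigmaOrbits H (Axis ρ)).symm.sum_comp, Fintype.sum_sigma]
      refine Finset.sum_congr rfl fun q _ => ?_
      have h3 : ∀ x : MulAction.orbit H q.out,
          Nat.card (pointwise (ρ := ρ)
            ((MulAction.selfEquivSigmaOrbits H (Axis ρ)).symm ⟨q, x⟩).1) - 1 = c q - 1 := by
        rintro ⟨x, g, rfl⟩
        show Nat.card (pointwise (ρ := ρ) (q.out.1.map (ρ g))) - 1 = _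
        rw [card_pointwise_map]
      rw [Finset.sum_congr rfl fun x _ => h3 x, Finset.sum_const, smul_eq_mul, Finset.card_univ]
      congr 1
      rw [← Nat.card_eq_fintype_card, Nat.card_congr (MulAction.orbitEquivQuotientStabilizer H q.out),
        ← Subgroup.index_eq_card, hstab]
    rw [← h2, ← h1, Nat.card_eq_fintype_card, Nat.card_eq_fintype_card,
      Fintype.card_subtype_compl, Fintype.card_subtype_eq]
    have := Fintype.card_pos (α := H)
    omega

end Count

/-- A perfect group with a faithful real irreducible character of degree three is simple of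
order 60. -/
theorem card_eq_sixty {H : Type u} [Group H] [Finite H] (hp : commutator H = ⊤)
    (χ : IrrCharacter H) (h3 : (χ : H → ℂ) 1 = 3) (hr : ∀ h, ((χ : H → ℂ) h).im = 0)
    (hf : ∀ h, (χ : H → ℂ) h = 3 → h = 1) :
    Nat.card H = 60 ∧ IsSimpleGroup H := by
  obtain ⟨_, n, ρ, hρ, rfl⟩ := χ
  have hn : n = 3 := by
    have : ρ.character 1 = (3 : ℂ) := h3
    rw [Representation.char_one, Module.finrank_fin_fun] at this
    exact_mod_cast this
  subst hn
  have hG : Good ρ := ⟨hρ, hp, hr, fun h hh => hf h (by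
    show ρ.character h = 3
    rw [Representation.character, hh]
    simp)⟩
  have hns : ¬ Group.IsSolvable H := by
    intro hs
    have h1 : 1 < Nat.card H := by rcases hG.card_eq with e | e | e <;> omega
    haveI : Nontrivial H := Finite.one_lt_card_iff_nontrivial.mp h1
    exact (Group.IsSolvable.commutator_lt_top_of_nontrivial H).ne hp
  have h60 : Nat.card H = 60 := by
    rcases hG.card_eq with e | e | e
    · exact absurd (Burnside.isSolvable_of_card_eq Nat.prime_two Nat.prime_three 2 1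
        (by rw [e]; norm_num)) hns
    · exact absurd (Burnside.isSolvable_of_card_eq Nat.prime_two Nat.prime_three 3 1
        (by rw [e]; norm_num)) hns
    · exact e
  exact ⟨h60, CfsgLib.Icosahedral.isSimpleGroup_of_card_sixty h60 hns⟩

end CfsgLib.RealDegreeThree
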