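import Mathlib
import Cfsg.Agent.Lib.Recog.Isospectral

/-!
The affine group of SL(2) over a finite field of characteristic 2 has the element orders that
matter for the prime graph of SL(2) itself, so there are arbitrarily large groups with that graph.
-/

set_option autoImplicit false

namespace CfsgLib.Recognition.AffineEven

open Matrix

variable {F : Type*} [Field F]

local notation "V₂" => Multiplicative (Fin 2 → F)

/-- The natural action on vectors, multiplicatively. -/
def natHom : SpecialLinearGroup (Fin 2) F →* MulAut V₂ where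
  toFun g :=
    { toFun := fun v => Multiplicative.ofAdd ((g : Matrix (Fin 2) (Fin 2) F) *ᵥ v.toAdd)
      invFun := fun v => Multiplicative.ofAdd (((g⁻¹ : SpecialLinearGroup (Fin 2) F) : Matrix (Fin 2) (Fin 2) F) *ᵥ v.toAdd)
      left_inv := fun v => by
        apply Multiplicative.toAdd.injective
        simp only [toAdd_ofAdd]
        rw [Matrix.mulVec_mulVec, ← Matrix.SpecialLinearGroup.coe_mul, inv_mul_cancel,
          Matrix.SpecialLinearGroup.coe_one, Matrix.one_mulVec]
      right_inv := fun v => by
        apply Multiplicative.toAdd.injective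
        simp only [toAdd_ofAdd]
        rw [Matrix.mulVec_mulVec, ← Matrix.SpecialLinearGroup.coe_mul, mul_inv_cancel,
          Matrix.SpecialLinearGroup.coe_one, Matrix.one_mulVec]
      map_mul' := fun v w => by
        apply Multiplicative.toAdd.injective
        simp only [toAdd_mul, toAdd_ofAdd, Matrix.mulVec_add] }
  map_one' := by
    ext v : 1
    apply Multiplicative.toAdd.injective
    simp only [MulEquiv.coe_mk, Equiv.coe_fn_mk, toAdd_ofAdd, Matrix.SpecialLinearGroup.coe_one,
      Matrix.one_mulVec, MulAut.one_apply]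
  map_mul' g h := by
    ext v : 1
    apply Multiplicative.toAdd.injective
    simp only [MulEquiv.coe_mk, Equiv.coe_fn_mk, toAdd_ofAdd, MulAut.mul_apply,
      Matrix.SpecialLinearGroup.coe_mul, Matrix.mulVec_mulVec]

/-- Cayley–Hamilton in dimension two. -/
theorem sq_eq (g : SpecialLinearGroup (Fin 2) F) :
    (g : Matrix (Fin 2) (Fin 2) F) * g = (g : Matrix (Fin 2) (Fin 2) F).trace • (g : Matrix (Fin 2) (Fin 2) F) - 1 := by
  have hd := g.2
  rw [Matrix.det_fin_two] at hd
  ext i j
  fin_cases i <;> fin_cases j <;> simp [Matrix.mul_apply, Fin.sum_univ_two, Matrix.trace_fin_two] <;>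
    first | ring1 | linear_combination hd | linear_combination (-hd)

variable [CharP F 2]

/-- An element fixing a nonzero vector squares to one. -/
theorem sq_eq_one_of_fixed (g : SpecialLinearGroup (Fin 2) F) {v : Fin 2 → F} (hv : v ≠ 0)
    (h : (g : Matrix (Fin 2) (Fin 2) F) *ᵥ v = v) : g ^ 2 = 1 := by
  have hdet : ((g : Matrix (Fin 2) (Fin 2) F) - 1).det = 0 := by
    rw [← Matrix.exists_mulVec_eq_zero_iff]
    exact ⟨v, hv, by rw [Matrix.sub_mulVec, h, Matrix.one_mulVec, sub_self]⟩
  have hd := g.2
  rw [Matrix.det_fin_two] at hdet hd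
  simp [CharTwo.sub_eq_add] at hdet hd
  have h2 : (2 : F) = 0 := CharTwo.two_eq_zero
  have ht : (g : Matrix (Fin 2) (Fin 2) F).trace = 0 := by
    rw [Matrix.trace_fin_two]
    linear_combination hdet - hd - h2
  apply Subtype.ext
  show ((g ^ 2 : Matrix.SpecialLinearGroup (Fin 2) F) : Matrix (Fin 2) (Fin 2) F) = 1
  rw [sq, Matrix.SpecialLinearGroup.coe_mul, sq_eq, ht, zero_smul, zero_sub]
  ext i j
  simp [CharTwo.neg_eq]

/-- The centre of SL(2) in characteristic two is trivial. -/
theorem center_eq_bot : Subgroup.center (SpecialLinearGroup (Fin 2) F) = ⊥ := by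
  rw [Subgroup.eq_bot_iff_forall]
  intro g hg
  obtain ⟨r, hr, hrg⟩ := Matrix.SpecialLinearGroup.mem_center_iff.1 hg
  rw [Fintype.card_fin] at hr
  have : r = 1 := by
    have : (r + 1) * (r + 1) = 0 := by
      have h2 : (2 : F) = 0 := CharTwo.two_eq_zero
      linear_combination hr + (r + 1) * h2
    rcases mul_eq_zero.1 this with h | h <;> exact CharTwo.add_eq_zero.1 h
  apply Subtype.ext
  show (g : Matrix (Fin 2) (Fin 2) F) = 1
  rw [← hrg, this, map_one]

/-- PSL(2) and SL(2) agree in characteristic two. -/
noncomputable def pslEquiv : ProjectiveSpecialLinearGroup (Fin 2) F ≃* SpecialLinearGroup (Fin 2) F :=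
  (QuotientGroup.quotientMulEquivOfEq center_eq_bot).trans QuotientGroup.quotientBot

/-- Prime graph equality transported from equality of spectra. -/
theorem primeGraph_of_range_eq {A B : Type*} [Group A] [Finite A] [Group B] [Finite B]
    (h : Set.range (orderOf : A → ℕ) = Set.range (orderOf : B → ℕ)) :
    (∀ p : ℕ, p.Prime → (p ∣ Nat.card A ↔ p ∣ Nat.card B)) ∧
      (∀ p q : ℕ, p.Prime → q.Prime → p ≠ q →
        ((∃ g : A, orderOf g = p * q) ↔ (∃ g : B, orderOf g = p * q))) := by
  refine ⟨fun p hp => ?_, fun p q _ _ _ => Set.ext_iff.1 h (p * q)⟩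
  have : Fact p.Prime := ⟨hp⟩
  constructor <;> intro hd <;> obtain ⟨x, hx⟩ := exists_prime_orderOf_dvd_card' p hd
  · obtain ⟨y, hy⟩ : p ∈ Set.range (orderOf : B → ℕ) := h ▸ ⟨x, hx⟩
    exact hy ▸ orderOf_dvd_natCard y
  · obtain ⟨y, hy⟩ : p ∈ Set.range (orderOf : A → ℕ) := h.symm ▸ ⟨x, hx⟩
    exact hy ▸ orderOf_dvd_natCard y

/-- There are arbitrarily large groups with the prime graph of SL(2) over a finite field of
characteristic two. -/
theorem exists_large_same_primeGraph [Fintype F] (N : ℕ) :
    ∃ (H : Type) (_ : Group H) (_ : Finite H), N < Nat.card H ∧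
      ((∀ p : ℕ, p.Prime → (p ∣ Nat.card (SpecialLinearGroup (Fin 2) F) ↔ p ∣ Nat.card H)) ∧
      (∀ p q : ℕ, p.Prime → q.Prime → p ≠ q →
        ((∃ g : SpecialLinearGroup (Fin 2) F, orderOf g = p * q) ↔ (∃ g : H, orderOf g = p * q)))) := by
  classical
  let A := V₂ ⋊[natHom (F := F)] SpecialLinearGroup (Fin 2) F
  have : Finite A := Finite.of_equiv _ SemidirectProduct.equivProd.symm
  let W : Subgroup A := (SemidirectProduct.inl : V₂ →* A).range
  have hW : W = (SemidirectProduct.rightHom : A →* _).ker := SemidirectProduct.range_inl_eq_ker_rightHom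
  have hWn : W.Normal := hW ▸ MonoidHom.normal_ker _
  have hexp : ∀ x ∈ W, x ^ 2 = 1 := by
    rintro _ ⟨v, rfl⟩
    rw [← map_pow, sq]
    have : v * v = 1 := by
      apply Multiplicative.toAdd.injective
      funext i
      exact CharTwo.add_self_eq_zero _
    rw [this, map_one]
  have hWne : W ≠ ⊥ := by
    intro h
    have h1 : (SemidirectProduct.inl (Multiplicative.ofAdd (Pi.single 0 1 : Fin 2 → F)) : A) ∈ W :=
      ⟨_, rfl⟩
    rw [h, Subgroup.mem_bot] at h1
    have := congrFun (congrArg (fun x : A => Multiplicative.toAdd x.left) h1) 0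
    simp at this
  obtain ⟨H, iG, iF, hN, hspec⟩ :=
    CfsgLib.Recog.exists_large_isospectral_of_exponent W hWne Nat.prime_two hexp N
  refine ⟨H, iG, inferInstance, by rwa [Nat.card_eq_fintype_card], ?_⟩
  obtain ⟨hπ, hedge⟩ := primeGraph_of_range_eq (A := A) (B := H) hspec.symm
  -- a two-element of the kernel cannot commute with an element of odd prime order
  have key : ∀ (y : A) (s : ℕ), s.Prime → s ≠ 2 → orderOf y.right = s → orderOf y ≠ 2 * s := by
    intro y s hs hs2 hr ho
    have hu : y ^ s ∈ W := by
      rw [hW, MonoidHom.mem_ker, map_pow]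
      show y.right ^ s = 1
      rw [← hr]
      exact pow_orderOf_eq_one _
    obtain ⟨v, hv⟩ := hu
    have hv1 : v ≠ 1 := by
      rintro rfl
      rw [map_one] at hv
      have := orderOf_dvd_of_pow_eq_one hv.symm
      rw [ho] at this
      have := Nat.le_of_dvd hs.pos this
      have := hs.pos
      omega
    have hcomm : y * SemidirectProduct.inl v * y⁻¹ = SemidirectProduct.inl v := by
      rw [hv, ← pow_succ', pow_succ, mul_inv_cancel_right]
    have hfix : (y.right : Matrix (Fin 2) (Fin 2) F) *ᵥ v.toAdd = v.toAdd := by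
      have h1 := congrArg (fun x : A => x.left) hcomm
      have h3 : natHom (F := F) y.right v = v := by
        simp [A, SemidirectProduct.mul_left, SemidirectProduct.mul_right] at h1
        exact h1
      exact congrArg Multiplicative.toAdd h3
    have h2 := orderOf_dvd_of_pow_eq_one
      (sq_eq_one_of_fixed y.right (fun e => hv1 (Multiplicative.toAdd.injective e)) hfix)
    rw [hr] at h2
    exact hs2 ((Nat.prime_dvd_prime_iff_eq hs Nat.prime_two).1 h2)
  constructor
  · intro p hp
    rw [← hπ p hp]
    have hA : Nat.card A = Nat.card V₂ * Nat.card (SpecialLinearGroup (Fin 2) F) :=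
      SemidirectProduct.card
    constructor
    · intro h
      rw [hA]
      exact h.mul_left _
    · intro h
      rw [hA, hp.dvd_mul] at h
      rcases h with h | h
      · have hp2 : p = 2 := by
          have h3 : IsPGroup 2 V₂ := fun v => ⟨1, by
            apply Multiplicative.toAdd.injective
            funext i
            rw [pow_one, sq]
            exact CharTwo.add_self_eq_zero _⟩
          obtain ⟨k, hk⟩ := IsPGroup.iff_card.1 h3
          rw [hk] at h
          exact (Nat.prime_dvd_prime_iff_eq hp Nat.prime_two).1 (hp.dvd_of_dvd_pow h)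
        subst hp2
        let u : SpecialLinearGroup (Fin 2) F := ⟨!![1, 1; 0, 1], by simp⟩
        have hu : orderOf u = 2 := by
          refine orderOf_eq_prime ?_ (fun e => ?_)
          · rw [sq]
            apply Subtype.ext
            show (!![(1 : F), 1; 0, 1] * !![(1 : F), 1; 0, 1]) = 1
            ext i j
            fin_cases i <;> fin_cases j <;>
              simp [Matrix.mul_apply, Fin.sum_univ_two, CharTwo.add_self_eq_zero]
          · have := congrFun (congrFun (congrArg Subtype.val e) 0) 1
            simp [u] at this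
        have := orderOf_dvd_natCard u
        rwa [hu] at this
      · exact h
  · intro p q hp hq hpq
    rw [← hedge p q hp hq hpq]
    constructor
    · rintro ⟨g, hg⟩
      exact ⟨SemidirectProduct.inr g, (orderOf_injective _ SemidirectProduct.inr_injective g).trans hg⟩
    · rintro ⟨y, hy⟩
      have h1 : orderOf y.right ∣ p * q := hy ▸ orderOf_map_dvd SemidirectProduct.rightHom y
      have h2 : p * q ∣ orderOf y.right * 2 := by
        rw [← hy]
        refine orderOf_dvd_of_pow_eq_one ?_
        rw [pow_mul]
        refine hexp _ ?_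
        rw [hW, MonoidHom.mem_ker, map_pow]
        exact pow_orderOf_eq_one _
      by_cases hall : orderOf y.right = p * q
      · exact ⟨_, hall⟩
      exfalso
      obtain ⟨k, hk⟩ := h1
      have hpos := orderOf_pos y.right
      have hk2 : k ∣ 2 := by
        rw [hk] at h2
        exact Nat.dvd_of_mul_dvd_mul_left hpos h2
      have hk' : k = 2 := by
        rcases (Nat.dvd_prime Nat.prime_two).1 hk2 with h | h
        · exact absurd (by rw [hk, h, mul_one]) hall
        · exact h
      subst hk'
      have h2d : 2 ∣ p * q := ⟨orderOf y.right, by rw [hk, mul_comm]⟩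
      rcases (Nat.Prime.dvd_mul Nat.prime_two).1 h2d with h | h
      · obtain rfl := (Nat.prime_dvd_prime_iff_eq Nat.prime_two hp).1 h
        exact key y q hq hpq.symm (by omega) hy
      · obtain rfl := (Nat.prime_dvd_prime_iff_eq Nat.prime_two hq).1 h
        exact key y p hp hpq (by omega) (hy.trans (mul_comm _ _))

end CfsgLib.Recognition.AffineEven
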