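import Mathlib

/-!
Carmichael's presentation of the alternating groups.
-/

set_option autoImplicit false

namespace CfsgLib.Carmichael

/-- The relations on the first `m` terms of a sequence. -/
structure Rels {G : Type*} [Group G] (x : ℕ → G) (m : ℕ) : Prop where
  cube : 0 < m → x 0 ^ 3 = 1
  sq : ∀ i, 1 ≤ i → i < m → x i ^ 2 = 1
  adj : ∀ i, i + 1 < m → (x i * x (i + 1)) ^ 3 = 1
  far : ∀ i j, i + 1 < j → j < m → (x i * x j) ^ 2 = 1

/-- The descending product `x (m-1) * ... * x j`. -/
def W {G : Type*} [Group G] (x : ℕ → G) (m j : ℕ) : G :=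
  ((List.range (m - j)).map fun k => x (m - 1 - k)).prod

variable {G : Type*} [Group G] {x : ℕ → G} {m : ℕ}

theorem W_self : W x m m = 1 := by simp [W]

theorem W_step {j : ℕ} (hj : j < m) : W x m j = W x m (j + 1) * x j := by
  rw [W, W, show m - j = (m - (j + 1)) + 1 by omega, List.range_succ, List.map_append,
    List.prod_append]
  simp only [List.map_cons, List.map_nil, List.prod_cons, List.prod_nil, mul_one]
  congr 2
  omega

theorem Rels.inv_eq (hR : Rels x m) {i : ℕ} (h1 : 1 ≤ i) (hi : i < m) : (x i)⁻¹ = x i := by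
  rw [inv_eq_iff_mul_eq_one, ← pow_two]
  exact hR.sq i h1 hi

theorem Rels.comm (hR : Rels x m) {i j : ℕ} (h1 : 1 ≤ i) (hij : i + 1 < j) (hj : j < m) :
    x i * x j = x j * x i := by
  have h := hR.far i j hij hj
  rw [pow_two, mul_eq_one_iff_eq_inv, mul_inv_rev, hR.inv_eq h1 (by omega),
    hR.inv_eq (by omega) hj] at h
  exact h

theorem Rels.zero_far (hR : Rels x m) {j : ℕ} (h1 : 2 ≤ j) (hj : j < m) :
    x j * x 0 = (x 0)⁻¹ * x j := by
  have h := hR.far 0 j (by omega) hj
  rw [pow_two] at h
  have h' : x j * (x 0 * x j) = (x 0)⁻¹ := by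
    rw [eq_inv_iff_mul_eq_one]
    calc x j * (x 0 * x j) * x 0 = (x 0)⁻¹ * ((x 0 * x j) * (x 0 * x j)) * x 0 := by group
      _ = 1 := by rw [h]; group
  calc x j * x 0 = x j * (x 0 * x j) * (x j)⁻¹ := by group
    _ = (x 0)⁻¹ * x j := by rw [h', hR.inv_eq (by omega) hj]

theorem Rels.braid (hR : Rels x m) {i : ℕ} (h1 : 1 ≤ i) (hi : i + 1 < m) :
    x (i + 1) * x i * x (i + 1) = x i * x (i + 1) * x i := by
  have h := hR.adj i hi
  have ha := hR.inv_eq h1 (show i < m by omega)
  have hb := hR.inv_eq (show 1 ≤ i + 1 by omega) hi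
  generalize x i = a at h ha
  generalize x (i + 1) = b at h hb
  have h' : b * a * b = a⁻¹ * b⁻¹ * a⁻¹ := by
    calc b * a * b = a⁻¹ * (a * b) ^ 3 * b⁻¹ * a⁻¹ := by
          simp only [pow_succ, pow_zero]; group
      _ = a⁻¹ * b⁻¹ * a⁻¹ := by rw [h, mul_one]
  rw [h', ha, hb]

theorem Rels.braid_zero (hR : Rels x m) (hm : 1 < m) :
    x 1 * x 0 * x 1 = (x 0)⁻¹ * x 1 * (x 0)⁻¹ := by
  have h : (x 0 * x 1) ^ 3 = 1 := hR.adj 0 hm
  have hb := hR.inv_eq (le_refl 1) hm
  generalize x 0 = a at h
  generalize x 1 = b at h hb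
  calc b * a * b = a⁻¹ * (a * b) ^ 3 * b⁻¹ * a⁻¹ := by simp only [pow_succ, pow_zero]; group
    _ = a⁻¹ * b * a⁻¹ := by rw [h, mul_one, hb]

theorem cube_eq (a : G) : a * a * a = a ^ 3 := by rw [pow_succ, pow_two]

theorem W_comm (hR : Rels x m) {i : ℕ} (h1 : 1 ≤ i) :
    ∀ d j, m = j + d → i + 2 ≤ j → W x m j * x i = x i * W x m j := by
  intro d
  induction d with
  | zero => intro j hj _; obtain rfl : j = m := by omega
            simp [W_self]
  | succ d ih =>
    intro j hj hij
    rw [W_step (by omega), mul_assoc, ← hR.comm h1 (by omega) (by omega), ← mul_assoc,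
      ih (j + 1) (by omega) (by omega), mul_assoc]

theorem W_zero (hR : Rels x m) :
    ∀ d j, m = j + d → 2 ≤ j → W x m j * x 0 * (W x m j)⁻¹ ∈ Subgroup.zpowers (x 0) := by
  intro d
  induction d with
  | zero => intro j hj _; obtain rfl : j = m := by omega
            simp [W_self, Subgroup.mem_zpowers]
  | succ d ih =>
    intro j hj hij
    rw [W_step (by omega), mul_inv_rev, mul_assoc (W x m (j + 1)) (x j) (x 0),
      hR.zero_far hij (by omega)]
    have := Subgroup.inv_mem _ (ih (j + 1) (by omega) (by omega))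
    convert this using 1
    group

theorem W_braid (hR : Rels x m) {i : ℕ} (hi : i + 1 < m) :
    ∀ d j, i = j + d → 1 ≤ j → W x m j * x (i + 1) = x i * W x m j := by
  intro d
  induction d with
  | zero =>
    intro j hj h1
    obtain rfl : j = i := by omega
    rw [W_step (by omega), W_step (by omega),
      show W x m (j + 1 + 1) * x (j + 1) * x j * x (j + 1) =
        W x m (j + 1 + 1) * (x (j + 1) * x j * x (j + 1)) by group, hR.braid h1 hi,
      show W x m (j + 1 + 1) * (x j * x (j + 1) * x j) =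
        (W x m (j + 1 + 1) * x j) * x (j + 1) * x j by group,
      W_comm hR h1 (m - (j + 1 + 1)) (j + 1 + 1) (by omega) le_rfl]
    group
  | succ d ih =>
    intro j hj h1
    rw [W_step (by omega), mul_assoc, hR.comm h1 (by omega) hi, ← mul_assoc,
      ih (j + 1) (by omega) (by omega), mul_assoc]

/-- The subgroup of the first `m - 1` generators. -/
def sub (x : ℕ → G) (m : ℕ) : Subgroup G := Subgroup.closure (x '' {i | i + 1 < m})

theorem mem_sub {i : ℕ} (hi : i + 1 < m) : x i ∈ sub x m := Subgroup.subset_closure ⟨i, hi, rfl⟩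

/-- The coset representatives. -/
def rep (x : ℕ → G) (m : ℕ) (j : Fin (m + 2)) : G :=
  if j.val ≤ m then W x m j else W x m 0 * x 0

theorem rep_step (hR : Rels x m) (hm : 0 < m) {i : ℕ} (hi : i < m) (j : Fin (m + 2)) :
    ∃ k : Fin (m + 2), rep x m j * x i * (rep x m k)⁻¹ ∈ sub x m := by
  have hr : ∀ (k : ℕ) (hk : k ≤ m), rep x m ⟨k, by omega⟩ = W x m k := fun k hk => if_pos hk
  have hlast : rep x m ⟨m + 1, by omega⟩ = W x m 0 * x 0 := if_neg (by simp)
  have h0 : x 0 ^ 3 = 1 := hR.cube hm
  have hinv : (x 0)⁻¹ = x 0 * x 0 := by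
    rw [inv_eq_iff_mul_eq_one, ← h0, ← cube_eq, mul_assoc]
  have hW1 : W x m 0 = W x m 1 * x 0 := W_step hm
  -- moving a single generator left
  have key : ∀ v : G, ∀ u ∈ sub x m, u * v * v⁻¹ ∈ sub x m := fun v u hu => by
    rwa [mul_inv_cancel_right]
  obtain ⟨j, hj⟩ := j
  rcases Nat.eq_zero_or_pos i with rfl | hipos
  · -- the generator of order three
    rcases lt_or_ge j 2 with h | h
    · rcases (show j = 0 ∨ j = 1 by omega) with rfl | rfl
      · refine ⟨⟨m + 1, by omega⟩, ?_⟩
        rw [hr 0 (by omega), hlast, mul_inv_cancel]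
        exact one_mem _
      · refine ⟨⟨0, by omega⟩, ?_⟩
        rw [hr 0 (by omega), hr 1 hm, ← hW1, mul_inv_cancel]
        exact one_mem _
    · rcases Nat.lt_or_ge j (m + 1) with h' | h'
      · refine ⟨⟨j, hj⟩, ?_⟩
        rw [hr j (by omega)]
        exact (Subgroup.zpowers_le.2 (mem_sub (by omega)))
          (W_zero hR (m - j) j (by omega) h)
      · obtain rfl : j = m + 1 := by omega
        refine ⟨⟨1, by omega⟩, ?_⟩
        rw [hlast, hr 1 hm, hW1, show W x m 1 * x 0 * x 0 * x 0 = W x m 1 * x 0 ^ 3 by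
            rw [← cube_eq, mul_assoc, mul_assoc, mul_assoc],
          h0, mul_one, mul_inv_cancel]
        exact one_mem _
  · -- an involution
    obtain ⟨i, rfl⟩ : ∃ i', i = i' + 1 := ⟨i - 1, by omega⟩
    rcases Nat.lt_or_ge j (m + 1) with h' | h'
    · rcases lt_trichotomy j (i + 1) with h | rfl | h
      · rcases Nat.eq_zero_or_pos j with rfl | hj0
        · -- `W 0 * x (i+1)` lands in the last coset
          refine ⟨⟨m + 1, by omega⟩, ?_⟩
          rw [hr 0 (by omega), hlast, hW1]
          rcases Nat.eq_zero_or_pos i with rfl | hipos'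
          · rw [W_step (j := 1) (by omega),
              show W x m (1 + 1) * x 1 * x 0 * x (0 + 1) =
                W x m (1 + 1) * (x 1 * x 0 * x 1) by group, hR.braid_zero (by omega)]
            have := Subgroup.inv_mem _ ((Subgroup.zpowers_le.2 (mem_sub (i := 0) (by omega)))
              (W_zero hR (m - 2) 2 (by omega) le_rfl))
            convert this using 1
            rw [mul_inv_rev, mul_inv_rev, mul_inv_rev]
            conv_lhs => rw [show (x 0)⁻¹ * x 1 * (x 0)⁻¹ = x 0 * x 0 * x 1 * (x 0 * x 0) by rw [hinv]]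
            calc W x m (1 + 1) * (x 0 * x 0 * x 1 * (x 0 * x 0)) *
                ((x 0)⁻¹ * ((x 0)⁻¹ * ((x 1)⁻¹ * (W x m (1 + 1))⁻¹)))
                = W x m (1 + 1) * (x 0 * x 0) * (W x m (1 + 1))⁻¹ := by group
              _ = _ := by rw [← hinv]; group
          · have hfar : x 0 * x (i + 1) = x (i + 1) * (x 0)⁻¹ := by
              have := congrArg (fun g => g * (x 0)⁻¹) (hR.zero_far (j := i + 1) (by omega) hi)
              calc x 0 * x (i + 1) = x 0 * (x (i + 1) * x 0 * (x 0)⁻¹) := by group
                _ = x 0 * ((x 0)⁻¹ * x (i + 1) * (x 0)⁻¹) := by rw [hR.zero_far (by omega) hi]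
                _ = _ := by group
            rw [mul_assoc (W x m 1) (x 0), hfar, ← mul_assoc,
              W_braid hR hi (i - 1) 1 (by omega) le_rfl, hinv, mul_inv_rev, mul_inv_rev]
            convert mem_sub (x := x) (m := m) (i := i) (by omega) using 1
            group
        · refine ⟨⟨j, hj⟩, ?_⟩
          rw [hr j (by omega), W_braid hR hi (i - j) j (by omega) hj0]
          exact key _ _ (mem_sub (by omega))
      · refine ⟨⟨i + 1 + 1, by omega⟩, ?_⟩
        rw [hr (i + 1) (by omega), hr (i + 1 + 1) (by omega), W_step hi, mul_assoc, mul_assoc,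
          ← mul_assoc (x (i + 1)), ← pow_two, hR.sq _ (by omega) hi, one_mul, mul_inv_cancel]
        exact one_mem _
      · rcases Nat.lt_or_ge (i + 1 + 1) j with h2 | h2
        · refine ⟨⟨j, hj⟩, ?_⟩
          rw [hr j (by omega), W_comm hR (by omega) (m - j) j (by omega) (by omega)]
          exact key _ _ (mem_sub (by omega))
        · obtain rfl : j = i + 1 + 1 := by omega
          refine ⟨⟨i + 1, by omega⟩, ?_⟩
          rw [hr (i + 1 + 1) (by omega), hr (i + 1) (by omega), ← W_step hi, mul_inv_cancel]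
          exact one_mem _
    · obtain rfl : j = m + 1 := by omega
      refine ⟨⟨0, by omega⟩, ?_⟩
      rw [hlast, hr 0 (by omega), hW1]
      rcases Nat.eq_zero_or_pos i with rfl | hipos'
      · rw [W_step (j := 1) (by omega),
          show W x m (1 + 1) * x 1 * x 0 * x 0 * x (0 + 1) =
            W x m (1 + 1) * (x 1 * (x 0)⁻¹ * x 1) by rw [hinv]; group]
        have hb : x 1 * (x 0)⁻¹ * x 1 = x 0 * x 1 * x 0 := by
          have := congrArg (·⁻¹) (hR.braid_zero (x := x) (m := m) (by omega))
          simpa [mul_inv_rev, hR.inv_eq le_rfl (show 1 < m by omega), mul_assoc] using this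
        rw [hb]
        have := (Subgroup.zpowers_le.2 (mem_sub (i := 0) (by omega)))
          (W_zero hR (m - 2) 2 (by omega) le_rfl)
        convert this using 1
        group
      · have hfar : x 0 * x 0 * x (i + 1) = x (i + 1) * x 0 := by
          rw [← hinv]
          exact (hR.zero_far (by omega) hi).symm
        rw [mul_assoc (W x m 1 * x 0), show W x m 1 * x 0 * (x 0 * x (i + 1)) =
          W x m 1 * (x 0 * x 0 * x (i + 1)) by group, hfar, ← mul_assoc,
          W_braid hR hi (i - 1) 1 (by omega) le_rfl]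
        convert mem_sub (x := x) (m := m) (i := i) (by omega) using 1
        group

/-- The order bound. -/
theorem finite_card_le : ∀ (m : ℕ) (G : Type*) [Group G] (x : ℕ → G), Rels x m →
    Subgroup.closure (x '' {i | i < m}) = ⊤ → Finite G ∧ 2 * Nat.card G ≤ (m + 2).factorial := by
  intro m
  induction m with
  | zero =>
    intro G _ x _ hgen
    have hall : ∀ g : G, g = 1 := fun g => by
      have hg : g ∈ (⊤ : Subgroup G) := Subgroup.mem_top g
      rw [← hgen, show x '' {i | i < 0} = ∅ by simp, Subgroup.closure_empty] at hg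
      exact Subgroup.mem_bot.1 hg
    have : Subsingleton G := ⟨fun a b => (hall a).trans (hall b).symm⟩
    refine ⟨inferInstance, ?_⟩
    rw [Nat.card_eq_one_iff_unique.2 ⟨inferInstance, ⟨1⟩⟩]
    rfl
  | succ m ih =>
    intro G _ x hR hgen
    let H := sub x (m + 1)
    let y : ℕ → H := fun i => if h : i < m then ⟨x i, mem_sub (by omega)⟩ else 1
    have hy : ∀ i, i < m → (y i : G) = x i := fun i hi => by simp [y, hi]
    have hRy : Rels y m := by
      refine ⟨fun h => Subtype.ext ?_, fun i a b => Subtype.ext ?_, fun i a => Subtype.ext ?_,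
        fun i j a b => Subtype.ext ?_⟩
      · simpa [hy 0 h] using hR.cube (by omega)
      · simpa [hy i b] using hR.sq i a (by omega)
      · simpa [hy i (by omega), hy (i + 1) a] using hR.adj i (by omega)
      · simpa [hy i (by omega), hy j b] using hR.far i j a (by omega)
    have hgy : Subgroup.closure (y '' {i | i < m}) = ⊤ := by
      apply Subgroup.map_injective H.subtype_injective
      rw [MonoidHom.map_closure, ← MonoidHom.range_eq_map, Subgroup.range_subtype, ← Set.image_comp]
      show _ = Subgroup.closure _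
      congr 1
      ext g
      simp only [Set.mem_image, Set.mem_setOf_eq, Function.comp_apply, Subgroup.coe_subtype]
      constructor
      · rintro ⟨i, hi, rfl⟩; exact ⟨i, by omega, (hy i hi).symm⟩
      · rintro ⟨i, hi, rfl⟩; exact ⟨i, by omega, hy i (by omega)⟩
    obtain ⟨hfinH, hcardH⟩ := ih H y hRy hgy
    have hcov : ∀ g : G, ∃ j, g * (rep x (m + 1) j)⁻¹ ∈ H := by
      intro g
      have hg : g ∈ Subgroup.closure (x '' {i | i < m + 1}) := hgen ▸ Subgroup.mem_top g
      have hmul : ∀ i < m + 1, ∀ g, (∃ j, g * (rep x (m + 1) j)⁻¹ ∈ H) →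
          ∃ j, g * x i * (rep x (m + 1) j)⁻¹ ∈ H := by
        rintro i hi g ⟨j, hj⟩
        obtain ⟨k, hk⟩ := rep_step hR (by omega) hi j
        refine ⟨k, ?_⟩
        convert H.mul_mem hj hk using 1
        group
      induction hg using Subgroup.closure_induction_right with
      | one =>
        refine ⟨⟨m + 1, by omega⟩, ?_⟩
        simp [rep, W_self]
      | mul_right g _ z hz ihg =>
        obtain ⟨i, hi, rfl⟩ := hz
        exact hmul i hi g ihg
      | mul_inv_cancel g _ z hz ihg =>
        obtain ⟨i, hi, rfl⟩ := hz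
        rcases Nat.eq_zero_or_pos i with rfl | hi0
        · have : (x 0)⁻¹ = x 0 * x 0 := by
            rw [inv_eq_iff_mul_eq_one, ← hR.cube (by omega), ← cube_eq, mul_assoc]
          rw [this, ← mul_assoc]
          exact hmul 0 hi _ (hmul 0 hi g ihg)
        · rw [hR.inv_eq hi0 hi]
          exact hmul i hi g ihg
    let f : Fin (m + 1 + 2) × H → G := fun p => (p.2 : G) * rep x (m + 1) p.1
    have hf : Function.Surjective f := fun g => by
      obtain ⟨j, hj⟩ := hcov g
      exact ⟨(j, ⟨_, hj⟩), inv_mul_cancel_right g _⟩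
    refine ⟨Finite.of_surjective f hf, ?_⟩
    have hle := Nat.card_le_card_of_surjective f hf
    rw [Nat.card_prod, Nat.card_fin] at hle
    calc 2 * Nat.card G ≤ (m + 1 + 2) * (2 * Nat.card H) := by
          rw [Nat.mul_left_comm]; exact Nat.mul_le_mul le_rfl hle
      _ ≤ (m + 1 + 2) * (m + 2).factorial := Nat.mul_le_mul le_rfl hcardH
      _ = (m + 1 + 2).factorial := (Nat.factorial_succ (m + 2)).symm

end CfsgLib.Carmichael
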