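import Cfsg.Agent.Lib.Frobenius.Action
import Mathlib.Algebra.Algebra.ZMod
import Mathlib.Algebra.Module.ZMod
import Mathlib.Algebra.Field.ZMod
import Mathlib.RepresentationTheory.Maschke
import Mathlib.RingTheory.Idempotents
import Mathlib.FieldTheory.IsAlgClosed.AlgebraicClosure
import Mathlib.LinearAlgebra.Matrix.ToLin
import Mathlib.LinearAlgebra.Matrix.GeneralLinearGroup.Defs
import Mathlib.RingTheory.Ideal.Maximal
import Mathlib.GroupTheory.Perm.Cycle.Type
import Mathlib.Algebra.Algebra.Rat
import Mathlib.Data.Nat.Prime.Int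
import Mathlib.LinearAlgebra.Basis.VectorSpace

/-!
A group acting fixed point freely on a finite group has a faithful irreducible fixed point free
representation over an algebraically closed field of characteristic zero.
-/

namespace CfsgLib.Recognition

open MonoidAlgebra

variable {G : Type*} [Group G]

/-- The sum of the powers of an element, in a group algebra. -/
noncomputable def powSum (k : Type*) [Semiring k] (x : G) : MonoidAlgebra k G :=
  ∑ i ∈ Finset.range (orderOf x), of k G (x ^ i)

theorem of_mul_powSum [Finite G] (k : Type*) [Semiring k] (x : G) (j : ℕ) :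
    of k G (x ^ j) * powSum k x = powSum k x := by
  induction j with
  | zero => rw [pow_zero, map_one, one_mul]
  | succ j ih =>
    rw [pow_succ, map_mul, mul_assoc]
    suffices h : of k G x * powSum k x = powSum k x by rw [h, ih]
    rw [powSum, Finset.mul_sum]
    have ht := orderOf_pos x
    refine (Finset.prod_bij' (M := Multiplicative (MonoidAlgebra k G))
      (fun i _ => (i + 1) % orderOf x) (fun i _ => (i + orderOf x - 1) % orderOf x)
      (fun i _ => Finset.mem_range.2 (Nat.mod_lt _ ht))
      (fun i _ => Finset.mem_range.2 (Nat.mod_lt _ ht)) ?_ ?_ ?_)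
    · intro i hi
      rw [Finset.mem_range] at hi
      rcases Nat.lt_or_ge (i + 1) (orderOf x) with h | h
      · rw [Nat.mod_eq_of_lt h, show i + 1 + orderOf x - 1 = i + orderOf x by omega, Nat.add_mod_right,
          Nat.mod_eq_of_lt hi]
      · rw [show i + 1 = orderOf x by omega, Nat.mod_self, Nat.zero_add, Nat.mod_eq_of_lt (by omega)]
        omega
    · intro i hi
      rw [Finset.mem_range] at hi
      rcases Nat.eq_zero_or_pos i with h | h
      · subst h
        rw [Nat.zero_add, Nat.mod_eq_of_lt (by omega : orderOf x - 1 < orderOf x),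
          Nat.sub_add_cancel (by omega), Nat.mod_self]
      · rw [show i + orderOf x - 1 = i - 1 + orderOf x by omega, Nat.add_mod_right,
          Nat.mod_eq_of_lt (by omega : i - 1 < orderOf x), Nat.sub_add_cancel (by omega),
          Nat.mod_eq_of_lt hi]
    · intro i _
      show of k G x * of k G (x ^ i) = of k G (x ^ ((i + 1) % orderOf x))
      rw [← map_mul, ← pow_succ', pow_mod_orderOf]

theorem powSum_mul_self [Finite G] (k : Type*) [Semiring k] (x : G) :
    powSum k x * powSum k x = (orderOf x : MonoidAlgebra k G) * powSum k x := by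
  conv_lhs => arg 1; rw [powSum]
  rw [Finset.sum_mul, Finset.sum_congr rfl (fun i _ => of_mul_powSum k x i), Finset.sum_const,
    Finset.card_range, nsmul_eq_mul]

theorem mapRange_powSum {k l : Type*} [Semiring k] [Semiring l] (f : k →+* l) (x : G) :
    MonoidAlgebra.mapRingHom G f (powSum k x) = powSum l x := by
  simp [powSum, map_sum, MonoidAlgebra.mapRingHom_single, of_apply]

/-- The additive span of the two-sided translates of the power sums of elements of prime order. -/
def relSet (k : Type*) [Semiring k] (G : Type*) [Group G] : Set (MonoidAlgebra k G) :=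
  {z | ∃ g x h : G, (orderOf x).Prime ∧ z = of k G g * powSum k x * of k G h}

/-- A fixed point free module in characteristic `q ∤ |G|` forbids `M • 1` from lying in the ideal
generated by the power sums, for any nonzero integer `M`. -/
theorem one_not_mem_rel [Finite G] (q : ℕ) [Fact q.Prime] (hq : ¬ q ∣ Nat.card G)
    {V : Type*} [AddCommGroup V] [Module (ZMod q) V] [Nontrivial V]
    (σ : G →* Module.End (ZMod q) V) (hσ : ∀ x : G, x ≠ 1 → ∀ v, σ x v = v → v = 0)
    (M : ℤ) (hM : M ≠ 0) :
    M • (1 : MonoidAlgebra ℤ G) ∉ AddSubgroup.closure (relSet ℤ G) := by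
  intro hmem
  classical
  have : NeZero (Nat.card G : ZMod q) := ⟨fun h => hq ((ZMod.natCast_eq_zero_iff _ _).1 h)⟩
  let Ψ := MonoidAlgebra.lift (ZMod q) (Module.End (ZMod q) V) G σ
  let I : Ideal (MonoidAlgebra (ZMod q) G) := RingHom.ker Ψ.toRingHom
  have hpow0 : ∀ x : G, (orderOf x).Prime → Ψ (powSum (ZMod q) x) = 0 := by
    intro x hx
    refine LinearMap.ext fun v => ?_
    refine hσ x (fun h => by rw [h, orderOf_one] at hx; exact Nat.not_prime_one hx) _ ?_
    rw [← MonoidAlgebra.lift_of (R := ZMod q) σ x]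
    show (Ψ (of _ G x) * Ψ (powSum (ZMod q) x)) v = _
    rw [← map_mul]
    conv_lhs => rw [← pow_one x]; arg 1; arg 2; arg 2; rw [pow_one]
    rw [of_mul_powSum]
  obtain ⟨L, hL⟩ := MonoidAlgebra.Submodule.exists_isCompl (k := ZMod q) (G := G) (V := MonoidAlgebra (ZMod q) G) I
  obtain ⟨i₀, hi₀, e, he, hie⟩ := Submodule.mem_sup.1
    (hL.sup_eq_top ▸ Submodule.mem_top : (1 : MonoidAlgebra (ZMod q) G) ∈ I ⊔ L)
  have hIe : ∀ a ∈ I, a * e = 0 := by
    intro a ha
    have h1 : a * e ∈ I := by
      show Ψ (a * e) = 0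
      rw [map_mul, show Ψ a = 0 from ha, zero_mul]
    have h2 : a * e ∈ L := L.smul_mem a he
    exact Submodule.disjoint_def.1 hL.disjoint _ h1 h2
  have hee : IsIdempotentElem e := by
    have h := hIe i₀ hi₀
    rw [eq_sub_of_add_eq hie, sub_mul, one_mul, sub_eq_zero] at h
    exact h.symm
  have he0 : e ≠ 0 := by
    intro h
    rw [h, add_zero] at hie
    have h1 : Ψ 1 = 0 := hie ▸ hi₀
    rw [map_one] at h1
    obtain ⟨v, hv⟩ := exists_ne (0 : V)
    exact hv (by simpa using congrArg (fun f : Module.End (ZMod q) V => f v) h1)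
  obtain ⟨k, m, hm, hMk⟩ : ∃ (k : ℕ) (m : ℤ), ¬ (q : ℤ) ∣ m ∧ M = (q : ℤ) ^ k * m := by
    obtain ⟨k, m, hm, h⟩ := Nat.exists_eq_pow_mul_and_not_dvd (Int.natAbs_ne_zero.2 hM) q
      (Fact.out : q.Prime).ne_one
    rcases Int.natAbs_eq M with hs | hs
    · exact ⟨k, (m : ℤ), by exact_mod_cast hm, by rw [hs, h]; push_cast; rfl⟩
    · exact ⟨k, -(m : ℤ), by rw [Int.dvd_neg]; exact_mod_cast hm, by rw [hs, h]; push_cast; ring⟩
  -- lift the idempotent modulo `q ^ (k + 1)`
  let n := k + 1
  let π := ZMod.castHom (dvd_pow_self q (by omega : n ≠ 0)) (ZMod q)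
  let f := MonoidAlgebra.mapRingHom G π
  have hkerdiv : ∀ a : MonoidAlgebra (ZMod (q ^ n)) G, f a = 0 →
      ∃ b, a = (q : MonoidAlgebra (ZMod (q ^ n)) G) * b := by
    intro a ha
    have hco : ∀ g, π (a.coeff g) = 0 := fun g => by
      have := DFunLike.congr_fun (congrArg MonoidAlgebra.coeff ha) g
      simpa [f] using this
    have hq' : ∀ g, ∃ c : ZMod (q ^ n), a.coeff g = (q : ZMod (q ^ n)) * c := by
      intro g
      have h0 := hco g
      obtain ⟨j, hj⟩ : ∃ j : ℕ, (j : ZMod (q ^ n)) = a.coeff g := ⟨_, ZMod.natCast_zmod_val _⟩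
      rw [← hj, map_natCast, ZMod.natCast_eq_zero_iff] at h0
      obtain ⟨c, rfl⟩ := h0
      exact ⟨c, by rw [← hj, Nat.cast_mul]⟩
    choose c hc using hq'
    refine ⟨∑ g ∈ a.coeff.support, MonoidAlgebra.single g (c g), ?_⟩
    rw [Finset.mul_sum]
    conv_lhs => rw [← MonoidAlgebra.sum_coeff_single a]
    refine Finset.sum_congr rfl fun g _ => ?_
    show MonoidAlgebra.single g (a.coeff g) = _
    rw [hc g, MonoidAlgebra.natCast_def, MonoidAlgebra.single_mul_single, one_mul]
  have hnil : ∀ a ∈ RingHom.ker f, IsNilpotent a := by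
    intro a ha
    obtain ⟨b, rfl⟩ := hkerdiv a ha
    refine ⟨n, ?_⟩
    rw [(Nat.cast_commute q b).mul_pow, ← Nat.cast_pow]
    have : ((q ^ n : ℕ) : MonoidAlgebra (ZMod (q ^ n)) G) = 0 := by
      rw [MonoidAlgebra.natCast_def, ZMod.natCast_self, MonoidAlgebra.single_zero]
    rw [this, zero_mul]
  have hsurj : Function.Surjective f := by
    intro y
    induction y using MonoidAlgebra.induction_linear with
    | zero => exact ⟨0, map_zero _⟩
    | add a b ha hb =>
      obtain ⟨a', rfl⟩ := ha; obtain ⟨b', rfl⟩ := hb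
      exact ⟨a' + b', map_add _ _ _⟩
    | single g c =>
      obtain ⟨c', rfl⟩ := ZMod.castHom_surjective (dvd_pow_self q (by omega : n ≠ 0)) c
      exact ⟨MonoidAlgebra.single g c', MonoidAlgebra.mapRingHom_single ..⟩
  obtain ⟨ε, hεε, hfε⟩ := exists_isIdempotentElem_eq_of_ker_isNilpotent f hnil e (hsurj e) hee
  have hkill : ∀ x : G, (orderOf x).Prime → ∀ b, powSum (ZMod (q ^ n)) x * b * ε = 0 := by
    intro x hx b
    set P := powSum (ZMod (q ^ n)) x with hP
    obtain ⟨u, hu⟩ : ∃ u : MonoidAlgebra (ZMod (q ^ n)) G,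
        u * (orderOf x : MonoidAlgebra (ZMod (q ^ n)) G) = 1 := by
      have hcop : (orderOf x).Coprime (q ^ n) := by
        refine Nat.Coprime.pow_right _ ((Nat.coprime_primes hx Fact.out).2 ?_)
        exact fun h => hq (h ▸ orderOf_dvd_natCard x)
      obtain ⟨w, hw⟩ := (ZMod.isUnit_iff_coprime _ _).2 hcop
      refine ⟨MonoidAlgebra.single 1 (w⁻¹ : (ZMod (q ^ n))ˣ).1, ?_⟩
      rw [MonoidAlgebra.natCast_def, MonoidAlgebra.single_mul_single, one_mul, ← hw, Units.inv_mul]
      rfl
    have hdiv : ∀ b, ∃ c, P * b * ε = (q : MonoidAlgebra (ZMod (q ^ n)) G) * c := by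
      intro b
      apply hkerdiv
      rw [map_mul, map_mul, hP, mapRange_powSum, hfε]
      refine hIe _ ?_
      show Ψ (powSum (ZMod q) x * f b) = 0
      rw [map_mul, hpow0 x hx, zero_mul]
    have hPP : P * P = (orderOf x : MonoidAlgebra (ZMod (q ^ n)) G) * P := powSum_mul_self _ x
    have hstep : ∀ j : ℕ, ∀ b, ∃ c, P * b * ε = (q : MonoidAlgebra (ZMod (q ^ n)) G) ^ j * c := by
      intro j
      induction j with
      | zero => intro b; exact ⟨P * b * ε, by rw [pow_zero, one_mul]⟩
      | succ j ih =>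
        intro b
        obtain ⟨c, hc⟩ := ih b
        obtain ⟨d, hd⟩ := hdiv c
        refine ⟨u * d, ?_⟩
        have hcomm : ∀ z : MonoidAlgebra (ZMod (q ^ n)) G, Commute ((q : MonoidAlgebra (ZMod (q ^ n)) G) ^ j) z :=
          fun z => (Nat.cast_commute q z).pow_left j
        have h1 : P * (P * b * ε) * ε = (orderOf x : MonoidAlgebra (ZMod (q ^ n)) G) * (P * b * ε) := by
          rw [← mul_assoc P, ← mul_assoc P, hPP, mul_assoc (_ * P * b), hεε.eq]
          simp only [mul_assoc]
        have h2 : P * ((q : MonoidAlgebra (ZMod (q ^ n)) G) ^ j * c) * ε =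
            (q : MonoidAlgebra (ZMod (q ^ n)) G) ^ (j + 1) * d := by
          rw [← mul_assoc P, ← (hcomm P).eq, mul_assoc _ P c, mul_assoc _ (P * c), hd,
            pow_succ (q : MonoidAlgebra (ZMod (q ^ n)) G) j]
          simp only [mul_assoc]
        calc P * b * ε = u * ((orderOf x : MonoidAlgebra (ZMod (q ^ n)) G) * (P * b * ε)) := by
              rw [← mul_assoc, hu, one_mul]
          _ = u * ((q : MonoidAlgebra (ZMod (q ^ n)) G) ^ (j + 1) * d) := by rw [← h1, hc, h2]
          _ = _ := by rw [← mul_assoc, ← mul_assoc, ((Nat.cast_commute q u).pow_left (j + 1)).eq]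
    obtain ⟨c, hc⟩ := hstep n b
    rw [hc, ← Nat.cast_pow, MonoidAlgebra.natCast_def, ZMod.natCast_self, MonoidAlgebra.single_zero,
      zero_mul]
  let φ := MonoidAlgebra.mapRingHom G (Int.castRingHom (ZMod (q ^ n)))
  let S : AddSubgroup (MonoidAlgebra ℤ G) :=
    { carrier := {z | φ z * ε = 0}
      add_mem' := fun {a b} ha hb => by
        show φ (a + b) * ε = 0
        rw [map_add, add_mul, show φ a * ε = 0 from ha, show φ b * ε = 0 from hb, add_zero]
      zero_mem' := by show φ 0 * ε = 0; rw [map_zero, zero_mul]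
      neg_mem' := fun {a} ha => by
        show φ (-a) * ε = 0
        rw [map_neg, neg_mul, show φ a * ε = 0 from ha, neg_zero] }
  have hS : AddSubgroup.closure (relSet ℤ G) ≤ S := by
    rw [AddSubgroup.closure_le]
    rintro z ⟨g, x, h, hx, rfl⟩
    show φ (_ * powSum ℤ x * _) * ε = 0
    rw [map_mul, map_mul, mapRange_powSum]
    simp only [mul_assoc]
    rw [← mul_assoc (powSum _ x), hkill x hx, mul_zero]
  have h0 : φ (M • (1 : MonoidAlgebra ℤ G)) * ε = 0 := hS hmem
  rw [map_zsmul, map_one, smul_mul_assoc, one_mul, hMk] at h0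
  apply he0
  rw [← hfε]
  ext g
  have hg := DFunLike.congr_fun (congrArg MonoidAlgebra.coeff h0) g
  rw [MonoidAlgebra.coeff_smul, Finsupp.smul_apply, MonoidAlgebra.coeff_zero, Finsupp.coe_zero,
    Pi.zero_apply, zsmul_eq_mul] at hg
  simp only [f, MonoidAlgebra.coeff_mapRingHom, MonoidAlgebra.coeff_zero, Finsupp.coe_zero, Pi.zero_apply,
    MonoidAlgebra.coeff_map, Finsupp.mapRange_apply]
  obtain ⟨j, hj⟩ : ∃ j : ℤ, (j : ZMod (q ^ n)) = ε.coeff g := ZMod.intCast_surjective _
  rw [← hj, ← Int.cast_mul, ZMod.intCast_zmod_eq_zero_iff_dvd] at hg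
  rw [← hj, map_intCast, ZMod.intCast_zmod_eq_zero_iff_dvd]
  have hqZ : Prime (q : ℤ) := Nat.prime_iff_prime_int.1 Fact.out
  have hd : (q : ℤ) ^ k * (q : ℤ) ∣ (q : ℤ) ^ k * (m * j) := by
    push_cast at hg
    rwa [show n = k + 1 from rfl, pow_succ, mul_assoc] at hg
  rcases hqZ.dvd_mul.1 (Int.dvd_of_mul_dvd_mul_left (pow_ne_zero _ hqZ.ne_zero) hd) with h | h
  · exact absurd h hm
  · exact h

/-- Over `ℂ`-like fields: the rational relations do not generate the unit element. -/
theorem one_not_mem_span_rel {k : Type*} [Field k] [CharZero k]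
    (h : ∀ M : ℤ, M ≠ 0 → M • (1 : MonoidAlgebra ℤ G) ∉ AddSubgroup.closure (relSet ℤ G)) :
    (1 : MonoidAlgebra k G) ∉ Submodule.span k (relSet k G) := by
  classical
  intro hmem
  obtain ⟨π, hπ⟩ : ∃ π : k →ₗ[ℚ] ℚ, π 1 = 1 := by
    obtain ⟨π, -, hπ⟩ := LinearMap.exists_extend_of_notMem (p := (⊥ : Submodule ℚ k))
      (0 : (⊥ : Submodule ℚ k) →ₗ[ℚ] ℚ) (v := (1 : k)) (by simp) (1 : ℚ)
    exact ⟨π, hπ⟩
  let ι := MonoidAlgebra.mapRingHom G (Int.castRingHom ℚ)
  let pr : MonoidAlgebra k G →+ MonoidAlgebra ℚ G :=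
    { toFun := fun a => ⟨a.coeff.mapRange π π.map_zero⟩
      map_zero' := by ext g; simp
      map_add' := fun a b => by ext g; simp }
  -- rational combinations have a nonzero integral multiple in the closure
  let T : Submodule ℚ (MonoidAlgebra ℚ G) :=
    { carrier := {z | ∃ (M : ℤ) (y : MonoidAlgebra ℤ G),
        M ≠ 0 ∧ y ∈ AddSubgroup.closure (relSet ℤ G) ∧ M • z = ι y}
      zero_mem' := ⟨1, 0, one_ne_zero, zero_mem _, by rw [smul_zero, map_zero]⟩
      add_mem' := by
        rintro a b ⟨M, y, hM, hy, ha⟩ ⟨N, z, hN, hz, hb⟩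
        refine ⟨M * N, N • y + M • z, mul_ne_zero hM hN,
          add_mem (AddSubgroup.zsmul_mem _ hy N) (AddSubgroup.zsmul_mem _ hz M), ?_⟩
        rw [map_add, map_zsmul, map_zsmul, ← ha, ← hb, smul_add, smul_smul, smul_smul, mul_comm N M]
      smul_mem' := by
        rintro c a ⟨M, y, hM, hy, ha⟩
        refine ⟨M * c.den, c.num • y, mul_ne_zero hM (by exact_mod_cast c.den_ne_zero),
          AddSubgroup.zsmul_mem _ hy _, ?_⟩
        rw [map_zsmul, ← ha, ← Int.cast_smul_eq_zsmul ℚ (M * c.den), ← Int.cast_smul_eq_zsmul ℚ c.num,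
          ← Int.cast_smul_eq_zsmul ℚ M, smul_smul, smul_smul]
        congr 1
        push_cast
        rw [mul_assoc, mul_comm (c.den : ℚ) c, Rat.mul_den_eq_num, mul_comm] }
  have hrel : ∀ z ∈ relSet k G, ∀ c : k, pr (c • z) ∈ T := by
    rintro z ⟨g, x, h', hx, rfl⟩ c
    have hz : pr (c • (of k G g * powSum k x * of k G h')) =
        π c • ι (of ℤ G g * powSum ℤ x * of ℤ G h') := by
      have hk : of k G g * powSum k x * of k G h' =
          ∑ i ∈ Finset.range (orderOf x), MonoidAlgebra.single (g * x ^ i * h') (1 : k) := by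
        simp [powSum, Finset.mul_sum, Finset.sum_mul, of_apply, MonoidAlgebra.single_mul_single]
      have hz' : ι (of ℤ G g * powSum ℤ x * of ℤ G h') =
          ∑ i ∈ Finset.range (orderOf x), MonoidAlgebra.single (g * x ^ i * h') (1 : ℚ) := by
        simp [ι, powSum, Finset.mul_sum, Finset.sum_mul, of_apply, MonoidAlgebra.single_mul_single,
          MonoidAlgebra.mapRingHom_single]
      rw [hk, hz', Finset.smul_sum, map_sum, Finset.smul_sum]
      refine Finset.sum_congr rfl fun i _ => ?_
      ext u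
      simp [pr, MonoidAlgebra.smul_single, MonoidAlgebra.coeff_single, Finsupp.mapRange_apply]
    rw [hz]
    exact T.smul_mem _ ⟨1, _, one_ne_zero, AddSubgroup.subset_closure ⟨g, x, h', hx, rfl⟩, one_zsmul _⟩
  have hall : ∀ z ∈ Submodule.span k (relSet k G), ∀ c : k, pr (c • z) ∈ T := by
    intro z hz
    induction hz using Submodule.span_induction with
    | mem z hz => exact hrel z hz
    | zero => intro c; rw [smul_zero, map_zero]; exact T.zero_mem
    | add a b _ _ ha hb => intro c; rw [smul_add, map_add]; exact T.add_mem (ha c) (hb c)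
    | smul d a _ ha => intro c; rw [smul_smul]; exact ha _
  obtain ⟨M, y, hM, hy, hMy⟩ := hall 1 hmem 1
  refine h M hM ?_
  have hy' : y = M • (1 : MonoidAlgebra ℤ G) := by
    ext u
    have := DFunLike.congr_fun (congrArg MonoidAlgebra.coeff hMy) u
    by_cases hu : u = 1 <;>
      simp [pr, ι, hu, MonoidAlgebra.one_def, MonoidAlgebra.coeff_single, hπ, Finsupp.single_apply] at this ⊢
    · exact_mod_cast this.symm
    · exact_mod_cast this.symm
  exact hy' ▸ hy

end CfsgLib.Recognition

namespace CfsgLib.Recognition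

open MonoidAlgebra

/-- A finite group acting fixed point freely on a nontrivial finite group has a faithful irreducible
representation over `AlgebraicClosure ℚ` without nonzero fixed vectors. -/
theorem exists_fpf_rep {G N : Type*} [Group G] [Finite G] [Group N] [Finite N] [Nontrivial N]
    [MulDistribMulAction G N] (hfpf : CfsgLib.Frobenius.IsFPF G N) :
    ∃ (n : ℕ) (ρ : G →* GL (Fin n) (AlgebraicClosure ℚ)), 0 < n ∧ Function.Injective ρ ∧
      (∀ W : Submodule (AlgebraicClosure ℚ) (Fin n → AlgebraicClosure ℚ),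
        (∀ g : G, ∀ w ∈ W, ((ρ g : GL (Fin n) (AlgebraicClosure ℚ)) :
          Matrix (Fin n) (Fin n) (AlgebraicClosure ℚ)).mulVec w ∈ W) → W = ⊥ ∨ W = ⊤) ∧
      ∀ g : G, g ≠ 1 → ∀ v : Fin n → AlgebraicClosure ℚ,
        ((ρ g : GL (Fin n) (AlgebraicClosure ℚ)) :
          Matrix (Fin n) (Fin n) (AlgebraicClosure ℚ)).mulVec v = v → v = 0 := by
  classical
  -- an elementary abelian module
  have hN1 : Nat.card N ≠ 1 := ne_of_gt Finite.one_lt_card
  obtain ⟨q, hq, hqN⟩ := Nat.exists_prime_and_dvd hN1
  have := Fact.mk hq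
  have hqG : ¬ q ∣ Nat.card G := fun h => hq.one_lt.ne'
    (Nat.eq_one_of_dvd_coprimes hfpf.coprime_card h hqN)
  obtain ⟨P, hP⟩ := hfpf.exists_invariant_sylow q
  have hPne : (P : Subgroup N) ≠ ⊥ := P.ne_bot_of_dvd_card hqN
  let W : Subgroup N :=
    { carrier := {x | x ∈ P ∧ (∀ y ∈ P, x * y = y * x) ∧ x ^ q = 1}
      mul_mem' := fun {a b} ha hb => by
        refine ⟨mul_mem ha.1 hb.1, fun y hy => ?_, ?_⟩
        · rw [mul_assoc, hb.2.1 y hy, ← mul_assoc, ha.2.1 y hy, mul_assoc]
        · rw [Commute.mul_pow (ha.2.1 b hb.1), ha.2.2, hb.2.2, one_mul]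
      one_mem' := ⟨one_mem _, fun y _ => by rw [one_mul, mul_one], one_pow q⟩
      inv_mem' := fun {a} ha => ⟨inv_mem ha.1, fun y hy => (Commute.inv_left (ha.2.1 y hy)).eq,
        by rw [inv_pow, ha.2.2, inv_one]⟩ }
  have : Nontrivial (P : Subgroup N) := (Subgroup.nontrivial_iff_ne_bot _).2 hPne
  have hWne : W ≠ ⊥ := by
    have hcen := P.2.center_nontrivial
    have hpc : IsPGroup q (Subgroup.center (P : Subgroup N)) := P.2.to_subgroup _
    obtain ⟨m, hm⟩ := hpc.exists_card_eq
    have hd : q ∣ Nat.card (Subgroup.center (P : Subgroup N)) := by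
      rw [hm]
      refine dvd_pow_self q fun h0 => ?_
      rw [h0, pow_zero] at hm
      exact (ne_of_gt Finite.one_lt_card) hm
    obtain ⟨⟨⟨z, hzP⟩, hzc⟩, hz⟩ := exists_prime_orderOf_dvd_card' q hd
    rw [Subgroup.orderOf_mk, Subgroup.orderOf_mk] at hz
    intro h
    have hzW : z ∈ W := ⟨hzP, fun y hy => congrArg Subtype.val
      (Subgroup.mem_center_iff.1 hzc ⟨y, hy⟩).symm, by rw [← hz, pow_orderOf_eq_one]⟩
    rw [h, Subgroup.mem_bot] at hzW
    rw [hzW, orderOf_one] at hz
    exact hq.one_lt.ne hz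
  have hWinv : ∀ g : G, ∀ x ∈ W, g • x ∈ W := by
    intro g x hx
    refine ⟨hP g x hx.1, fun y hy => ?_, by rw [← smul_pow', hx.2.2, smul_one]⟩
    have h := hx.2.1 _ (hP g⁻¹ y hy)
    have h' := congrArg (g • ·) h
    simpa [smul_mul'] using h'
  let : CommGroup W := { (inferInstance : Group W) with
    mul_comm := fun a b => Subtype.ext (a.2.2.1 b b.2.1) }
  have : Module (ZMod q) (Additive W) := AddCommGroup.zmodModule fun x => by
    have h : (Additive.toMul x) ^ q = 1 := Subtype.ext (Additive.toMul x).2.2.2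
    exact congrArg Additive.ofMul h
  have : Nontrivial W := (Subgroup.nontrivial_iff_ne_bot W).2 hWne
  let act : G → (Additive W →ₗ[ZMod q] Additive W) := fun g =>
    AddMonoidHom.toZModLinearMap q (MonoidHom.toAdditive
      ({ toFun := fun x => ⟨g • (x : N), hWinv g x x.2⟩
         map_one' := Subtype.ext (smul_one g)
         map_mul' := fun x y => Subtype.ext (smul_mul' g (x : N) (y : N)) } : W →* W))
  have hact : ∀ (g : G) (x : Additive W), ((Additive.toMul (act g x) : W) : N) = g • ((Additive.toMul x : W) : N) :=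
    fun g x => rfl
  have hext : ∀ f f' : Module.End (ZMod q) (Additive W),
      (∀ x, ((Additive.toMul (f x) : W) : N) = ((Additive.toMul (f' x) : W) : N)) → f = f' :=
    fun f f' h => LinearMap.ext fun x => Additive.toMul.injective (Subtype.ext (h x))
  let σ : G →* Module.End (ZMod q) (Additive W) :=
    MonoidHom.mk ⟨act, hext _ _ fun x => by rw [hact, one_smul]; rfl⟩
      (fun g h => hext _ _ fun x => by
        show ((Additive.toMul (act (g * h) x) : W) : N) = ((Additive.toMul (act g (act h x)) : W) : N)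
        rw [hact, hact, hact, mul_smul])
  have hσ : ∀ x : G, x ≠ 1 → ∀ v, σ x v = v → v = 0 := by
    intro x hx v hv
    have h : x • ((Additive.toMul v : W) : N) = ((Additive.toMul v : W) : N) :=
      congrArg (fun u : Additive W => ((Additive.toMul u : W) : N)) hv
    exact congrArg Additive.ofMul (Subtype.ext (hfpf x hx _ h) : Additive.toMul v = (1 : W))
  -- a proper left ideal containing all relations
  set k := AlgebraicClosure ℚ
  have h1 : (1 : MonoidAlgebra k G) ∉ Submodule.span k (relSet k G) :=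
    one_not_mem_span_rel fun M hM => one_not_mem_rel q hqG σ hσ M hM
  set J := Submodule.span k (relSet k G) with hJ
  have hJg : ∀ u : G, ∀ a ∈ J, of k G u * a ∈ J := by
    intro u a ha
    induction ha using Submodule.span_induction with
    | mem z hz =>
      obtain ⟨g, x, h, hx, rfl⟩ := hz
      exact Submodule.subset_span ⟨u * g, x, h, hx, by rw [map_mul]; simp only [mul_assoc]⟩
    | zero => rw [mul_zero]; exact J.zero_mem
    | add a b _ _ ha hb => rw [mul_add]; exact J.add_mem ha hb
    | smul d a _ ha => rw [mul_smul_comm]; exact J.smul_mem _ ha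
  have hJl : ∀ a : MonoidAlgebra k G, ∀ z ∈ J, a * z ∈ J := by
    intro a z hz
    induction a using MonoidAlgebra.induction_linear with
    | zero => rw [zero_mul]; exact J.zero_mem
    | add a b ha hb => rw [add_mul]; exact J.add_mem ha hb
    | single g c =>
      rw [show MonoidAlgebra.single g c = c • of k G g by simp [of_apply, MonoidAlgebra.smul_single],
        smul_mul_assoc]
      exact J.smul_mem _ (hJg g z hz)
  let I : Ideal (MonoidAlgebra k G) :=
    { carrier := J
      add_mem' := J.add_mem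
      zero_mem' := J.zero_mem
      smul_mem' := fun a z hz => hJl a z hz }
  obtain ⟨M0, hM0, hIM⟩ := Ideal.exists_le_maximal I ((Ideal.ne_top_iff_one I).2 h1)
  -- view it as a `k`-subspace
  let M1 : Submodule k (MonoidAlgebra k G) := M0.restrictScalars k
  let U := MonoidAlgebra k G ⧸ M1
  have hlmul : ∀ g : G, M1 ≤ M1.comap (LinearMap.mulLeft k (of k G g)) := fun g a ha =>
    M0.mul_mem_left _ ha
  let T : G →* Module.End k U :=
    { toFun := fun g => M1.mapQ M1 (LinearMap.mulLeft k (of k G g)) (hlmul g)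
      map_one' := by
        refine LinearMap.ext fun u => ?_
        induction u using Submodule.Quotient.induction_on with
        | _ a => rw [Submodule.mapQ_apply, LinearMap.mulLeft_apply, map_one, one_mul]; rfl
      map_mul' := fun g h => by
        refine LinearMap.ext fun u => ?_
        induction u using Submodule.Quotient.induction_on with
        | _ a =>
          rw [Submodule.mapQ_apply, LinearMap.mulLeft_apply, map_mul, mul_assoc]
          rfl }
  have hTfix : ∀ g : G, g ≠ 1 → ∀ u : U, T g u = u → u = 0 := by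
    intro g hg u hu
    obtain ⟨r, hr, hrd⟩ := Nat.exists_prime_and_dvd (show orderOf g ≠ 1 from fun h => hg (orderOf_eq_one_iff.1 h))
    set x := g ^ (orderOf g / r)
    have hx : orderOf x = r := orderOf_pow_orderOf_div (orderOf_pos g).ne' hrd
    have hpow : ∀ i : ℕ, T (g ^ i) u = u := by
      intro i
      induction i with
      | zero => rw [pow_zero, map_one, Module.End.one_apply]
      | succ i ih => rw [pow_succ, map_mul, Module.End.mul_apply, hu, ih]
    have hxu : ∀ i : ℕ, T (x ^ i) u = u := fun i => by rw [← pow_mul]; exact hpow _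
    obtain ⟨a, rfl⟩ := Submodule.Quotient.mk_surjective M1 u
    have hin : powSum k x * a ∈ M1 := by
      apply hIM
      show powSum k x * a ∈ J
      clear hu hpow hxu
      induction a using MonoidAlgebra.induction_linear with
      | zero => rw [mul_zero]; exact J.zero_mem
      | add a b ha hb => rw [mul_add]; exact J.add_mem ha hb
      | single h c =>
        rw [show MonoidAlgebra.single h c = c • of k G h by simp [of_apply, MonoidAlgebra.smul_single],
          mul_smul_comm]
        exact J.smul_mem _ (Submodule.subset_span ⟨1, x, h, hx ▸ hr, by rw [map_one, one_mul]⟩)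
    have hsum : (Submodule.Quotient.mk (powSum k x * a) : U) = r • (Submodule.Quotient.mk a : U) := by
      rw [powSum, Finset.sum_mul, ← Submodule.mkQ_apply, map_sum]
      have : ∀ i ∈ Finset.range (orderOf x), M1.mkQ (of k G (x ^ i) * a) = (Submodule.Quotient.mk a : U) :=
        fun i _ => hxu i
      rw [Finset.sum_congr rfl this, Finset.sum_const, Finset.card_range, hx]
    rw [(Submodule.Quotient.mk_eq_zero M1).2 hin] at hsum
    have hr0 : (r : k) • (Submodule.Quotient.mk a : U) = 0 := by
      rw [Nat.cast_smul_eq_nsmul]; exact hsum.symm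
    exact (smul_eq_zero.1 hr0).resolve_left (Nat.cast_ne_zero.2 hr.ne_zero)
  have : Fintype G := Fintype.ofFinite G
  have : Module.Finite k (MonoidAlgebra k G) :=
    Module.Finite.of_basis ((Finsupp.basisSingleOne (R := k) (ι := G)).map
      (MonoidAlgebra.coeffLinearEquiv k).symm)
  set n := Module.finrank k U with hn
  let b := Module.finBasis k U
  let ρ : G →* GL (Fin n) k :=
    (((LinearMap.toMatrixAlgEquiv b).toRingEquiv.toMonoidHom).comp T).toHomUnits
  have hρ : ∀ g (v : Fin n → k), ((ρ g : GL (Fin n) k) : Matrix (Fin n) (Fin n) k).mulVec v =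
      b.equivFun (T g (b.equivFun.symm v)) := by
    intro g v
    show (LinearMap.toMatrix b b (T g)).mulVec v = _
    conv_lhs => rw [← b.equivFun.apply_symm_apply v]
    exact LinearMap.toMatrix_mulVec_repr b b (T g) _
  have hfix : ∀ g : G, g ≠ 1 → ∀ v : Fin n → k,
      ((ρ g : GL (Fin n) k) : Matrix (Fin n) (Fin n) k).mulVec v = v → v = 0 := by
    intro g hg v hv
    rw [hρ] at hv
    have h := hTfix g hg (b.equivFun.symm v) (by
      have h' := congrArg b.equivFun.symm hv
      rwa [LinearEquiv.symm_apply_apply] at h')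
    exact b.equivFun.symm.map_eq_zero_iff.1 h
  have hn0 : 0 < n := by
    have : Nontrivial U := Submodule.Quotient.nontrivial_iff.2 fun h =>
      hM0.ne_top ((Ideal.eq_top_iff_one M0).2 (show (1 : MonoidAlgebra k G) ∈ M1 from h ▸ Submodule.mem_top))
    exact Module.finrank_pos
  refine ⟨n, ρ, hn0, ?_, ?_, hfix⟩
  · intro g h hgh
    by_contra hne
    have h1 : ρ (h⁻¹ * g) = 1 := by rw [map_mul, hgh, ← map_mul, inv_mul_cancel, map_one]
    have h2 := hfix (h⁻¹ * g) (fun e => hne (inv_mul_eq_one.1 e).symm) (Pi.single ⟨0, hn0⟩ 1)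
      (by rw [h1, Units.val_one, Matrix.one_mulVec])
    have := congrFun h2 ⟨0, hn0⟩
    simp at this
  · intro X hX
    -- the preimage is a left ideal containing the maximal one
    let π : MonoidAlgebra k G →ₗ[k] (Fin n → k) := b.equivFun.toLinearMap.comp M1.mkQ
    have hπ : Function.Surjective π :=
      b.equivFun.surjective.comp (Submodule.mkQ_surjective M1)
    have hinv : ∀ g : G, ∀ a, π a ∈ X → π (of k G g * a) ∈ X := by
      intro g a ha
      have := hX g _ ha
      rw [hρ] at this
      have e : π (of k G g * a) = b.equivFun (T g (b.equivFun.symm (π a))) := by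
        show b.equivFun (M1.mkQ (of k G g * a)) = b.equivFun (T g (b.equivFun.symm (b.equivFun (M1.mkQ a))))
        rw [LinearEquiv.symm_apply_apply]
        rfl
      rw [e]
      exact this
    let Y : Ideal (MonoidAlgebra k G) :=
      { carrier := {a | π a ∈ X}
        add_mem' := fun {a b} ha hb => by
          show π (a + b) ∈ X
          rw [map_add]; exact X.add_mem ha hb
        zero_mem' := by show π 0 ∈ X; rw [map_zero]; exact X.zero_mem
        smul_mem' := by
          intro c a ha
          show π (c * a) ∈ X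
          induction c using MonoidAlgebra.induction_linear with
          | zero => rw [zero_mul, map_zero]; exact X.zero_mem
          | add c d hc hd => rw [add_mul, map_add]; exact X.add_mem hc hd
          | single g d =>
            rw [show MonoidAlgebra.single g d = d • of k G g by simp [of_apply, MonoidAlgebra.smul_single],
              smul_mul_assoc, map_smul]
            exact X.smul_mem _ (hinv g a ha) }
    have hle : M0 ≤ Y := fun a ha => by
      show π a ∈ X
      rw [show π a = 0 by
        show b.equivFun (Submodule.Quotient.mk a : U) = 0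
        rw [(Submodule.Quotient.mk_eq_zero M1).2 ha, map_zero]]
      exact X.zero_mem
    rcases eq_or_lt_of_le hle with h | h
    · left
      rw [Submodule.eq_bot_iff]
      intro x hx
      obtain ⟨a, rfl⟩ := hπ x
      have : a ∈ M0 := h ▸ hx
      show b.equivFun (Submodule.Quotient.mk a : U) = 0
      rw [(Submodule.Quotient.mk_eq_zero M1).2 this, map_zero]
    · right
      rw [eq_top_iff]
      intro x _
      obtain ⟨a, rfl⟩ := hπ x
      have := hM0.out.2 Y h
      exact (this ▸ Submodule.mem_top : a ∈ Y)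

end CfsgLib.Recognition
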