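import Mathlib
import Cfsg.Agent.Lib.Recog.Isospectral

/-!
Groups of unbounded order with a given prime graph, built from a module on which the elements of
suitable prime orders act without fixed points.
-/

set_option autoImplicit false

namespace CfsgLib.Recognition.SamePrimeGraph

variable {G : Type*} [Group G] {V : Type*} [AddCommGroup V]

/-- An action by additive endomorphisms, as automorphisms of the multiplicative copy. -/
def act (ρ : G →* AddMonoid.End V) : G →* MulAut (Multiplicative V) where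
  toFun g :=
    { toFun := fun v => Multiplicative.ofAdd (ρ g v.toAdd)
      invFun := fun v => Multiplicative.ofAdd (ρ g⁻¹ v.toAdd)
      left_inv := fun v => by
        show Multiplicative.ofAdd (ρ g⁻¹ (ρ g v.toAdd)) = v
        have h : ρ g⁻¹ * ρ g = 1 := by rw [← map_mul, inv_mul_cancel, map_one]
        exact congrArg Multiplicative.ofAdd (DFunLike.congr_fun h v.toAdd)
      right_inv := fun v => by
        show Multiplicative.ofAdd (ρ g (ρ g⁻¹ v.toAdd)) = v
        have h : ρ g * ρ g⁻¹ = 1 := by rw [← map_mul, mul_inv_cancel, map_one]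
        exact congrArg Multiplicative.ofAdd (DFunLike.congr_fun h v.toAdd)
      map_mul' := fun v w => congrArg Multiplicative.ofAdd (map_add (ρ g) v.toAdd w.toAdd) }
  map_one' := MulEquiv.ext fun v => congrArg Multiplicative.ofAdd
    (DFunLike.congr_fun (map_one ρ) v.toAdd)
  map_mul' g h := MulEquiv.ext fun v => congrArg Multiplicative.ofAdd
    (DFunLike.congr_fun (map_mul ρ g h) v.toAdd)

theorem fixed_of_pow (ρ : G →* AddMonoid.End V) (x : Multiplicative V ⋊[act ρ] G) {m : ℕ}
    (h : (x ^ m).right = 1) : ρ x.right (x ^ m).left.toAdd = (x ^ m).left.toAdd := by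
  have hc : x * x ^ m = x ^ m * x := (Commute.self_pow x m).eq
  have h1 := congrArg (fun y : Multiplicative V ⋊[act ρ] G => y.left.toAdd) hc
  simp only [SemidirectProduct.mul_left, h, map_one, MulAut.one_apply, toAdd_mul] at h1
  have h2 : x.left.toAdd + ρ x.right (x ^ m).left.toAdd = x.left.toAdd + (x ^ m).left.toAdd := by
    rw [add_comm x.left.toAdd (x ^ m).left.toAdd]; exact h1
  exact add_left_cancel h2

/-- If a finite `G` acts on an `r`-group so that, for every prime `q` not joined to `r`, the elements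
of order `q` fix only zero, then unboundedly large groups have the prime graph of `G`. -/
theorem exists_large [Finite G] [Finite V] [Nontrivial V] {r : ℕ} (hr : r.Prime) (hrG : r ∣ Nat.card G)
    (hV : ∀ v : V, r • v = 0) (ρ : G →* AddMonoid.End V)
    (hfix : ∀ q : ℕ, q.Prime → q ≠ r → q ∣ Nat.card G →
      (∃ g : G, orderOf g = r * q) ∨ ∀ g : G, orderOf g = q → ∀ v : V, ρ g v = v → v = 0)
    (N : ℕ) :
    ∃ (H : Type) (_ : Group H) (_ : Finite H), N < Nat.card H ∧
      (∀ p : ℕ, p.Prime → (p ∣ Nat.card G ↔ p ∣ Nat.card H)) ∧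
      ∀ p q : ℕ, p.Prime → q.Prime → p ≠ q →
        ((∃ g : G, orderOf g = p * q) ↔ (∃ g : H, orderOf g = p * q)) := by
  classical
  let H0 := Multiplicative V ⋊[act ρ] G
  haveI : Finite H0 := Finite.of_equiv _ (SemidirectProduct.equivProd (φ := act ρ)).symm
  let π : H0 →* G := SemidirectProduct.rightHom
  have hexp : ∀ x ∈ π.ker, x ^ r = 1 := by
    intro x hx
    have hr' : x.right = 1 := hx
    have hx' : x = SemidirectProduct.inl x.left := SemidirectProduct.ext rfl hr'
    have hp : x.left ^ r = 1 := Multiplicative.toAdd.injective (hV x.left.toAdd)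
    rw [hx', ← map_pow, hp, map_one]
  have hne : π.ker ≠ ⊥ := by
    obtain ⟨v, hv⟩ := exists_ne (0 : V)
    intro h
    have hm : (SemidirectProduct.inl (Multiplicative.ofAdd v) : H0) ∈ π.ker :=
      SemidirectProduct.rightHom_inl _
    rw [h, Subgroup.mem_bot, ← map_one (SemidirectProduct.inl : Multiplicative V →* H0)] at hm
    exact hv (congrArg Multiplicative.toAdd (SemidirectProduct.inl_injective hm))
  have hright : ∀ (x : H0) (n : ℕ), (x ^ n).right = x.right ^ n := fun x n => map_pow π x n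
  have hpow : ∀ x : H0, (x ^ orderOf x.right) ^ r = 1 := fun x =>
    hexp _ (by rw [MonoidHom.mem_ker]; exact (hright x _).trans (pow_orderOf_eq_one _))
  have hdvdq : ∀ q : ℕ, q.Prime → q ≠ r → ∀ x : H0, q ∣ orderOf x → q ∣ Nat.card G := by
    intro q hq hqr x hqx
    have h1 : q ∣ orderOf x.right * r :=
      hqx.trans (orderOf_dvd_of_pow_eq_one (by rw [pow_mul]; exact hpow x))
    rcases hq.dvd_mul.1 h1 with h | h
    · exact h.trans (orderOf_dvd_natCard _)
    · exact absurd ((Nat.prime_dvd_prime_iff_eq hq hr).1 h) hqr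
  have hprime : ∀ p : ℕ, p.Prime → (p ∣ Nat.card H0 ↔ p ∣ Nat.card G) := by
    intro p hp
    haveI : Fact p.Prime := ⟨hp⟩
    refine ⟨fun h => ?_, fun h => ?_⟩
    · by_cases hpr : p = r
      · exact hpr ▸ hrG
      · obtain ⟨x, hx⟩ := exists_prime_orderOf_dvd_card' p h
        exact hdvdq p hp hpr x (by rw [hx])
    · rw [SemidirectProduct.card]; exact dvd_mul_of_dvd_right h _
  have hredge : ∀ q : ℕ, q.Prime → q ≠ r → ∀ x : H0, orderOf x = r * q →
      ∃ g : G, orderOf g = r * q := by
    intro q hq hqr x hx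
    rcases hfix q hq hqr (hdvdq q hq hqr x (hx ▸ dvd_mul_left q r)) with h | h
    · exact h
    set m := orderOf x.right with hm
    have h5 := hpow x
    rw [← pow_mul] at h5
    have hdvd : r * q ∣ m * r := hx ▸ orderOf_dvd_of_pow_eq_one h5
    rw [mul_comm m r] at hdvd
    have hqm : q ∣ m := (Nat.mul_dvd_mul_iff_left hr.pos).1 hdvd
    have hmd : m ∣ r * q := hx ▸ orderOf_map_dvd π x
    obtain ⟨k, hk⟩ := hqm
    rw [hk, mul_comm r q, Nat.mul_dvd_mul_iff_left hq.pos] at hmd
    rcases (Nat.dvd_prime hr).1 hmd with rfl | rfl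
    · rw [mul_one] at hk
      have hxm : (x ^ m).right = 1 := by rw [hright, hm, pow_orderOf_eq_one]
      have hv := h x.right (hm ▸ hk) _ (fixed_of_pow ρ x hxm)
      have h1 : x ^ m = 1 := SemidirectProduct.ext (Multiplicative.toAdd.injective hv) hxm
      have hd := orderOf_dvd_of_pow_eq_one h1
      rw [hx, hk] at hd
      have hle := Nat.le_of_dvd hq.pos hd
      nlinarith [hr.two_le, hq.pos]
    · exact ⟨x.right, by rw [← hm, hk, mul_comm]⟩
  have hedge : ∀ p q : ℕ, p.Prime → q.Prime → p ≠ q →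
      ((∃ g : G, orderOf g = p * q) ↔ (∃ x : H0, orderOf x = p * q)) := by
    intro p q hp hq hpq
    constructor
    · rintro ⟨g, hg⟩
      exact ⟨SemidirectProduct.inr g, by rw [orderOf_injective _ SemidirectProduct.inr_injective, hg]⟩
    rintro ⟨x, hx⟩
    by_cases h5 : p = r
    · subst h5; exact hredge q hq (Ne.symm hpq) x hx
    by_cases h5' : q = r
    · subst h5'
      rw [mul_comm] at hx ⊢
      exact hredge p hp h5 x hx
    refine ⟨x.right, Nat.dvd_antisymm (hx ▸ orderOf_map_dvd π x) ?_⟩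
    have h5 := hpow x
    rw [← pow_mul] at h5
    have hd : p * q ∣ orderOf x.right * r := hx ▸ orderOf_dvd_of_pow_eq_one h5
    refine Nat.Coprime.dvd_of_dvd_mul_right ?_ hd
    exact Nat.Coprime.mul_left ((Nat.coprime_primes hp hr).2 ‹p ≠ r›)
      ((Nat.coprime_primes hq hr).2 h5')
  obtain ⟨H, iG, iF, hN, hrange⟩ :=
    CfsgLib.Recog.exists_large_isospectral_of_exponent π.ker hne hr hexp N
  have hord : ∀ n, (∃ g : H, orderOf g = n) ↔ (∃ x : H0, orderOf x = n) := fun n =>
    Set.ext_iff.1 hrange n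
  refine ⟨H, iG, inferInstance, by rwa [Nat.card_eq_fintype_card], fun p hp => ?_,
    fun p q hp hq hpq => (hedge p q hp hq hpq).trans (hord _).symm⟩
  haveI : Fact p.Prime := ⟨hp⟩
  rw [← hprime p hp]
  refine ⟨fun h => ?_, fun h => ?_⟩
  · obtain ⟨x, hx⟩ := exists_prime_orderOf_dvd_card' p h
    obtain ⟨g, hg⟩ := (hord p).2 ⟨x, hx⟩
    exact hg ▸ orderOf_dvd_natCard g
  · obtain ⟨x, hx⟩ := exists_prime_orderOf_dvd_card' p h
    obtain ⟨g, hg⟩ := (hord p).1 ⟨x, hx⟩
    exact hg ▸ orderOf_dvd_natCard g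

/-- With cyclic Sylow subgroup of order `q`, one fixed-point-free element of order `q` suffices. -/
theorem fixed_eq_zero_of_sylow [Finite G] (ρ : G →* AddMonoid.End V) {q : ℕ} (hq : q.Prime)
    (hq2 : ¬ q ^ 2 ∣ Nat.card G) {g₀ : G} (h₀ : orderOf g₀ = q)
    (hfpf : ∀ v : V, ρ g₀ v = v → v = 0) :
    ∀ g : G, orderOf g = q → ∀ v : V, ρ g v = v → v = 0 := by
  intro g hg v hv
  haveI : Fact q.Prime := ⟨hq⟩
  have hfac : (Nat.card G).factorization q = 1 := by
    refine le_antisymm ?_ ?_
    · by_contra hcon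
      exact hq2 ((hq.pow_dvd_iff_le_factorization Nat.card_pos.ne').2 (by omega))
    · exact (hq.pow_dvd_iff_le_factorization (k := 1) Nat.card_pos.ne').1
        (by rw [pow_one, ← hg]; exact orderOf_dvd_natCard g)
  have hc : ∀ x : G, orderOf x = q →
      Nat.card (Subgroup.zpowers x) = q ^ (Nat.card G).factorization q := fun x hx => by
    rw [Nat.card_zpowers, hx, hfac, pow_one]
  obtain ⟨c, hcc⟩ := MulAction.exists_smul_eq G (Sylow.ofCard (Subgroup.zpowers g) (hc g hg))
    (Sylow.ofCard (Subgroup.zpowers g₀) (hc g₀ h₀))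
  have hmem : g₀ ∈ ((c • Sylow.ofCard (Subgroup.zpowers g) (hc g hg) : Sylow q G) : Subgroup G) := by
    rw [hcc]; exact Subgroup.mem_zpowers g₀
  rw [Sylow.smul_def, Sylow.pointwise_smul_def] at hmem
  obtain ⟨y, hy, hyc⟩ := hmem
  obtain ⟨k, hk⟩ := (isOfFinOrder_of_finite g).mem_powers_iff_mem_zpowers.2 hy
  have hkv : ρ y v = v := by
    rw [← hk, map_pow]
    clear hk
    induction k with
    | zero => rfl
    | succ n ih => rw [pow_succ]; show (ρ g ^ n) (ρ g v) = v; rw [hv, ih]
  have hz : ρ g₀ (ρ c v) = ρ c v := by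
    have he : g₀ * c = c * y := by
      rw [← hyc]
      show c * y * c⁻¹ * c = c * y
      group
    calc ρ g₀ (ρ c v) = ρ (g₀ * c) v := (DFunLike.congr_fun (map_mul ρ g₀ c) v).symm
      _ = ρ c (ρ y v) := by rw [he]; exact DFunLike.congr_fun (map_mul ρ c y) v
      _ = ρ c v := by rw [hkv]
  have h0 := hfpf _ hz
  calc v = ρ c⁻¹ (ρ c v) := by
        rw [show ρ c⁻¹ (ρ c v) = ρ (c⁻¹ * c) v from (DFunLike.congr_fun (map_mul ρ c⁻¹ c) v).symm,
          inv_mul_cancel, map_one]; rfl
    _ = 0 := by rw [h0, map_zero]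

end CfsgLib.Recognition.SamePrimeGraph
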