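import Mathlib

/-!
`Aut(Q₈)` embeds in `Sym(4)`: its action on the four diagonals of the cube.
-/

set_option autoImplicit false

namespace CfsgLib.Recognition.AutQ8


open QuaternionGroup

/-- The generator `i`. -/
def qi : QuaternionGroup 2 := a 1

/-- The generator `j`. -/
def qj : QuaternionGroup 2 := xa 0

/-- The endomap of `Q₈` sending the generators to `p`, `q`. -/
def ext (p q : QuaternionGroup 2) : QuaternionGroup 2 → QuaternionGroup 2
  | .a i => p ^ i.val
  | .xa i => q * p ^ i.val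

/-- A vertex of the diagonal `d`: one of `±i`, one of `±j`, one of `±k`. -/
def vertex (d : Bool × Bool) : List (QuaternionGroup 2) :=
  [a 1, if d.1 then xa 2 else xa 0, if d.2 then xa 3 else xa 1]

/-- The diagonal of a vertex. -/
def diagOf (l : List (QuaternionGroup 2)) : Bool × Bool :=
  (l.contains (a 1) != l.contains (xa 0), l.contains (a 1) != l.contains (xa 1))

/-- The action of a pair of images on the diagonals. -/
def act (r : QuaternionGroup 2 × QuaternionGroup 2) (d : Bool × Bool) : Bool × Bool :=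
  diagOf ((vertex d).map (ext r.1 r.2))

/-- The elements of `Q₈`. -/
def elts : List (QuaternionGroup 2) := [a 0, a 1, a 2, a 3, xa 0, xa 1, xa 2, xa 3]

/-- The admissible pairs. -/
def pairs : List (QuaternionGroup 2 × QuaternionGroup 2) :=
  (elts.flatMap fun u => elts.map fun v => (u, v)).filter fun r =>
    decide (r.1 * r.1 ≠ 1 ∧ r.2 * r.2 ≠ 1 ∧ r.2 ≠ r.1 ∧ r.2 ≠ r.1⁻¹)

/-- The four diagonals. -/
def allDiag : List (Bool × Bool) := [(false, false), (false, true), (true, false), (true, true)]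

theorem elts_all : ∀ g : QuaternionGroup 2, g ∈ elts := by decide +kernel

theorem act_one : ∀ d ∈ allDiag, act (a 1, xa 0) d = d := by decide +kernel

theorem act_mul : ∀ r ∈ pairs, ∀ r' ∈ pairs, ∀ d ∈ allDiag,
    act (ext r.1 r.2 r'.1, ext r.1 r.2 r'.2) d = act r (act r' d) := by
  decide +kernel

theorem act_faithful : ∀ r ∈ pairs, allDiag.all (fun d => decide (act r d = d)) = true →
    r = (a 1, xa 0) := by
  decide +kernel

theorem allDiag_all : ∀ d : Bool × Bool, d ∈ allDiag := by decide +kernel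

theorem gens_facts : qi * qi ≠ 1 ∧ qj * qj ≠ 1 ∧ qj ≠ qi ∧ qj ≠ qi⁻¹ ∧
    ∀ g : QuaternionGroup 2, g = ext qi qj g := by
  decide +kernel

theorem eq_ext (φ : MulAut (QuaternionGroup 2)) : ⇑φ = ext (φ qi) (φ qj) := by
  funext g
  conv_lhs => rw [gens_facts.2.2.2.2 g]
  cases g <;> simp [ext]

theorem images_ok (φ : MulAut (QuaternionGroup 2)) :
    φ qi * φ qi ≠ 1 ∧ φ qj * φ qj ≠ 1 ∧ φ qj ≠ φ qi ∧ φ qj ≠ (φ qi)⁻¹ := by
  obtain ⟨h1, h2, h3, h4, -⟩ := gens_facts
  refine ⟨?_, ?_, φ.injective.ne h3, ?_⟩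
  · rw [← map_mul]; exact (map_ne_one_iff φ φ.injective).2 h1
  · rw [← map_mul]; exact (map_ne_one_iff φ φ.injective).2 h2
  · rw [← map_inv]; exact φ.injective.ne h4

theorem mem_pairs (φ : MulAut (QuaternionGroup 2)) : (φ qi, φ qj) ∈ pairs := by
  simp only [pairs, List.mem_filter, List.mem_flatMap, List.mem_map, decide_eq_true_eq]
  exact ⟨⟨_, elts_all _, _, elts_all _, rfl⟩, images_ok φ⟩

instance : MulAction (MulAut (QuaternionGroup 2)) (Bool × Bool) where
  smul φ d := act (φ qi, φ qj) d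
  one_smul d := act_one d (allDiag_all d)
  mul_smul φ ψ d := by
    have h := act_mul _ (mem_pairs φ) _ (mem_pairs ψ) d (allDiag_all d)
    simp only [← eq_ext φ] at h
    exact h

theorem exists_injective_hom :
    ∃ f : MulAut (QuaternionGroup 2) →* Equiv.Perm (Fin 4), Function.Injective f := by
  let e : Bool × Bool ≃ Fin 4 := Fintype.equivFinOfCardEq rfl
  refine ⟨e.permCongrHom.toMonoidHom.comp (MulAction.toPermHom _ (Bool × Bool)), ?_⟩
  refine e.permCongrHom.injective.comp ((injective_iff_map_eq_one _).2 fun φ hφ => ?_)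
  have h := act_faithful _ (mem_pairs φ) (List.all_eq_true.2 fun d _ => by
    simp only [decide_eq_true_eq]
    exact Equiv.ext_iff.1 hφ d)
  simp only [Prod.mk.injEq] at h
  obtain ⟨e1, e2⟩ := h
  apply MulEquiv.ext
  intro g
  show φ g = g
  conv_rhs => rw [gens_facts.2.2.2.2 g]
  rw [eq_ext φ, e1, e2]
  rfl

end CfsgLib.Recognition.AutQ8
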