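import Mathlib

/-!
The alternating group of degree five has 300 commuting pairs, hence five conjugacy classes.
-/

set_option autoImplicit false

namespace CfsgLib.Recognition.AltFive

theorem commuting_pairs :
    (Finset.univ.filter (fun x : alternatingGroup (Fin 5) × alternatingGroup (Fin 5) =>
      x.1 * x.2 = x.2 * x.1)).card = 300 := by
  decide +kernel

theorem card_conjClasses : Nat.card (ConjClasses (alternatingGroup (Fin 5))) = 5 := by
  have h := card_comm_eq_card_conjClasses_mul_card (alternatingGroup (Fin 5))
  have h60 : Nat.card (alternatingGroup (Fin 5)) = 60 := by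
    rw [nat_card_alternatingGroup, Nat.card_fin]; rfl
  have h300 : Nat.card { p : alternatingGroup (Fin 5) × alternatingGroup (Fin 5) // Commute p.1 p.2 } = 300 := by
    classical
    rw [Nat.card_eq_fintype_card, Fintype.card_subtype]
    convert commuting_pairs using 3
    rfl
  rw [h300, h60] at h
  omega

end CfsgLib.Recognition.AltFive
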