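import Cfsg.Agent.Lib.Recognition.ThreeSelfCentral
import Cfsg.Agent.Lib.Characters.Values
import Cfsg.Agent.Lib.Characters.Counting
import Cfsg.Agent.Lib.Blocks.ClassCount

/-!
Characters of a simple group with a self-centralizing elementary Sylow 3-subgroup of order 9
and at least two classes of elements of order 3: the order is 360.
-/

set_option autoImplicit false

namespace CfsgLib.ThreeSelfCentral

set_option linter.unusedSectionVars false

open Subgroup Cfsg CfsgLib.Characters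
open scoped ComplexConjugate

variable {G : Type*} [Group G]

theorem re_of_cube_eq_one {z : ℂ} (h : z ^ 3 = 1) : z = 1 ∨ z.re = -1 / 2 := by
  by_cases h1 : z = 1
  · exact Or.inl h1
  right
  have h2 : (z - 1) * (z * z + z + 1) = 0 := by linear_combination h
  have h3 := (mul_eq_zero.1 h2).resolve_left (sub_ne_zero.2 h1)
  have hre := congrArg Complex.re h3
  have him := congrArg Complex.im h3
  simp at hre him
  have h4 : z.im * (2 * z.re + 1) = 0 := by linarith
  rcases mul_eq_zero.1 h4 with h5 | h5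
  · rw [h5] at hre
    nlinarith [sq_nonneg (2 * z.re + 1)]
  · linarith

theorem exists_int_value [Finite G] {s : G} (hs : s ^ 3 = 1) (hinv : IsConj s s⁻¹)
    (χ : IrrCharacter G) {d : ℤ} (hd : (χ : G → ℂ) 1 = d) :
    ∃ x : ℤ, (χ : G → ℂ) s = x ∧ (3 : ℤ) ∣ d - x := by
  obtain ⟨c, n, ρ, hρ, rfl⟩ := χ
  change ρ.character 1 = _ at hd
  show ∃ x : ℤ, ρ.character s = x ∧ _
  obtain ⟨ω, hω, -, hsum⟩ := exists_eigenvalues ρ s
  have hωre : ∀ i, ω i = 1 ∨ (ω i).re = -1 / 2 := fun i => by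
    refine re_of_cube_eq_one ?_
    obtain ⟨q, hq⟩ := orderOf_dvd_of_pow_eq_one hs
    rw [hq, pow_mul, hω, one_pow]
  classical
  have hreal : ((ρ.character s).re : ℂ) = ρ.character s := by
    rw [← Complex.conj_eq_iff_re]
    have h1 := irr_apply_inv (G := G) ⟨ρ.character, isIrrCharacter_character ρ hρ⟩ s
    have h2 := classFunction_eq_of_isConj
      (isClassFunction_of_isCharacter (isCharacter_character ρ)) hinv
    exact h1.symm.trans h2.symm
  have hn : d = (n : ℤ) := by
    have : (d : ℂ) = ((n : ℤ) : ℂ) := by rw [← hd, Representation.char_one]; simp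
    exact_mod_cast this
  set k := (Finset.univ.filter fun i => ω i ≠ 1).card with hk
  have hre : (ρ.character s).re = (d : ℝ) - 3 / 2 * k := by
    rw [hsum, Complex.re_sum]
    have hterm : ∀ i, (ω i).re = 1 - 3 / 2 * (if ω i ≠ 1 then (1 : ℝ) else 0) := fun i => by
      rcases hωre i with h | h
      · simp [h]
      · rw [h, if_pos]
        · norm_num
        · intro e; rw [e] at h; simp at h; norm_num at h
    rw [Finset.sum_congr rfl fun i _ => hterm i, Finset.sum_sub_distrib, ← Finset.mul_sum,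
      Finset.sum_boole, hn, hk]
    simp
  have hint : IsIntegral ℤ (ρ.character s) := isIntegral_char ρ s
  rw [← hreal, hre] at hint
  have hq : ∃ x : ℤ, ((d : ℚ) - 3 / 2 * k) = x := by
    have h1 : IsIntegral ℤ (algebraMap ℚ ℂ ((d : ℚ) - 3 / 2 * k)) := by
      convert hint using 1
      simp
    rw [isIntegral_algebraMap_iff (algebraMap ℚ ℂ).injective,
      IsIntegrallyClosed.isIntegral_iff] at h1
    obtain ⟨x, hx⟩ := h1
    exact ⟨x, by simpa using hx.symm⟩
  obtain ⟨x, hx⟩ := hq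
  refine ⟨x, ?_, ?_⟩
  · rw [← hreal, hre]
    have : ((d : ℝ) - 3 / 2 * k) = (x : ℝ) := by
      have := congrArg (fun q : ℚ => (q : ℝ)) hx
      simpa using this
    rw [this]; simp
  · have h2 : 2 * (d - x) = 3 * (k : ℤ) := by
      have : (2 : ℚ) * ((d : ℚ) - x) = 3 * k := by rw [← hx]; ring
      exact_mod_cast this
    omega

/-- Degrees and integral values on `S`. -/
structure Data [Finite G] (S : Subgroup G) (d : IrrCharacter G → ℤ)
    (X : IrrCharacter G → G → ℤ) : Prop where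
  deg : ∀ χ : IrrCharacter G, (χ : G → ℂ) 1 = d χ
  val : ∀ (χ : IrrCharacter G) (s : G), s ∈ S → (χ : G → ℂ) s = X χ s
  congr : ∀ (χ : IrrCharacter G) (s : G), s ∈ S → (3 : ℤ) ∣ d χ - X χ s
  pos : ∀ χ, 0 < d χ
  one : ∀ χ, d χ = 1 → χ = principalIrr G

section
variable [Finite G] {S : Subgroup G} (hS : Hyp S)
include hS

theorem exists_data [IsSimpleGroup G] (hG : ¬ IsMulCommutative G)
    (hinv : ∀ s ∈ S, IsConj s s⁻¹) : ∃ d X, Data S d X := by
  classical
  have hd : ∀ χ : IrrCharacter G, ∃ d : ℤ, (χ : G → ℂ) 1 = d ∧ 0 < d := fun χ => by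
    obtain ⟨n, hn, h⟩ := irr_exists_degree χ.2
    exact ⟨n, by simpa using h, by exact_mod_cast hn⟩
  choose d hd hpos using hd
  have hX : ∀ (χ : IrrCharacter G) (s : G), ∃ x : ℤ,
      s ∈ S → (χ : G → ℂ) s = x ∧ (3 : ℤ) ∣ d χ - x := fun χ s => by
    by_cases h : s ∈ S
    · obtain ⟨x, hx⟩ := exists_int_value (hS.exp3 s h) (hinv s h) χ (hd χ)
      exact ⟨x, fun _ => hx⟩
    · exact ⟨0, fun h' => absurd h' h⟩
  choose X hX using hX
  refine ⟨d, X, hd, fun χ s h => (hX χ s h).1, fun χ s h => (hX χ s h).2, hpos, fun χ h => ?_⟩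
  obtain ⟨f, rfl⟩ := exists_linearIrr_eq χ (by rw [hd, h]; simp)
  refine Subtype.ext (funext fun g => ?_)
  have := CfsgLib.Small.hom_comm_eq_one hG f
  simp [linearIrr, this]

variable {d : IrrCharacter G → ℤ} {X : IrrCharacter G → G → ℤ} (hD : Data S d X)
include hD

omit hS in
theorem principal_deg : d (principalIrr G) = 1 := by
  have := hD.deg (principalIrr G)
  rw [principalIrr_apply] at this
  exact_mod_cast this.symm

omit hS in
theorem principal_val {s : G} (hs : s ∈ S) : X (principalIrr G) s = 1 := by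
  have := hD.val (principalIrr G) s hs
  rw [principalIrr_apply] at this
  exact_mod_cast this.symm

omit hS in
theorem val_eq_of_isConj (χ : IrrCharacter G) {s t : G} (hs : s ∈ S) (ht : t ∈ S)
    (h : IsConj s t) : X χ s = X χ t := by
  have := classFunction_eq_of_isConj (irr_isClassFunction χ) h
  rw [hD.val χ s hs, hD.val χ t ht] at this
  exact_mod_cast this

theorem orth {s t : G} (hs : s ∈ S) (ht : t ∈ S) (hs1 : s ≠ 1) [Decidable (IsConj s t)] :
    ∑ χ, X χ s * X χ t = if IsConj s t then 9 else 0 := by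
  have h := column_orth s t
  rw [card_centralizer hS hs hs1] at h
  simp only [hD.val _ s hs, hD.val _ t ht, map_intCast] at h
  split_ifs at h ⊢ <;> exact_mod_cast h

theorem degree_col {s : G} (hs : s ∈ S) (hs1 : s ≠ 1) : ∑ χ, d χ * X χ s = 0 := by
  classical
  have : Fintype G := Fintype.ofFinite G
  have h := sum_degree_mul_irr s
  rw [if_neg hs1] at h
  simp only [hD.val _ s hs, hD.deg] at h
  exact_mod_cast h

theorem abs_le_two {χ : IrrCharacter G} (hχ : χ ≠ principalIrr G) {s : G} (hs : s ∈ S)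
    (hs1 : s ≠ 1) : -2 ≤ X χ s ∧ X χ s ≤ 2 := by
  classical
  have h := orth hS hD hs hs hs1
  rw [if_pos (IsConj.refl s)] at h
  have h2 : ∑ ψ ∈ ({χ, principalIrr G} : Finset (IrrCharacter G)), X ψ s * X ψ s ≤ 9 := by
    rw [← h]
    exact Finset.sum_le_sum_of_subset_of_nonneg (Finset.subset_univ _)
      fun ψ _ _ => mul_self_nonneg _
  rw [Finset.sum_pair hχ, principal_val hD hs] at h2
  constructor <;> nlinarith

omit hS in
theorem degree_sq_le {p q : IrrCharacter G} (hpq : p ≠ q) (hp : p ≠ principalIrr G)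
    (hq : q ≠ principalIrr G) : d p * d p + d q * d q + 1 ≤ (Nat.card G : ℤ) := by
  classical
  have : Fintype G := Fintype.ofFinite G
  have h := sum_sq_degrees (G := G)
  simp only [hD.deg] at h
  have h' : ∑ χ, d χ ^ 2 = (Nat.card G : ℤ) := by exact_mod_cast h
  rw [← h']
  refine le_trans (le_of_eq ?_) (Finset.sum_le_sum_of_subset_of_nonneg
    (Finset.subset_univ {p, q, principalIrr G}) fun ψ _ _ => sq_nonneg _)
  rw [Finset.sum_insert (by simp [hpq, hp]), Finset.sum_pair hq, principal_deg hD]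
  ring

/-- Exactly two rows separate two classes. -/
theorem exists_diff {a c : G} (ha : a ∈ S) (hc : c ∈ S) (ha1 : a ≠ 1) (hc1 : c ≠ 1)
    (hac : ¬ IsConj a c) :
    ∃ p q, p ≠ q ∧ p ≠ principalIrr G ∧ q ≠ principalIrr G ∧ d p = d q ∧
      X p a = X p c + 3 ∧ X q a = X q c - 3 ∧ ∀ χ, χ ≠ p → χ ≠ q → X χ a = X χ c := by
  classical
  have h1 := orth hS hD ha ha ha1
  have h2 := orth hS hD hc hc hc1
  have h3 := orth hS hD ha hc ha1
  rw [if_pos (IsConj.refl _)] at h1 h2
  rw [if_neg hac] at h3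
  set e : IrrCharacter G → ℤ := fun χ => X χ a - X χ c with he
  have hsq : ∑ χ, e χ * e χ = 18 := by
    have : ∀ χ, e χ * e χ = X χ a * X χ a + X χ c * X χ c - (X χ a * X χ c + X χ a * X χ c) :=
      fun χ => by simp only [he]; ring
    rw [Finset.sum_congr rfl fun χ _ => this χ, Finset.sum_sub_distrib, Finset.sum_add_distrib,
      Finset.sum_add_distrib, h1, h2, h3]
    norm_num
  have hdiv : ∀ χ, (3 : ℤ) ∣ e χ := fun χ => by
    have h4 := hD.congr χ a ha
    have h5 := hD.congr χ c hc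
    simp only [he]
    omega
  set D := Finset.univ.filter fun χ => e χ ≠ 0 with hDdef
  have hDmem : ∀ χ, χ ∈ D ↔ e χ ≠ 0 := fun χ => by simp [hDdef]
  have hsumD : ∑ χ ∈ D, e χ * e χ = 18 := by
    rw [← hsq, hDdef, Finset.sum_filter]
    exact Finset.sum_congr rfl fun χ _ => by split_ifs with h <;> simp_all
  have hval : ∀ χ ∈ D, e χ = 3 ∨ e χ = -3 := fun χ hχ => by
    obtain ⟨j, hj⟩ := hdiv χ
    have hle : e χ * e χ ≤ 18 := hsumD ▸
      Finset.single_le_sum (fun ψ _ => mul_self_nonneg (e ψ)) hχ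
    have hj0 : j ≠ 0 := fun h => (hDmem χ).1 hχ (by rw [hj, h, mul_zero])
    have : -2 < j ∧ j < 2 := by
      rw [hj] at hle
      constructor <;> nlinarith
    rw [hj]; omega
  have hcard : D.card = 2 := by
    have : ∑ χ ∈ D, e χ * e χ = ∑ χ ∈ D, (9 : ℤ) :=
      Finset.sum_congr rfl fun χ hχ => by rcases hval χ hχ with h | h <;> rw [h] <;> norm_num
    rw [hsumD, Finset.sum_const, nsmul_eq_mul] at this
    omega
  have hprin : principalIrr G ∉ D := fun h =>
    (hDmem _).1 h (by simp [he, principal_val hD ha, principal_val hD hc])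
  obtain ⟨p, q, hpq, hDeq⟩ := Finset.card_eq_two.1 hcard
  have hdeg : d p * e p + d q * e q = 0 := by
    have : ∑ χ, d χ * e χ = 0 := by
      simp only [he, mul_sub, Finset.sum_sub_distrib, degree_col hS hD ha ha1,
        degree_col hS hD hc hc1, sub_zero]
    rw [← Finset.sum_pair (f := fun χ => d χ * e χ) hpq, ← hDeq, ← this, hDdef, Finset.sum_filter]
    exact Finset.sum_congr rfl fun χ _ => by split_ifs with h <;> simp_all
  have hpD : p ∈ D := by rw [hDeq]; simp
  have hqD : q ∈ D := by rw [hDeq]; simp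
  have hrest : ∀ χ, χ ≠ p → χ ≠ q → X χ a = X χ c := fun χ h4 h5 => by
    have : χ ∉ D := by rw [hDeq]; simp [h4, h5]
    rw [hDmem, not_not] at this
    simp only [he] at this
    linarith
  have hp0 : p ≠ principalIrr G := fun h => hprin (h ▸ hpD)
  have hq0 : q ≠ principalIrr G := fun h => hprin (h ▸ hqD)
  have := hD.pos p
  have := hD.pos q
  rcases hval p hpD with hp | hp <;> rcases hval q hqD with hq | hq <;>
    rw [hp, hq] at hdeg <;> simp only [he] at hp hq
  · omega
  · exact ⟨p, q, hpq, hp0, hq0, by omega, by omega, by omega, hrest⟩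
  · exact ⟨q, p, hpq.symm, hq0, hp0, by omega, by omega, by omega, fun χ h4 h5 => hrest χ h5 h4⟩
  · omega

theorem count_eq [Fintype G] {u v t : G} (hu : u ∈ S) (hv : v ∈ S) (ht : t ∈ S) (hu1 : u ≠ 1)
    (hv1 : v ≠ 1) (hinv : IsConj t t⁻¹) :
    (Nat.card G : ℚ) * ∑ χ, ((X χ u * X χ v * X χ t : ℤ) : ℚ) / (d χ : ℚ) =
      81 * ((CfsgLib.ClassCount.pairs u v {t}).card : ℚ) := by
  have h := CfsgLib.ClassCount.card_pairs_mul_centralizers u v {t}
  rw [card_centralizer hS hu hu1, card_centralizer hS hv hv1] at h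
  simp only [Finset.sum_singleton, ← CfsgLib.ClassCount.card_div_degree, hD.deg] at h
  have hti : ∀ χ : IrrCharacter G, (χ : G → ℂ) t⁻¹ = (X χ t : ℂ) := fun χ => by
    rw [← classFunction_eq_of_isConj (irr_isClassFunction χ) hinv, hD.val χ t ht]
  simp only [hti, hD.val _ u hu, hD.val _ v hv] at h
  apply Rat.cast_injective (α := ℂ)
  push_cast
  rw [Finset.mul_sum]
  calc ∑ χ, (Nat.card G : ℂ) * ((X χ u : ℂ) * X χ v * X χ t / (d χ : ℂ))
      = ∑ χ, (Nat.card G : ℂ) / (d χ : ℂ) * ((X χ u : ℂ) * X χ v * X χ t) :=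
        Finset.sum_congr rfl fun χ _ => by ring
    _ = _ := by rw [← h]; push_cast; ring

/-- The case of classes with two elements in `S` is impossible. -/
theorem false_of_two (hinv : ∀ s ∈ S, IsConj s s⁻¹)
    (horb : ∀ s ∈ S, s ≠ 1 → ∀ x ∈ S, IsConj s x → x = s ∨ x = s⁻¹)
    {a c : G} (ha : a ∈ S) (hc : c ∈ S) (ha1 : a ≠ 1) (hc1 : c ≠ 1) (hac : ¬ IsConj a c)
    (hbig : 37 ≤ Nat.card G) : False := by
  classical
  have : Fintype G := Fintype.ofFinite G
  have haa : a * a = a⁻¹ := (inv_eq_mul_self (hS.exp3 a ha)).symm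
  have haa' : a⁻¹ * a⁻¹ = a := by rw [← mul_inv_rev, haa, inv_inv]
  have hca : c ≠ a := fun h => hac (h ▸ IsConj.refl a)
  have hca' : c ≠ a⁻¹ := fun h => hac (h ▸ hinv a ha)
  set e := a * c with hedef
  have he : e ∈ S := mul_mem ha hc
  have he1 : e ≠ 1 := fun h => hca' (inv_eq_of_mul_eq_one_right h).symm
  have hae : ¬ IsConj a e := fun h => by
    rcases horb a ha ha1 e he h with h1 | h1
    · exact hc1 (mul_eq_left.1 h1)
    · rw [← haa] at h1; exact hca (mul_left_cancel h1)
  have hp1 : CfsgLib.ClassCount.pairs a c {e} = {(a, c)} := by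
    ext ⟨x, y⟩
    simp only [CfsgLib.ClassCount.pairs, Finset.mem_filter, Finset.mem_product,
      CfsgLib.ClassCount.mem_cls, Finset.mem_singleton, Prod.mk.injEq]
    constructor
    · rintro ⟨⟨hx, hy⟩, hxy⟩
      have hx3 : x ^ 3 = 1 := by
        obtain ⟨g, rfl⟩ := isConj_iff.1 hx; rw [conj_pow, hS.exp3 a ha]; group
      have hy3 : y ^ 3 = 1 := by
        obtain ⟨g, rfl⟩ := isConj_iff.1 hy; rw [conj_pow, hS.exp3 c hc]; group
      have hx1 : x ≠ 1 := fun h => ha1 (isConj_one_left.1 (h ▸ hx))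
      rcases mem_or_conj hS hx3 hy3 hx1 he he1 hxy with ⟨hxS, hyS⟩ | ⟨h, -⟩
      · rcases horb a ha ha1 x hxS hx with rfl | rfl <;>
          rcases horb c hc hc1 y hyS hy with rfl | rfl
        · exact ⟨rfl, rfl⟩
        · exact absurd (mul_left_cancel hxy) (inv_ne_self hS hc hc1)
        · exact absurd (mul_right_cancel hxy) (inv_ne_self hS ha ha1)
        · refine absurd ?_ (inv_ne_self hS he he1)
          rw [hedef, mul_inv_rev, mul_comm_mem hS (inv_mem hc) (inv_mem ha)]
          exact hxy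
      · exact absurd (hx.trans (h.trans hy.symm)) hac
    · rintro ⟨rfl, rfl⟩
      exact ⟨⟨IsConj.refl _, IsConj.refl _⟩, rfl⟩
  have hp2 : CfsgLib.ClassCount.pairs a a {e} = ∅ := by
    rw [Finset.eq_empty_iff_forall_notMem]
    rintro ⟨x, y⟩
    simp only [CfsgLib.ClassCount.pairs, Finset.mem_filter, Finset.mem_product,
      CfsgLib.ClassCount.mem_cls, Finset.mem_singleton]
    rintro ⟨⟨hx, hy⟩, hxy⟩
    have hx3 : x ^ 3 = 1 := by
      obtain ⟨g, rfl⟩ := isConj_iff.1 hx; rw [conj_pow, hS.exp3 a ha]; group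
    have hy3 : y ^ 3 = 1 := by
      obtain ⟨g, rfl⟩ := isConj_iff.1 hy; rw [conj_pow, hS.exp3 a ha]; group
    have hx1 : x ≠ 1 := fun h => ha1 (isConj_one_left.1 (h ▸ hx))
    rcases mem_or_conj hS hx3 hy3 hx1 he he1 hxy with ⟨hxS, hyS⟩ | ⟨-, h⟩
    · rcases horb a ha ha1 x hxS hx with h1 | h1 <;>
        rcases horb a ha ha1 y hyS hy with h2 | h2 <;> rw [h1, h2] at hxy
      · exact hca (mul_left_cancel hxy).symm
      · exact hca' (mul_left_cancel hxy).symm
      · rw [inv_mul_cancel] at hxy; exact he1 hxy.symm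
      · rw [haa'] at hxy; exact hc1 (mul_eq_left.1 hxy.symm)
    · exact hae ((hx.trans h).trans (hinv e he).symm)
  have e1 := count_eq hS hD ha hc he ha1 hc1 (hinv e he)
  have e2 := count_eq hS hD ha ha he ha1 ha1 (hinv e he)
  rw [hp1, Finset.card_singleton, Nat.cast_one] at e1
  rw [hp2, Finset.card_empty, Nat.cast_zero] at e2
  obtain ⟨p, q, hpq, hp0, hq0, hdd, hp, hq, hrest⟩ := exists_diff hS hD ha hc ha1 hc1 hac
  have hsum : ∑ χ, (((X χ a * X χ a * X χ e : ℤ) : ℚ) / (d χ : ℚ) -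
      ((X χ a * X χ c * X χ e : ℤ) : ℚ) / (d χ : ℚ)) =
      (3 * ((X p a * X p e : ℤ) : ℚ) - 3 * ((X q a * X q e : ℤ) : ℚ)) / (d p : ℚ) := by
    rw [Finset.sum_eq_add p q hpq (fun χ _ h => by rw [hrest χ h.1 h.2, sub_self])
      (fun h => absurd (Finset.mem_univ _) h) (fun h => absurd (Finset.mem_univ _) h),
      ← hdd, hp, hq]
    push_cast
    ring
  have hdp : (d p : ℚ) ≠ 0 := by exact_mod_cast (hD.pos p).ne'
  have e3 : (Nat.card G : ℤ) * (3 * (X p a * X p e - X q a * X q e)) = -81 * d p := by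
    have h : (Nat.card G : ℚ) * ((3 * ((X p a * X p e : ℤ) : ℚ) -
        3 * ((X q a * X q e : ℤ) : ℚ)) / (d p : ℚ)) = -81 := by
      rw [← hsum, Finset.sum_sub_distrib, mul_sub, e1, e2]; norm_num
    rw [← mul_div_assoc, div_eq_iff hdp] at h
    rw [← Int.cast_inj (α := ℚ)]
    push_cast at h ⊢
    linarith
  have hdvd : (3 : ℤ) ∣ X p a * X p e - X q a * X q e := by
    have h1 := hD.congr p a ha
    have h2 := hD.congr p e he
    have h3 := hD.congr q a ha
    have h4 := hD.congr q e he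
    rw [← hdd] at h3 h4
    have : X p a * X p e - X q a * X q e = -((d p - X p a) * X p e) - d p * (d p - X p e) +
        (d p - X q a) * X q e + d p * (d p - X q e) := by ring
    rw [this]
    exact dvd_add (dvd_add (dvd_sub (dvd_neg.2 (h1.mul_right _)) (h2.mul_left _))
      (h3.mul_right _)) (h4.mul_left _)
  obtain ⟨j, hj⟩ := hdvd
  rw [hj] at e3
  have hle := degree_sq_le hD hpq hp0 hq0
  have hpos := hD.pos p
  have hG' : (37 : ℤ) ≤ Nat.card G := by exact_mod_cast hbig
  rw [← hdd] at hle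
  have hj1 : j ≤ -1 := by
    by_contra hcon
    have : 0 ≤ j := by omega
    nlinarith
  have hG9 : (Nat.card G : ℤ) ≤ 9 * d p := by nlinarith
  have hd4 : d p ≤ 4 := by nlinarith
  linarith

omit hD in
/-- Products of independent elements of `S`. -/
theorem mul_ne_four {u v : G} (hu : u ∈ S) (hv : v ∈ S) (hu1 : u ≠ 1) (hv1 : v ≠ 1) (h : v ≠ u)
    (_h' : v ≠ u⁻¹) : u * v ≠ u ∧ u * v ≠ u⁻¹ ∧ u * v ≠ v ∧ u * v ≠ v⁻¹ := by
  refine ⟨fun e => hv1 (mul_eq_left.1 e), fun e => h ?_, fun e => hu1 (mul_eq_right.1 e),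
    fun e => h ?_⟩
  · rw [inv_eq_mul_self (hS.exp3 u hu)] at e
    exact mul_left_cancel e
  · rw [inv_eq_mul_self (hS.exp3 v hv)] at e
    exact (mul_right_cancel e).symm

/-- The case of classes with four elements in `S`. -/
theorem card_le_of_four (hinv : ∀ s ∈ S, IsConj s s⁻¹)
    (hm : ∀ s ∈ S, s ≠ 1 → Nat.card (orb S s) = 4) : Nat.card G ≤ 720 := by
  classical
  have : Fintype G := Fintype.ofFinite G
  have : Fintype S := Fintype.ofFinite S
  obtain ⟨⟨a, ha⟩, haS⟩ : ∃ a : S, a ≠ 1 := by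
    have : Nontrivial S := Finite.one_lt_card_iff_nontrivial.1 (by rw [hS.card]; norm_num)
    exact exists_ne 1
  have ha1 : a ≠ 1 := fun h => haS (Subtype.ext h)
  have hA4 : (orb S a).ncard = 4 := by rw [← Nat.card_coe_set_eq]; exact hm a ha ha1
  obtain ⟨b, ⟨hb, hab⟩, hb2⟩ : ∃ b ∈ orb S a, b ∉ ({a, a⁻¹} : Set G) := by
    by_contra hcon
    push Not at hcon
    have := Set.ncard_le_ncard (show orb S a ⊆ {a, a⁻¹} from hcon) (Set.toFinite _)
    have := Set.ncard_insert_le a ({a⁻¹} : Set G)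
    rw [Set.ncard_singleton] at this
    omega
  simp only [Set.mem_insert_iff, Set.mem_singleton_iff, not_or] at hb2
  have hb1 : b ≠ 1 := fun h => ha1 (isConj_one_left.1 (h ▸ hab))
  have hai := inv_ne_self hS ha ha1
  have hbi := inv_ne_self hS hb hb1
  have horb : ∀ x ∈ S, IsConj a x → x = a ∨ x = a⁻¹ ∨ x = b ∨ x = b⁻¹ := by
    intro x hx h
    have hsub : ({a, a⁻¹, b, b⁻¹} : Set G) ⊆ orb S a := by
      rintro z (rfl | rfl | rfl | rfl)
      · exact ⟨ha, IsConj.refl _⟩
      · exact ⟨inv_mem ha, hinv a ha⟩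
      · exact ⟨hb, hab⟩
      · exact ⟨inv_mem hb, hab.trans (hinv b hb)⟩
    have hb4 : b⁻¹ ≠ a ∧ b⁻¹ ≠ a⁻¹ :=
      ⟨fun e => hb2.2 (by rw [← e, inv_inv]), fun e => hb2.1 (inv_injective e)⟩
    have hc : ({a, a⁻¹, b, b⁻¹} : Set G).ncard = 4 := by
      rw [Set.ncard_insert_of_notMem (by simp [hai.symm, (Ne.symm hb2.1), hb4.1.symm]),
        Set.ncard_insert_of_notMem (by simp [(Ne.symm hb2.2), hb4.2.symm]), Set.ncard_pair hbi.symm]
    have := Set.eq_of_subset_of_ncard_le hsub (by rw [hA4, hc]) (Set.toFinite _)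
    have hxm : x ∈ orb S a := ⟨hx, h⟩
    rw [← this] at hxm
    simpa using hxm
  set t := a * b with htdef
  have htS : t ∈ S := mul_mem ha hb
  have h4 := mul_ne_four hS ha hb ha1 hb1 hb2.1 hb2.2
  have ht1 : t ≠ 1 := fun h => hb2.2 (inv_eq_of_mul_eq_one_right h).symm
  have hat : ¬ IsConj a t := fun h => by
    rcases horb t htS h with e | e | e | e
    exacts [h4.1 e, h4.2.1 e, h4.2.2.1 e, h4.2.2.2 e]
  have hpairs : CfsgLib.ClassCount.pairs a a {t} = {(a, b), (b, a)} := by
    ext ⟨x, y⟩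
    simp only [CfsgLib.ClassCount.pairs, Finset.mem_filter, Finset.mem_product,
      CfsgLib.ClassCount.mem_cls, Finset.mem_singleton, Finset.mem_insert, Prod.mk.injEq]
    constructor
    · rintro ⟨⟨hx, hy⟩, hxy⟩
      have hx3 : x ^ 3 = 1 := by
        obtain ⟨g, rfl⟩ := isConj_iff.1 hx; rw [conj_pow, hS.exp3 a ha]; group
      have hy3 : y ^ 3 = 1 := by
        obtain ⟨g, rfl⟩ := isConj_iff.1 hy; rw [conj_pow, hS.exp3 a ha]; group
      have hx1 : x ≠ 1 := fun h => ha1 (isConj_one_left.1 (h ▸ hx))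
      rcases mem_or_conj hS hx3 hy3 hx1 htS ht1 hxy with ⟨hxS, hyS⟩ | ⟨-, h⟩
      · have hy' : y = x⁻¹ * t := by rw [← hxy]; group
        rcases horb x hxS hx with rfl | rfl | rfl | rfl
        · left; exact ⟨rfl, mul_left_cancel hxy⟩
        · exfalso
          have e : y = a⁻¹ * b := by
            rw [hy', htdef, inv_inv, ← mul_assoc, ← inv_eq_mul_self (hS.exp3 a ha)]
          have h5 := mul_ne_four hS (inv_mem ha) hb (inv_ne_one.2 ha1) hb1 hb2.2
            (by rw [inv_inv]; exact hb2.1)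
          rw [inv_inv] at h5
          rcases horb y hyS hy with e' | e' | e' | e' <;> rw [e] at e'
          exacts [h5.2.1 e', h5.1 e', h5.2.2.1 e', h5.2.2.2 e']
        · right
          refine ⟨rfl, mul_left_cancel (a := x) ?_⟩
          rw [hxy, htdef]; exact mul_comm_mem hS ha hxS
        · exfalso
          have e : y = a * b⁻¹ := by
            rw [hy', htdef, inv_inv, inv_eq_mul_self (hS.exp3 b hb), ← mul_assoc b,
              mul_comm_mem hS hb ha, mul_assoc]
          have h5 := mul_ne_four hS ha (inv_mem hb) ha1 (inv_ne_one.2 hb1)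
            (fun h => hb2.2 (by rw [← h, inv_inv])) (fun h => hb2.1 (inv_injective h))
          rw [inv_inv] at h5
          rcases horb y hyS hy with e' | e' | e' | e' <;> rw [e] at e'
          exacts [h5.1 e', h5.2.1 e', h5.2.2.2 e', h5.2.2.1 e']
      · exact absurd ((hx.trans h).trans (hinv t htS).symm) hat
    · rintro (⟨rfl, rfl⟩ | ⟨rfl, rfl⟩)
      · exact ⟨⟨IsConj.refl _, hab⟩, rfl⟩
      · exact ⟨⟨hab, IsConj.refl _⟩, mul_comm_mem hS hb ha⟩
  have e1 := count_eq hS hD ha ha htS ha1 ha1 (hinv t htS)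
  rw [hpairs, Finset.card_pair (by simp [(Ne.symm hb2.1)])] at e1
  -- congruences from restriction to `S`
  have hcong : ∀ χ, (9 : ℤ) ∣ d χ + 4 * X χ a + 4 * X χ t := by
    intro χ
    obtain ⟨m, hm'⟩ := CfsgLib.ClassCount.exists_mult χ S
    have hcov : ∀ x ∈ S, x ≠ 1 → ¬ IsConj a x → IsConj t x := by
      intro x hx hx1 hax
      by_contra htx
      have hd1 : Disjoint (orb S a) (orb S t) := Set.disjoint_left.2 fun z hz hz' =>
        hat (hz.2.trans hz'.2.symm)
      have hsub : orb S a ∪ orb S t ⊆ (S : Set G) \ {1, x} := by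
        rintro z (⟨hz, hzc⟩ | ⟨hz, hzc⟩) <;> refine ⟨hz, ?_⟩ <;>
          rintro (rfl | rfl)
        · exact ha1 (isConj_one_left.1 hzc)
        · exact hax hzc
        · exact ht1 (isConj_one_left.1 hzc)
        · exact htx hzc
      have h2 := Set.ncard_le_ncard hsub (Set.toFinite _)
      rw [Set.ncard_union_eq hd1 (Set.toFinite _) (Set.toFinite _), hA4,
        show (orb S t).ncard = 4 by rw [← Nat.card_coe_set_eq]; exact hm t htS ht1,
        Set.ncard_diff (by rintro z (rfl | rfl); exacts [one_mem S, hx]) (Set.toFinite _),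
        Set.ncard_pair hx1.symm, ← Nat.card_coe_set_eq] at h2
      simp only [SetLike.coe_sort_coe, hS.card] at h2
      omega
    set s1 := (Finset.univ : Finset S).filter fun (z : S) => IsConj a (z : G) with hs1
    set s2 := (Finset.univ : Finset S).filter fun (z : S) => IsConj t (z : G) with hs2
    have hcardf : ∀ u ∈ S, u ≠ 1 →
        ((Finset.univ : Finset S).filter fun (z : S) => IsConj u (z : G)).card = 4 := by
      intro u hu hu1
      rw [← hm u hu hu1, ← Fintype.card_subtype, ← Nat.card_eq_fintype_card]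
      exact Nat.card_congr ⟨fun z => ⟨z.1.1, z.1.2, z.2⟩, fun z => ⟨⟨z.1, z.2.1⟩, z.2.2⟩,
        fun z => rfl, fun z => rfl⟩
    have hsplit : ∀ z : S, ((χ : G → ℂ) ((z : G)⁻¹)) = (if z = 1 then (d χ : ℂ) else 0) +
        (if IsConj a (z : G) then (X χ a : ℂ) else 0) +
        (if IsConj t (z : G) then (X χ t : ℂ) else 0) := by
      intro z
      rw [← classFunction_eq_of_isConj (irr_isClassFunction χ) (hinv z z.2)]
      by_cases hz : z = 1
      · subst hz
        rw [if_pos rfl, if_neg, if_neg, add_zero, add_zero, OneMemClass.coe_one, hD.deg]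
        · exact fun h => ht1 (isConj_one_left.1 h)
        · exact fun h => ha1 (isConj_one_left.1 h)
      rw [if_neg hz, zero_add]
      by_cases hza : IsConj a (z : G)
      · rw [if_pos hza, if_neg fun h => hat (hza.trans h.symm), add_zero, hD.val χ z z.2,
          val_eq_of_isConj hD χ ha z.2 hza]
      · have hzt := hcov z z.2 (fun e => hz (Subtype.ext e)) hza
        rw [if_neg hza, if_pos hzt, zero_add, hD.val χ z z.2,
          val_eq_of_isConj hD χ htS z.2 hzt]
    simp only [hsplit, Finset.sum_add_distrib, Finset.sum_ite_eq', Finset.mem_univ, if_true,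
      ← Finset.sum_filter, Finset.sum_const, hcardf a ha ha1, hcardf t htS ht1, hS.card] at hm'
    refine ⟨m, ?_⟩
    simp only [nsmul_eq_mul] at hm'
    push_cast at hm'
    rw [← Int.cast_inj (α := ℂ)]
    push_cast
    linear_combination hm'
  obtain ⟨p, q, hpq, hp0, hq0, hdd, hp, hq, hrest⟩ := exists_diff hS hD ha htS ha1 ht1 hat
  set T : Finset (IrrCharacter G) := {p, q, principalIrr G} with hT
  have hTsum : ∀ (β : Type) [AddCommMonoid β] (f : IrrCharacter G → β),
      ∑ χ, f χ = f p + (f q + f (principalIrr G)) + ∑ χ ∈ Tᶜ, f χ := fun β _ f => by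
    rw [← Finset.sum_add_sum_compl T f, hT, Finset.sum_insert (by simp [hpq, hp0]),
      Finset.sum_pair hq0]
  have h1 := orth hS hD ha ha ha1
  have h3 := orth hS hD ha htS ha1
  rw [if_pos (IsConj.refl _), hTsum, principal_val hD ha] at h1
  rw [if_neg hat, hTsum, principal_val hD ha, principal_val hD htS] at h3
  have hcompl : ∀ χ ∈ Tᶜ, χ ≠ principalIrr G ∧ X χ a = X χ t := fun χ hχ => by
    simp only [hT, Finset.mem_compl, Finset.mem_insert, Finset.mem_singleton, not_or] at hχ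
    exact ⟨hχ.2.2, hrest χ hχ.1 hχ.2.1⟩
  have hsame : ∑ χ ∈ Tᶜ, X χ a * X χ a = ∑ χ ∈ Tᶜ, X χ a * X χ t :=
    Finset.sum_congr rfl fun χ hχ => by rw [(hcompl χ hχ).2]
  rw [hsame] at h1
  obtain ⟨hpa1, hpa2⟩ := abs_le_two hS hD hp0 ha ha1
  obtain ⟨hqa1, hqa2⟩ := abs_le_two hS hD hq0 ha ha1
  obtain ⟨hpt1, hpt2⟩ := abs_le_two hS hD hp0 htS ht1
  obtain ⟨hqt1, hqt2⟩ := abs_le_two hS hD hq0 htS ht1
  have hpc : X p a = 1 ∨ X p a = 2 := by omega
  have hqc : X q a = -1 ∨ X q a = -2 := by omega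
  have hR3 : ∑ χ ∈ Tᶜ, X χ a * X χ t = 3 := by
    rcases hpc with e | e <;> rcases hqc with e' | e' <;>
      rw [e, e', show X p t = X p a - 3 by omega, show X q t = X q a + 3 by omega, e, e'] at h3 <;>
      linarith
  have hsq5 : X p a * X p a + X q a * X q a = 5 := by
    rw [hR3] at h1; linarith
  have hrestle : -(3 / 8 : ℚ) ≤
      ∑ χ ∈ Tᶜ, ((X χ a * X χ a * X χ t : ℤ) : ℚ) / (d χ : ℚ) := by
    have hle : ∀ χ ∈ Tᶜ, -((X χ a * X χ t : ℤ) : ℚ) / 8 ≤
        ((X χ a * X χ a * X χ t : ℤ) : ℚ) / (d χ : ℚ) := by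
      intro χ hχ
      obtain ⟨hχ0, hχe⟩ := hcompl χ hχ
      have h9 := hcong χ
      have hdpos := hD.pos χ
      have hsq3 : X χ a * X χ t ≤ 3 := hR3 ▸ Finset.single_le_sum (f := fun ψ => X ψ a * X ψ t)
        (fun ψ hψ => by rw [(hcompl ψ hψ).2]; exact mul_self_nonneg _) hχ
      obtain ⟨hl, hu⟩ := abs_le_two hS hD hχ0 ha ha1
      rw [← hχe] at h9 hsq3 ⊢
      have hdq : (0 : ℚ) < d χ := by exact_mod_cast hdpos
      have hx : X χ a = -1 ∨ X χ a = 0 ∨ X χ a = 1 := by
        have : X χ a ≠ 2 := fun e => by rw [e] at hsq3; norm_num at hsq3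
        have : X χ a ≠ -2 := fun e => by rw [e] at hsq3; norm_num at hsq3
        omega
      rcases hx with e | e | e <;> rw [e] at h9 ⊢
      · have h8 : (8 : ℚ) ≤ d χ := by
          have : (8 : ℤ) ≤ d χ := by omega
          exact_mod_cast this
        rw [le_div_iff₀ hdq]
        push_cast
        linarith
      · simp
      · push_cast
        have : (0 : ℚ) ≤ 1 * 1 * 1 / (d χ : ℚ) := by positivity
        linarith
    refine le_trans (le_of_eq ?_) (Finset.sum_le_sum hle)
    rw [← Finset.sum_div, Finset.sum_neg_distrib, ← Int.cast_sum, hR3]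
    norm_num
  have hpq' : -(2 / 5 : ℚ) ≤ ((X p a * X p a * X p t : ℤ) : ℚ) / (d p : ℚ) +
      ((X q a * X q a * X q t : ℤ) : ℚ) / (d q : ℚ) := by
    have h9 := hcong p
    have hdpos := hD.pos p
    have hdq : (0 : ℚ) < d p := by exact_mod_cast hdpos
    rw [← hdd, ← add_div, le_div_iff₀ hdq]
    rw [show X p t = X p a - 3 by omega] at h9 ⊢
    rw [show X q t = X q a + 3 by omega]
    rcases hpc with e | e <;> rcases hqc with e' | e' <;> rw [e, e'] at hsq5 <;>
      rw [e] at h9 <;> norm_num at hsq5 <;> rw [e, e'] <;> push_cast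
    · linarith
    · have : (5 : ℚ) ≤ d p := by
        have : (5 : ℤ) ≤ d p := by omega
        exact_mod_cast this
      linarith
  rw [hTsum, principal_val hD ha, principal_val hD htS, principal_deg hD] at e1
  push_cast at e1 hrestle hpq'
  have hkey : (Nat.card G : ℚ) * (9 / 40) ≤ 81 * 2 := by
    rw [← e1]
    refine mul_le_mul_of_nonneg_left ?_ (by positivity)
    linarith
  have : (Nat.card G : ℚ) ≤ (720 : ℕ) := by push_cast; linarith
  exact_mod_cast this

end

/-- The order of the group is 360. -/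
theorem card_eq [Finite G] [IsSimpleGroup G] {S : Subgroup G} (hS : Hyp S)
    (hclasses : ∃ a b : G, orderOf a = 3 ∧ orderOf b = 3 ∧ ∀ g : G, g * a * g⁻¹ ≠ b) :
    Nat.card G = 360 := by
  have h9 : 9 ∣ Nat.card G := hS.card ▸ card_subgroup_dvd_card S
  have hG : ¬ IsMulCommutative G := CfsgLib.Small.nc_of_not_prime fun h => by
    have := (Nat.prime_dvd_prime_iff_eq Nat.prime_three h).1 ((by norm_num : 3 ∣ 9).trans h9)
    omega
  obtain ⟨m, hm1, hm3, hN⟩ := exists_card_orb_eq hS hG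
  have horbm : ∀ s ∈ S, s ≠ 1 → Nat.card (orb S s) = m := fun s hs h => by
    have := card_orb_mul hS hs h
    omega
  obtain ⟨a₀, b₀, ha₀, hb₀, hne⟩ := hclasses
  obtain ⟨a, haS, hac⟩ := exists_conj_mem hS (g := a₀) (ha₀ ▸ pow_orderOf_eq_one a₀)
  obtain ⟨c, hcS, hbc⟩ := exists_conj_mem hS (g := b₀) (hb₀ ▸ pow_orderOf_eq_one b₀)
  have ha1 : a ≠ 1 := fun h => by
    have hh : IsConj a₀ 1 := h ▸ hac
    rw [isConj_one_left.1 hh, orderOf_one] at ha₀; omega
  have hc1 : c ≠ 1 := fun h => by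
    have hh : IsConj b₀ 1 := h ▸ hbc
    rw [isConj_one_left.1 hh, orderOf_one] at hb₀; omega
  have hnac : ¬ IsConj a c := fun h => by
    obtain ⟨g, hg⟩ := isConj_iff.1 (hac.trans (h.trans hbc.symm))
    exact hne g hg
  have hd : Disjoint (orb S a) (orb S c) := Set.disjoint_left.2 fun z hz hz' =>
    hnac (hz.2.trans hz'.2.symm)
  have hle8 : 2 * m ≤ 8 := by
    have hsub : orb S a ∪ orb S c ⊆ (S : Set G) \ {1} := by
      rintro z (⟨hz, hzc⟩ | ⟨hz, hzc⟩) <;> refine ⟨hz, ?_⟩ <;>
        simp only [Set.mem_singleton_iff] <;> rintro rfl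
      · exact ha1 (isConj_one_left.1 hzc)
      · exact hc1 (isConj_one_left.1 hzc)
    have h2 := Set.ncard_le_ncard hsub (Set.toFinite _)
    rw [Set.ncard_union_eq hd (Set.toFinite _) (Set.toFinite _),
      ← Nat.card_coe_set_eq, ← Nat.card_coe_set_eq, horbm a haS ha1, horbm c hcS hc1,
      Set.ncard_diff_singleton_of_mem (one_mem S), ← Nat.card_coe_set_eq] at h2
    simp only [SetLike.coe_sort_coe, hS.card] at h2
    omega
  have hm0 : 0 < m := by
    have := Nat.card_pos (α := normalizer (S : Set G))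
    omega
  have hm24 : m = 2 ∨ m = 4 := by
    have : m ≠ 3 := fun h => hm3 (by rw [h])
    omega
  have hinv : ∀ s ∈ S, IsConj s s⁻¹ := fun s hs => isConj_inv hS hN (by omega) hs
  obtain ⟨P, hP⟩ := hS.syl
  have hn : 9 * m * Nat.card (Sylow 3 G) = Nat.card G := by
    rw [← hN, ← hP]
    exact CfsgLib.Small.card_normalizer_mul_card_sylow P
  have hn1 := CfsgLib.Small.one_lt_card_sylow hG (p := 3) ((by norm_num : 3 ∣ 9).trans h9)
  have hn9 := card_sylow_modEq hS
  rw [Nat.ModEq] at hn9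
  obtain ⟨d, X, hD⟩ := exists_data hS hG hinv
  rcases hm24 with rfl | rfl
  · exfalso
    refine false_of_two hS hD hinv (fun s hs hs1 x hx hsx => ?_) haS hcS ha1 hc1 hnac (by omega)
    have hsub : ({s, s⁻¹} : Set G) ⊆ orb S s := by
      rintro z (rfl | rfl)
      · exact ⟨hs, IsConj.refl _⟩
      · exact ⟨inv_mem hs, hinv s hs⟩
    have := Set.eq_of_subset_of_ncard_le hsub (by
      rw [← Nat.card_coe_set_eq, horbm s hs hs1, Set.ncard_pair (inv_ne_self hS hs hs1).symm])
      (Set.toFinite _)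
    have hxm : x ∈ orb S s := ⟨hx, hsx⟩
    rw [← this] at hxm
    simpa using hxm
  · have hle := card_le_of_four hS hD hinv horbm
    have : Nat.card (Sylow 3 G) = 10 ∨ Nat.card (Sylow 3 G) = 19 := by omega
    rcases this with h | h
    · omega
    · exfalso
      haveI : Fact (Nat.Prime 19) := ⟨by norm_num⟩
      have hc : Nat.card G = 19 ^ 1 * 36 := by omega
      have := CfsgLib.Small.card_sylow_mem (p := 19) hG one_ne_zero hc (by norm_num)
      have he : ((36 : ℕ).divisors.filter fun n => n % 19 = 1 ∧ 1 < n) = ∅ := by decide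
      rw [he] at this
      simp at this

end CfsgLib.ThreeSelfCentral
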