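import Mathlib

/-!
# Subgroups normalized by an alternating group

Elementary lemmas about homomorphisms to symmetric groups whose image contains the alternating group.
-/

set_option autoImplicit false

namespace CfsgLib.Recognition.AltPerm

open Subgroup Equiv
open scoped commutatorElement

variable {α : Type*} [Fintype α] [DecidableEq α]

lemma alt_ne_bot (hα : 5 ≤ Nat.card α) : alternatingGroup α ≠ ⊥ := by
  intro h
  have := alternatingGroup.nontrivial_of_three_le_card (α := α) (by omega)
  exact not_nontrivial (↥(⊥ : Subgroup (Perm α))) (h ▸ this)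

lemma commutator_alt (hα : 5 ≤ Nat.card α) :
    ⁅alternatingGroup α, alternatingGroup α⁆ = alternatingGroup α := by
  rw [← Subgroup.map_subtype_commutator, commutator_alternatingGroup_eq_top hα, ← MonoidHom.range_eq_map,
    range_subtype]

lemma not_commute {U V : Subgroup (Perm α)} (hα : 5 ≤ Nat.card α) (hU : alternatingGroup α ≤ U)
    (hV : alternatingGroup α ≤ V) (h : ⁅U, V⁆ = ⊥) : False := by
  refine alt_ne_bot hα (le_bot_iff.mp ?_)
  rw [← h]
  exact (commutator_alt hα).ge.trans (commutator_mono hU hV)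

lemma centralizer_alt (hα : 5 ≤ Nat.card α) :
    centralizer (alternatingGroup α : Set (Perm α)) = ⊥ := by
  by_contra h
  have hle := Equiv.Perm.alternatingGroup_le_of_normal hα
    ((Subgroup.nontrivial_iff_ne_bot (centralizer (alternatingGroup α : Set (Perm α)))).mpr h)
  exact not_commute hα hle le_rfl (commutator_eq_bot_iff_le_centralizer.mpr le_rfl)

lemma normalized_cases (hα : 5 ≤ Nat.card α) {M : Subgroup (Perm α)}
    (hM : alternatingGroup α ≤ normalizer (M : Set (Perm α))) : M = ⊥ ∨ alternatingGroup α ≤ M := by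
  have := alternatingGroup.isSimpleGroup hα
  have hn : (M.subgroupOf (alternatingGroup α)).Normal := by
    refine ⟨fun x hx a => ?_⟩
    exact (mem_normalizer_iff.mp (hM a.2) x.1).mp hx
  rcases hn.eq_bot_or_eq_top with h | h
  · refine Or.inl (le_bot_iff.mp ((centralizer_alt hα) ▸ ?_))
    rw [← commutator_eq_bot_iff_le_centralizer, eq_bot_iff, commutator_le]
    intro m hm a ha
    have h1 : ⁅m, a⁆ ∈ alternatingGroup α := by
      rw [commutatorElement_def]
      exact mul_mem ((alternatingGroup.normal (α := α)).conj_mem a ha m) (inv_mem ha)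
    have h2 : ⁅m, a⁆ ∈ M := by
      rw [commutatorElement_def, mul_assoc m, mul_assoc m]
      exact mul_mem hm ((mem_normalizer_iff.mp (hM ha) m⁻¹).mp (inv_mem hm))
    have h3 : (⟨_, h1⟩ : alternatingGroup α) ∈ M.subgroupOf (alternatingGroup α) := h2
    rw [h, mem_bot] at h3
    exact mem_bot.mpr (congrArg Subtype.val h3)
  · exact Or.inr (subgroupOf_eq_top.mp h)

lemma card_alt (hα : 5 ≤ Nat.card α) :
    2 * Nat.card (alternatingGroup α) = (Nat.card α).factorial := by
  have : Nontrivial α := Finite.one_lt_card_iff_nontrivial.mp (by omega)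
  rw [two_mul_nat_card_alternatingGroup, Nat.card_perm]

lemma range_of_large {Γ : Type*} [Group Γ] (hα : 5 ≤ Nat.card α) (φ : Γ →* Perm α)
    (h : (Nat.card α).factorial ≤ 2 * φ.ker.index) : φ.range.index ≤ 2 := by
  rw [index_ker] at h
  have h1 := φ.range.card_mul_index
  rw [Nat.card_perm] at h1
  rw [← h1, mul_comm 2] at h
  exact Nat.le_of_mul_le_mul_left h Nat.card_pos

variable {Γ : Type*} [Group Γ] (φ : Γ →* Perm α)

lemma image_cases (hα : 5 ≤ Nat.card α) {U N : Subgroup Γ} (hU : alternatingGroup α ≤ U.map φ)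
    (hn : U ≤ normalizer (N : Set Γ)) : N ≤ φ.ker ∨ alternatingGroup α ≤ N.map φ := by
  rcases normalized_cases hα (M := N.map φ) (hU.trans ((map_mono hn).trans (le_normalizer_map φ))) with h | h
  · exact Or.inl ((Subgroup.map_eq_bot_iff _).mp h)
  · exact Or.inr h

/-- An alternating image cannot come from a family of normal subgroups of small index with
trivial intersection. -/
lemma exists_large_index [Finite Γ] (hα : 5 ≤ Nat.card α) {U : Subgroup Γ}
    (hU : alternatingGroup α ≤ U.map φ) {ι : Type*} [Fintype ι] (N : ι → Subgroup Γ)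
    (hn : ∀ i, U ≤ normalizer (N i : Set Γ)) (hker : U ⊓ ⨅ i, N i ≤ φ.ker) :
    ∃ i, (Nat.card α).factorial ≤ 2 * (N i).relIndex U := by
  classical
  by_contra! hc
  have hall : ∀ i, alternatingGroup α ≤ (U ⊓ N i).map φ := by
    intro i
    rcases image_cases φ hα (U := U) (N := U ⊓ N i) hU
      ((le_inf le_normalizer (hn i)).trans inf_normalizer_le_normalizer_inf) with h | h
    · exfalso
      have h1 : φ.ker.relIndex U ∣ (U ⊓ N i).relIndex U := relIndex_dvd_of_le_left U h
      rw [inf_relIndex_left, relIndex_ker] at h1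
      have h2 : Nat.card (alternatingGroup α) ≤ Nat.card (U.map φ) := Subgroup.card_le_of_le hU
      have h3 : Nat.card (U.map φ) ≤ (N i).relIndex U :=
        Nat.le_of_dvd (Nat.pos_of_ne_zero Subgroup.index_ne_zero_of_finite) h1
      have h4 := card_alt hα
      have h5 := hc i
      omega
    · exact h
  have key : ∀ s : Finset ι, alternatingGroup α ≤ (U ⊓ s.inf N).map φ := by
    intro s
    induction s using Finset.induction_on with
    | empty => simpa using hU
    | insert i s his ih =>
      rw [Finset.inf_insert, ← commutator_alt hα]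
      refine (commutator_mono ih (hall i)).trans ?_
      rw [← map_commutator]
      refine map_mono (commutator_le.mpr ?_)
      rintro x ⟨hxU, hxs⟩ y ⟨hyU, hyi⟩
      refine ⟨?_, ?_, ?_⟩
      · rw [commutatorElement_def]
        exact U.mul_mem (U.mul_mem (U.mul_mem hxU hyU) (U.inv_mem hxU)) (U.inv_mem hyU)
      · rw [commutatorElement_def]
        exact (N i).mul_mem ((mem_normalizer_iff.mp (hn i hxU) y).mp hyi) ((N i).inv_mem hyi)
      · have hns : U ≤ normalizer ((s.inf N : Subgroup Γ) : Set Γ) := by
          intro u hu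
          rw [mem_normalizer_iff]
          intro z
          simp only [Finset.inf_eq_iInf, Subgroup.mem_iInf]
          exact ⟨fun hz j hj => (mem_normalizer_iff.mp (hn j hu) z).mp (hz j hj),
            fun hz j hj => (mem_normalizer_iff.mp (hn j hu) z).mpr (hz j hj)⟩
        rw [commutatorElement_def, mul_assoc x, mul_assoc x]
        exact (s.inf N).mul_mem hxs ((mem_normalizer_iff.mp (hns hyU) x⁻¹).mp ((s.inf N).inv_mem hxs))
  have h := key Finset.univ
  rw [Finset.inf_univ_eq_iInf] at h
  refine alt_ne_bot hα (le_bot_iff.mp (h.trans ?_))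
  rw [(Subgroup.map_eq_bot_iff _).mpr hker]

/-- The even permutations move every point. -/
lemma exists_alt_smul (hα : 5 ≤ Nat.card α) (x : α) : ∃ σ ∈ alternatingGroup α, σ x ≠ x := by
  have := alternatingGroup.nontrivial_of_three_le_card (α := α) (by omega)
  have hpre := alternatingGroup.isPretransitive_of_three_le_card (α := α) (by omega)
  have : Nontrivial α := Finite.one_lt_card_iff_nontrivial.mp (by omega)
  obtain ⟨y, hy⟩ := exists_ne x
  obtain ⟨σ, hσ⟩ := hpre.exists_smul_eq x y
  exact ⟨σ.1, σ.2, fun h => hy (hσ.symm.trans h)⟩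

/-- A subgroup of `Perm α × Perm β` containing both alternating groups and projecting onto both
symmetric groups is everything or the sign-equal subgroup. -/
lemma prod_full_cases {β : Type*} [Fintype β] [DecidableEq β] [Nontrivial α] [Nontrivial β]
    (R : Subgroup (Perm α × Perm β)) (hA : (alternatingGroup α).prod (alternatingGroup β) ≤ R)
    (h1 : R.map (MonoidHom.fst (Perm α) (Perm β)) = ⊤) (h2 : R.map (MonoidHom.snd (Perm α) (Perm β)) = ⊤) :
    R = ⊤ ∨ R = ((Perm.sign.comp (MonoidHom.fst (Perm α) (Perm β))) *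
      (Perm.sign.comp (MonoidHom.snd (Perm α) (Perm β)))).ker := by
  classical
  set χ := ((Perm.sign.comp (MonoidHom.fst (Perm α) (Perm β))) *
      (Perm.sign.comp (MonoidHom.snd (Perm α) (Perm β)))) with hχ
  have hsame : ∀ r ∈ R, ∀ q : Perm α × Perm β,
      Perm.sign q.1 = Perm.sign r.1 → Perm.sign q.2 = Perm.sign r.2 → q ∈ R := by
    intro r hr q h h'
    have : q = r * (r⁻¹ * q) := by simp
    rw [this]
    refine mul_mem hr (hA ⟨?_, ?_⟩)
    · show r.1⁻¹ * q.1 ∈ alternatingGroup α
      rw [Perm.mem_alternatingGroup, map_mul, map_inv, h, inv_mul_cancel]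
    · show r.2⁻¹ * q.2 ∈ alternatingGroup β
      rw [Perm.mem_alternatingGroup, map_mul, map_inv, h', inv_mul_cancel]
  obtain ⟨x, y, hxy⟩ := exists_pair_ne α
  obtain ⟨u, v, huv⟩ := exists_pair_ne β
  have hodd : swap x y ∈ R.map (MonoidHom.fst (Perm α) (Perm β)) := h1 ▸ mem_top _
  obtain ⟨r, hr, hr1⟩ := hodd
  have hodd' : swap u v ∈ R.map (MonoidHom.snd (Perm α) (Perm β)) := h2 ▸ mem_top _
  obtain ⟨r', hr', hr2⟩ := hodd'
  have hs1 : Perm.sign r.1 = -1 := by
    rw [show r.1 = swap x y from hr1, Perm.sign_swap hxy]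
  have hs2 : Perm.sign r'.2 = -1 := by
    rw [show r'.2 = swap u v from hr2, Perm.sign_swap huv]
  by_cases hR : R ≤ χ.ker
  · refine Or.inr (le_antisymm hR fun q hq => ?_)
    have hq' : Perm.sign q.1 * Perm.sign q.2 = 1 := hq
    have hrk : Perm.sign r.1 * Perm.sign r.2 = 1 := hR hr
    rcases Int.units_eq_one_or (Perm.sign q.1) with h | h
    · refine hsame 1 R.one_mem q (by simpa using h) ?_
      rw [h, one_mul] at hq'
      simpa using hq'
    · refine hsame r hr q (h.trans hs1.symm) ?_
      rw [hs1] at hrk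
      rw [h] at hq'
      exact mul_left_cancel (hq'.trans hrk.symm)
  · refine Or.inl ((eq_top_iff' R).mpr fun q => ?_)
    obtain ⟨z, hz, hzn⟩ := SetLike.not_le_iff_exists.mp hR
    have hz' : Perm.sign z.1 * Perm.sign z.2 ≠ 1 := hzn
    -- every pair of signs is attained
    have key : ∀ e f : ℤˣ, ∃ w ∈ R, Perm.sign w.1 = e ∧ Perm.sign w.2 = f := by
      rcases Int.units_eq_one_or (Perm.sign z.1) with a1 | a1 <;>
        rcases Int.units_eq_one_or (Perm.sign z.2) with a2 | a2
      · simp [a1, a2] at hz'
      · intro e f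
        rcases Int.units_eq_one_or e with rfl | rfl <;> rcases Int.units_eq_one_or f with rfl | rfl
        · exact ⟨1, R.one_mem, by simp, by simp⟩
        · exact ⟨z, hz, a1, a2⟩
        · rcases Int.units_eq_one_or (Perm.sign r.2) with b | b
          · exact ⟨r, hr, hs1, b⟩
          · exact ⟨r * z, mul_mem hr hz, by simp [hs1, a1], by simp [b, a2]⟩
        · rcases Int.units_eq_one_or (Perm.sign r.2) with b | b
          · exact ⟨r * z, mul_mem hr hz, by simp [hs1, a1], by simp [b, a2]⟩
          · exact ⟨r, hr, hs1, b⟩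
      · intro e f
        rcases Int.units_eq_one_or e with rfl | rfl <;> rcases Int.units_eq_one_or f with rfl | rfl
        · exact ⟨1, R.one_mem, by simp, by simp⟩
        · rcases Int.units_eq_one_or (Perm.sign r'.1) with b | b
          · exact ⟨r', hr', b, hs2⟩
          · exact ⟨r' * z, mul_mem hr' hz, by simp [b, a1], by simp [hs2, a2]⟩
        · exact ⟨z, hz, a1, a2⟩
        · rcases Int.units_eq_one_or (Perm.sign r'.1) with b | b
          · exact ⟨r' * z, mul_mem hr' hz, by simp [b, a1], by simp [hs2, a2]⟩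
          · exact ⟨r', hr', b, hs2⟩
      · simp [a1, a2] at hz'
    obtain ⟨w, hw, hw1, hw2⟩ := key (Perm.sign q.1) (Perm.sign q.2)
    exact hsame w hw q hw1.symm hw2.symm

end CfsgLib.Recognition.AltPerm
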