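import Cfsg.Agent.Lib.Recognition.AltSubStructure

/-!
# The stabilizer in a primitive group with an unfaithful alternating or symmetric subconstituent
-/

set_option autoImplicit false

namespace CfsgLib.Recognition.AltSub

open Subgroup CfsgLib.Maximal.TW Equiv
open scoped Nat commutatorElement

variable {G : Type*} [Group G] [Finite G] {H K L : Subgroup G} {d : ℕ}

lemma card_mul_relIndex {A B : Subgroup G} (h : A ≤ B) : Nat.card A * A.relIndex B = Nat.card B := by
  rw [← relIndex_bot_left, ← relIndex_bot_left]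
  exact relIndex_mul_relIndex ⊥ A B bot_le h

theorem Pair.structure (P : Pair H K L d) (g : G) (hg : H.map (MulAut.conj g).toMonoidHom = K)
    (hl : d ! ≤ 2 * (coreIn H L).relIndex H) (hunf : coreIn H L ≠ ⊥) :
    (2 * (coreIn H L).relIndex H = d ! ∧
      Nonempty (H ≃* alternatingGroup (Fin d) × alternatingGroup (Fin (d - 1)))) ∨
    ((coreIn H L).relIndex H = d ! ∧
      (Nonempty (H ≃* Perm (Fin d) × Perm (Fin (d - 1))) ∨
       Nonempty (H ≃* ((Perm.sign.comp (MonoidHom.fst (Perm (Fin d)) (Perm (Fin (d - 1))))) *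
         (Perm.sign.comp (MonoidHom.snd (Perm (Fin d)) (Perm (Fin (d - 1)))))).ker))) := by
  classical
  have h6 := P.h6
  have hginv : K.map (MulAut.conj g⁻¹).toMonoidHom = H := by
    rw [← hg, Subgroup.map_map, show ((MulAut.conj g⁻¹).toMonoidHom.comp (MulAut.conj g).toMonoidHom)
      = MonoidHom.id G from MonoidHom.ext fun x => by simp [mul_assoc], Subgroup.map_id]
  obtain ⟨A, hA⟩ : ∃ A, A = coreIn H L := ⟨_, rfl⟩
  obtain ⟨B, hB⟩ : ∃ B, B = coreIn K L := ⟨_, rfl⟩
  have hcHK : Nat.card K = Nat.card H := hg ▸ card_map_of_injective (MulAut.conj g).injective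
  have hAH : A ≤ H := hA ▸ coreIn_le_left H L
  have hBK : B ≤ K := hB ▸ coreIn_le_left K L
  have hle1 := P.conj_core_le g⁻¹ hginv hl
  rw [← hA, ← hB] at hle1
  have hcard1 : Nat.card B ≤ Nat.card A := by
    rw [← card_map_of_injective (K := B) (f := (MulAut.conj g⁻¹).toMonoidHom) (MulAut.conj g⁻¹).injective]
    exact Subgroup.card_le_of_le hle1
  have hl' : d ! ≤ 2 * (coreIn K L).relIndex K := by
    refine hl.trans (Nat.mul_le_mul_left 2 ?_)
    rw [← hA, ← hB]
    refine Nat.le_of_mul_le_mul_left ?_ (Nat.card_pos (α := B))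
    rw [card_mul_relIndex hBK, hcHK, ← card_mul_relIndex hAH]
    exact Nat.mul_le_mul_right _ hcard1
  have hle2 := P.symm.conj_core_le g hg hl'
  rw [← hA, ← hB] at hle2
  have hcard : Nat.card A = Nat.card B := le_antisymm (by
    rw [← card_map_of_injective (K := A) (f := (MulAut.conj g).toMonoidHom) (MulAut.conj g).injective]
    exact Subgroup.card_le_of_le hle2) hcard1
  have hAB : A.map (MulAut.conj g).toMonoidHom = B :=
    eq_of_le_of_card_ge hle2 (by rw [card_map_of_injective (f := (MulAut.conj g).toMonoidHom) (MulAut.conj g).injective]; exact hcard.ge)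
  have hX : A ⊓ B = ⊥ := by
    rw [hA, hB]
    exact P.inf_eq_bot hl hl' g (hA ▸ hB ▸ hAB)
  have hA0 : A ≠ ⊥ := hA ▸ hunf
  have hB0 : B ≠ ⊥ := fun h => hA0 ((map_eq_bot_iff_of_injective _ (MulAut.conj g).injective).mp (hAB.trans h))
  have hAL : A ≤ L := hA ▸ coreIn_le_right H L
  have hBL : B ≤ L := hB ▸ coreIn_le_right K L
  have hAn : H ≤ normalizer (A : Set G) := hA ▸ le_normalizer_coreIn H L
  have hBn : K ≤ normalizer (B : Set G) := hB ▸ le_normalizer_coreIn K L
  have hAnB : ¬ A ≤ B := fun h => hA0 (le_bot_iff.mp (hX ▸ le_inf le_rfl h))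
  have := Fintype.ofFinite (H ⧸ L.subgroupOf H)
  have := Fintype.ofFinite (OffPt (L.subgroupOf K))
  -- the centralizer
  obtain ⟨C, hC⟩ : ∃ C, C = H ⊓ centralizer (A : Set G) := ⟨_, rfl⟩
  have hAK : alternatingGroup (OffPt (L.subgroupOf K)) ≤ img P.leK A := by
    rcases P.symm.img_cases le_rfl hAL (P.symm.alt_le_top hl') (P.leH.trans hAn) with h | h
    · exact absurd (hB ▸ h) hAnB
    · exact h
  have hBC : B ≤ C := by
    refine hC ▸ le_inf (hBL.trans P.leH) ?_
    rw [← commutator_eq_bot_iff_le_centralizer, commutator_comm]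
    exact commute_of_inf ((hBL.trans P.leH).trans hAn) ((hAL.trans P.leK).trans hBn) hX
  have hCn : H ≤ normalizer (C : Set G) := hC ▸
    (le_inf le_normalizer (le_normalizer_centralizer hAn)).trans inf_normalizer_le_normalizer_inf
  have hCL : L ⊓ C ≤ B := by
    rcases P.symm.img_cases le_rfl (inf_le_left : L ⊓ C ≤ L) (P.symm.alt_le_top hl')
      ((le_inf le_normalizer (P.leH.trans hCn)).trans inf_normalizer_le_normalizer_inf) with h | h
    · exact hB ▸ h
    · refine (P.symm.not_commute h hAK (le_bot_iff.mp ?_)).elim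
      refine (commutator_mono (inf_le_right.trans (hC.le.trans inf_le_right)) le_rfl).trans ?_
      exact (commutator_eq_bot_iff_le_centralizer.mpr le_rfl).le
  have hCA : C ⊓ A ≤ ⊥ := hX ▸ le_inf inf_le_right ((le_inf (inf_le_right.trans hAL) inf_le_left).trans hCL)
  have hCnL : ¬ C ≤ L := fun h => by
    have hCB : C = B := le_antisymm ((le_inf h le_rfl).trans hCL) hBC
    have h1 := normalizer_eq P.hmax P.hcore (hBL.trans P.leH) hB0 (hCB ▸ hCn)
    have h2 := normalizer_eq P.hmax' P.hcore' hBK hB0 hBn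
    exact P.hne (h1.symm.trans h2)
  have hsup : C ⊔ L = H := by
    obtain ⟨c, hc, hcL⟩ := SetLike.not_le_iff_exists.mp hCnL
    exact P.maximal hl le_sup_right (sup_le (hC.le.trans inf_le_left) P.leH) ((le_sup_left : C ≤ C ⊔ L) hc) hcL
  -- the two projections
  have hdH : Nat.card (H ⧸ L.subgroupOf H) = d := by rw [← index_eq_card]; exact P.hd
  obtain ⟨e₁⟩ : Nonempty ((H ⧸ L.subgroupOf H) ≃ Fin d) :=
    ⟨(Finite.equivFin _).trans (finCongr hdH)⟩
  obtain ⟨e₂⟩ : Nonempty (OffPt (L.subgroupOf K) ≃ Fin (d - 1)) :=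
    ⟨(Finite.equivFin _).trans (finCongr P.symm.card_off)⟩
  let P1 : H →* Perm (Fin d) := e₁.permCongrHom.toMonoidHom.comp (MulAction.toPermHom H (H ⧸ L.subgroupOf H))
  let P2 : L →* Perm (Fin (d - 1)) := e₂.permCongrHom.toMonoidHom.comp (offHom P.leK)
  have k1 : P1.ker = A.subgroupOf H := by
    rw [hA, coreIn_subgroupOf, normalCore_eq_ker]
    ext x
    simp [P1, MonoidHom.mem_ker]
  have k2 : P2.ker = B.subgroupOf L := by
    rw [hB, ← offHom_ker P.leK]
    ext x
    simp [P2, MonoidHom.mem_ker]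
  have h5 : 5 ≤ Nat.card (Fin d) := by rw [Nat.card_fin]; omega
  have h5' : 5 ≤ Nat.card (Fin (d - 1)) := by rw [Nat.card_fin]; omega
  have hAd : A.relIndex L * d = A.relIndex H := by
    rw [← P.hd, relIndex_mul_relIndex _ _ _ hAL P.leH]
  have hBA : B.relIndex L = A.relIndex L := Nat.eq_of_mul_eq_mul_left (Nat.card_pos (α := B)) (by
    rw [card_mul_relIndex hBL, ← hcard, card_mul_relIndex hAL])
  rw [← hA] at hl ⊢
  have hr1 : P1.range.index ≤ 2 := AltPerm.range_of_large h5 P1 (by rw [Nat.card_fin, k1]; exact hl)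
  have hr2 : P2.range.index ≤ 2 := AltPerm.range_of_large h5' P2 (by
    rw [Nat.card_fin, k2]
    show (d - 1)! ≤ 2 * B.relIndex L
    rw [hBA]
    rw [← hAd, ← Nat.mul_factorial_pred (by omega : d ≠ 0), mul_comm _ d, mul_left_comm 2 d] at hl
    exact Nat.le_of_mul_le_mul_left hl (by omega))
  have hc1 : Nat.card P1.range = A.relIndex H := by rw [← index_ker, k1]; rfl
  have hc2 : Nat.card P2.range = A.relIndex L := by rw [← index_ker, k2, ← hBA]; rfl
  have i1 := P1.range.card_mul_index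
  rw [Nat.card_perm, Nat.card_fin, hc1] at i1
  have i2 := P2.range.card_mul_index
  rw [Nat.card_perm, Nat.card_fin, hc2] at i2
  have hii : P1.range.index = P2.range.index := by
    refine Nat.eq_of_mul_eq_mul_left (n := A.relIndex H) (Nat.pos_of_ne_zero ?_) ?_
    · intro h0; rw [h0, zero_mul] at i1; exact (Nat.factorial_pos d).ne i1
    rw [i1, ← hAd, ← Nat.mul_factorial_pred (by omega : d ≠ 0), ← i2]
    ring
  -- the second projection on `H`
  have hCn' : (C.subgroupOf H).Normal :=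
    (normal_subgroupOf_iff_le_normalizer (hC.le.trans inf_le_left)).mpr hCn
  let σ : L →* H ⧸ C.subgroupOf H := (QuotientGroup.mk' (C.subgroupOf H)).comp (Subgroup.inclusion P.leH)
  have hσ : Function.Surjective σ := by
    intro q
    obtain ⟨x, rfl⟩ := QuotientGroup.mk'_surjective (C.subgroupOf H) q
    have hx : (x : G) ∈ ((C ⊔ L : Subgroup G) : Set G) := by rw [hsup]; exact x.2
    rw [coe_mul_of_right_le_normalizer_left _ _ (P.leH.trans hCn)] at hx
    obtain ⟨c, hc, l, hl, hcl⟩ := hx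
    refine ⟨⟨l, hl⟩, ?_⟩
    show QuotientGroup.mk' _ (⟨l, P.leH hl⟩ : H) = _
    rw [QuotientGroup.mk'_eq_mk']
    have hn := (mem_normalizer_iff.mp (hCn (H.inv_mem (P.leH hl))) c).mp hc
    refine ⟨⟨l⁻¹ * c * l⁻¹⁻¹, hCn (H.inv_mem (P.leH hl)) |> fun _ => (hC.le hn).1⟩, hn, Subtype.ext ?_⟩
    show l * (l⁻¹ * c * l⁻¹⁻¹) = x
    rw [← show c * l = (x : G) from hcl]
    group
  have hσk : σ.ker ≤ P2.ker := by
    intro x hx
    rw [k2]
    have h1 : (⟨(x : G), P.leH x.2⟩ : H) ∈ C.subgroupOf H := (QuotientGroup.eq_one_iff _).mp hx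
    exact hCL ⟨x.2, h1⟩
  let P2' : H →* Perm (Fin (d - 1)) :=
    (σ.liftOfSurjective hσ ⟨P2, hσk⟩).comp (QuotientGroup.mk' (C.subgroupOf H))
  have hP2' : ∀ x : L, P2' ⟨x, P.leH x.2⟩ = P2 x := fun x =>
    MonoidHom.liftOfRightInverse_comp_apply σ (Function.surjInv hσ) (Function.rightInverse_surjInv hσ) ⟨P2, hσk⟩ x
  let Θ : H →* Perm (Fin d) × Perm (Fin (d - 1)) := P1.prod P2'
  have hinj : Function.Injective Θ := by
    rw [← MonoidHom.ker_eq_bot_iff, eq_bot_iff]
    intro x hx
    have hx' : P1 x = 1 ∧ P2' x = 1 := Prod.ext_iff.mp hx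
    have h1 : (x : G) ∈ A := by
      have : x ∈ P1.ker := hx'.1
      rwa [k1] at this
    have h2 := hP2' ⟨x, hAL h1⟩
    rw [show (⟨((⟨x, hAL h1⟩ : L) : G), P.leH (hAL h1)⟩ : H) = x from rfl, hx'.2] at h2
    have h3 : (⟨x, hAL h1⟩ : L) ∈ P2.ker := h2.symm
    rw [k2] at h3
    have h4 : (x : G) ∈ A ⊓ B := ⟨h1, h3⟩
    rw [hX, mem_bot] at h4
    exact mem_bot.mpr (Subtype.ext h4)
  -- the image contains both alternating groups
  have ha1 : alternatingGroup (Fin d) ≤ (C.subgroupOf H).map P1 := by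
    rcases AltPerm.image_cases P1 h5 (U := ⊤) (N := C.subgroupOf H)
      (by rw [← MonoidHom.range_eq_map]; exact Perm.alternatingGroup_le_of_index_le_two hr1)
      (by rw [normalizer_eq_top_iff.mpr hCn']) with h | h
    · refine absurd (le_bot_iff.mp (hBC.trans ?_)) hB0
      intro x hx
      have hxH : x ∈ H := (hC.le hx).1
      have := h (show (⟨x, hxH⟩ : H) ∈ C.subgroupOf H from hx)
      rw [k1] at this
      exact hCA ⟨hx, this⟩
    · exact h
  have ha2 : alternatingGroup (Fin (d - 1)) ≤ (A.subgroupOf L).map P2 := by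
    have hn : ((A.subgroupOf L)).Normal := (normal_subgroupOf_iff_le_normalizer hAL).mpr (P.leH.trans hAn)
    rcases AltPerm.image_cases P2 h5' (U := ⊤) (N := A.subgroupOf L)
      (by rw [← MonoidHom.range_eq_map]; exact Perm.alternatingGroup_le_of_index_le_two hr2)
      (by rw [normalizer_eq_top_iff.mpr hn]) with h | h
    · refine absurd ?_ hAnB
      intro x hx
      have := h (show (⟨x, hAL hx⟩ : L) ∈ A.subgroupOf L from hx)
      rwa [k2] at this
    · exact h
  have hR : (alternatingGroup (Fin d)).prod (alternatingGroup (Fin (d - 1))) ≤ Θ.range := by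
    rintro ⟨s, t⟩ ⟨hs, ht⟩
    obtain ⟨c, hc, hcs⟩ := ha1 hs
    obtain ⟨a, ha, hat⟩ := ha2 ht
    have hc2 : P2' c = 1 := by
      show (σ.liftOfSurjective hσ ⟨P2, hσk⟩) (QuotientGroup.mk' _ c) = 1
      rw [show QuotientGroup.mk' (C.subgroupOf H) c = 1 from (QuotientGroup.eq_one_iff c).mpr hc, map_one]
    have ha1' : P1 ⟨a, P.leH a.2⟩ = 1 := by
      rw [← MonoidHom.mem_ker, k1]
      exact ha
    refine ⟨c * ⟨a, P.leH a.2⟩, Prod.ext ?_ ?_⟩
    · show P1 (c * _) = s
      rw [map_mul, ha1', mul_one, hcs]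
    · show P2' (c * _) = t
      rw [map_mul, hc2, one_mul, hP2', hat]
  have hf : Θ.range.map (MonoidHom.fst _ _) = P1.range := by
    rw [← MonoidHom.range_comp, show (MonoidHom.fst _ _).comp Θ = P1 from MonoidHom.fst_comp_prod _ _]
  have hs : Θ.range.map (MonoidHom.snd _ _) = P2.range := by
    rw [← MonoidHom.range_comp, show (MonoidHom.snd _ _).comp Θ = P2' from MonoidHom.snd_comp_prod _ _]
    refine le_antisymm ?_ ?_
    · rintro _ ⟨x, rfl⟩
      obtain ⟨y, hy⟩ := hσ (QuotientGroup.mk' _ x)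
      refine ⟨y, ?_⟩
      rw [← hP2' y]
      show (σ.liftOfSurjective hσ ⟨P2, hσk⟩) (σ y) = _
      rw [hy]
      rfl
    · rintro _ ⟨y, rfl⟩
      exact ⟨_, hP2' y⟩
  have he : H ≃* Θ.range := MonoidHom.ofInjective hinj
  rcases Nat.lt_or_ge P1.range.index 2 with h | h
  · right
    have h1 : P1.range.index = 1 := by
      have : P1.range.index ≠ 0 := index_ne_zero_of_finite
      omega
    rw [h1, mul_one] at i1
    refine ⟨i1, ?_⟩
    have t1 : P1.range = ⊤ := index_eq_one.mp h1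
    have t2 : P2.range = ⊤ := index_eq_one.mp (hii ▸ h1)
    have : Nontrivial (Fin d) := Fin.nontrivial_iff_two_le.mpr (by omega)
    have : Nontrivial (Fin (d - 1)) := Fin.nontrivial_iff_two_le.mpr (by omega)
    rcases AltPerm.prod_full_cases Θ.range hR (hf.trans t1) (hs.trans t2) with hT | hT
    · exact Or.inl ⟨(he.trans (MulEquiv.subgroupCongr hT)).trans Subgroup.topEquiv⟩
    · exact Or.inr ⟨he.trans (MulEquiv.subgroupCongr hT)⟩
  · left
    have h2 : P1.range.index = 2 := le_antisymm hr1 h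
    rw [h2] at i1
    refine ⟨by rw [mul_comm]; exact i1, ?_⟩
    have t1 := Perm.eq_alternatingGroup_of_index_eq_two h2
    have t2 := Perm.eq_alternatingGroup_of_index_eq_two (hii ▸ h2)
    have hT : Θ.range = (alternatingGroup (Fin d)).prod (alternatingGroup (Fin (d - 1))) := by
      refine le_antisymm (fun x hx => ⟨?_, ?_⟩) hR
      · rw [SetLike.mem_coe, ← t1, ← hf]; exact ⟨x, hx, rfl⟩
      · rw [SetLike.mem_coe, ← t2, ← hs]; exact ⟨x, hx, rfl⟩
    exact ⟨(he.trans (MulEquiv.subgroupCongr hT)).trans (Subgroup.prodEquiv _ _)⟩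

end CfsgLib.Recognition.AltSub
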