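import Cfsg.Agent.Lib.Recognition.AltSubconstituent

/-!
# The two cores of an alternating subconstituent pair meet trivially
-/

set_option autoImplicit false

namespace CfsgLib.Recognition.AltSub

open Subgroup CfsgLib.Maximal.TW Equiv
open scoped Nat commutatorElement

variable {G : Type*} [Group G] {H K L : Subgroup G} {d : ℕ}

/-- `M` is a minimal nontrivial subgroup of `A` normalized by `A`. -/
def MinIn (M A : Subgroup G) : Prop :=
  M ≤ A ∧ M ≠ ⊥ ∧ A ≤ normalizer (M : Set G) ∧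
    ∀ N : Subgroup G, N ≤ M → A ≤ normalizer (N : Set G) → N = ⊥ ∨ N = M

lemma exists_minIn [Finite G] {A C : Subgroup G} (hC : C ≤ A) (hne : C ≠ ⊥)
    (hn : A ≤ normalizer (C : Set G)) : ∃ M, MinIn M A ∧ M ≤ C := by
  obtain ⟨M, ⟨hMC, hM, hMn⟩, hmin⟩ := Set.Finite.exists_minimal
    (Set.toFinite {N : Subgroup G | N ≤ C ∧ N ≠ ⊥ ∧ A ≤ normalizer (N : Set G)}) ⟨C, le_rfl, hne, hn⟩
  refine ⟨M, ⟨hMC.trans hC, hM, hMn, fun N hN hNn => ?_⟩, hMC⟩
  by_cases h : N = ⊥
  · exact Or.inl h
  · exact Or.inr (le_antisymm hN (hmin ⟨hN.trans hMC, h, hNn⟩ hN))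

lemma commute_of_inf {M N : Subgroup G} (h1 : N ≤ normalizer (M : Set G))
    (h2 : M ≤ normalizer (N : Set G)) (h : M ⊓ N = ⊥) : ⁅M, N⁆ = ⊥ := by
  rw [eq_bot_iff, commutator_le]
  intro x hx y hy
  rw [← h, commutatorElement_def]
  refine ⟨?_, ?_⟩
  · rw [mul_assoc x, mul_assoc x]
    exact M.mul_mem hx ((mem_normalizer_iff.mp (h1 hy) x⁻¹).mp (M.inv_mem hx))
  · exact N.mul_mem ((mem_normalizer_iff.mp (h2 hx) y).mp hy) (N.inv_mem hy)

lemma MinIn.inf_eq_bot {M N A : Subgroup G} (hM : MinIn M A) (hN : MinIn N A) (h : M ≠ N) :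
    M ⊓ N = ⊥ := by
  have hn : A ≤ normalizer ((M ⊓ N : Subgroup G) : Set G) :=
    (le_inf hM.2.2.1 hN.2.2.1).trans inf_normalizer_le_normalizer_inf
  rcases hM.2.2.2 _ inf_le_left hn with h1 | h1
  · exact h1
  rcases hN.2.2.2 _ inf_le_right hn with h2 | h2
  · exact h2
  exact absurd (h1.symm.trans h2) h

lemma MinIn.map_conj [Finite G] {M A : Subgroup G} {g : G} (h : MinIn M A) :
    MinIn (M.map (MulAut.conj g).toMonoidHom) (A.map (MulAut.conj g).toMonoidHom) := by
  refine ⟨map_mono h.1, fun hb => h.2.1 ((map_eq_bot_iff_of_injective _ (MulAut.conj g).injective).mp hb),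
    (map_mono h.2.2.1).trans (le_normalizer_map _), fun N hN hNn => ?_⟩
  obtain ⟨N₀, rfl⟩ : ∃ N₀ : Subgroup G, N₀.map (MulAut.conj g).toMonoidHom = N :=
    ⟨N.map (MulAut.conj g).symm.toMonoidHom, by rw [Subgroup.map_map]; ext x; simp [mul_assoc]⟩
  have hinj : Function.Injective (MulAut.conj g).toMonoidHom := (MulAut.conj g).injective
  have hle : N₀ ≤ M := (map_le_map_iff_of_injective hinj).mp hN
  have hn0 : A ≤ normalizer (N₀ : Set G) := by
    intro a ha
    rw [mem_normalizer_iff]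
    intro x
    have := mem_normalizer_iff.mp (hNn ⟨a, ha, rfl⟩) ((MulAut.conj g) x)
    simp only [MulEquiv.toMonoidHom_eq_coe, MonoidHom.coe_coe] at this
    rw [← map_mul, ← map_inv, ← map_mul] at this
    constructor
    · intro hx
      obtain ⟨y, hy, hyx⟩ := this.mp ⟨x, hx, rfl⟩
      exact (MulAut.conj g).injective hyx ▸ hy
    · intro hx
      obtain ⟨y, hy, hyx⟩ := this.mpr ⟨_, hx, rfl⟩
      exact (MulAut.conj g).injective hyx ▸ hy
  rcases h.2.2.2 N₀ hle hn0 with h1 | h1
  · exact Or.inl (by rw [h1, Subgroup.map_bot])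
  · exact Or.inr (by rw [h1])

/-- `M` has no proper nontrivial normal subgroup and is not commutative. -/
def SimpleNA (M : Subgroup G) : Prop :=
  ⁅M, M⁆ ≠ ⊥ ∧ ∀ N : Subgroup G, N ≤ M → M ≤ normalizer (N : Set G) → N = ⊥ ∨ N = M

lemma SimpleNA.map_conj [Finite G] {M : Subgroup G} {g : G} (h : SimpleNA M) :
    SimpleNA (M.map (MulAut.conj g).toMonoidHom) := by
  refine ⟨fun hb => h.1 ?_, fun N hN hn => ?_⟩
  · rw [← map_commutator] at hb
    exact (map_eq_bot_iff_of_injective _ (MulAut.conj g).injective).mp hb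
  · have hm : MinIn M M := ⟨le_rfl, fun hb => h.1 (by rw [hb, commutator_bot_left]), le_normalizer, h.2⟩
    exact (hm.map_conj (g := g)).2.2.2 N hN hn

section

variable [Finite G] (P : Pair H K L d) (hl : d ! ≤ 2 * (coreIn H L).relIndex H)
  (hl' : d ! ≤ 2 * (coreIn K L).relIndex K)
include P hl hl'

/-- The key structural step: with the first second core trivial, the two cores meet trivially. -/
lemma Pair.inf_eq_bot_of_left (g : G)
    (hAB : (coreIn H L).map (MulAut.conj g).toMonoidHom = coreIn K L)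
    (hA2 : coreIn H (coreIn H L ⊓ coreIn K L) = ⊥) : coreIn H L ⊓ coreIn K L = ⊥ := by
  classical
  have := Fintype.ofFinite (OffPt (L.subgroupOf H))
  have := Fintype.ofFinite (OffPt (L.subgroupOf K))
  obtain ⟨A, hA⟩ : ∃ A, A = coreIn H L := ⟨_, rfl⟩
  obtain ⟨B, hB⟩ : ∃ B, B = coreIn K L := ⟨_, rfl⟩
  rw [← hA, ← hB] at hAB hA2 ⊢
  have hAL : A ≤ L := hA ▸ coreIn_le_right H L
  have hBL : B ≤ L := hB ▸ coreIn_le_right K L
  have hAn : H ≤ normalizer (A : Set G) := hA ▸ le_normalizer_coreIn H L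
  have hBn : K ≤ normalizer (B : Set G) := hB ▸ le_normalizer_coreIn K L
  have hLX : L ≤ normalizer ((A ⊓ B : Subgroup G) : Set G) := hA ▸ hB ▸ P.nX
  have hcard : Nat.card B = Nat.card A := hAB ▸ card_map_of_injective (MulAut.conj g).injective
  by_contra hX
  have hAnB : ¬ A ≤ B := fun h => hX (le_bot_iff.mp (hA2 ▸
    le_coreIn (inf_le_left.trans (hAL.trans P.leH)) le_rfl (by rwa [inf_eq_left.mpr h])))
  have hBnA : ¬ B ≤ A := fun h => hAnB (eq_of_le_of_card_ge h hcard.ge).ge
  -- the images of `A` and `B`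
  have hAK : alternatingGroup (OffPt (L.subgroupOf K)) ≤ img P.leK A := by
    rcases P.symm.img_cases le_rfl hAL (P.symm.alt_le_top hl') (P.leH.trans hAn) with h | h
    · exact absurd (hB ▸ h) hAnB
    · exact h
  have hBH : alternatingGroup (OffPt (L.subgroupOf H)) ≤ img P.leH B := by
    rcases P.img_cases le_rfl hBL (P.alt_le_top hl) (P.leK.trans hBn) with h | h
    · exact absurd (hA ▸ h) hBnA
    · exact h
  have hcX : ∀ {M : Subgroup G}, MinIn M A → ¬ M ≤ B → ⁅M, A ⊓ B⁆ = ⊥ ∧ M ⊓ (A ⊓ B) = ⊥ ∧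
      alternatingGroup (OffPt (L.subgroupOf K)) ≤ img P.leK M := by
    intro M hM hMB
    have hn : A ≤ normalizer ((A ⊓ B : Subgroup G) : Set G) := hAL.trans hLX
    have h0 : M ⊓ (A ⊓ B) = ⊥ := by
      rcases hM.2.2.2 _ inf_le_left ((le_inf hM.2.2.1 hn).trans inf_normalizer_le_normalizer_inf) with h | h
      · exact h
      · exact absurd ((inf_eq_left.mp h).trans inf_le_right) hMB
    refine ⟨commute_of_inf (inf_le_left.trans hM.2.2.1) (hM.1.trans hn) h0, h0, ?_⟩
    rcases P.symm.img_cases hAL (hM.1.trans hAL) hAK hM.2.2.1 with h | h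
    · exact absurd (hB ▸ h) hMB
    · exact h
  have huniq : ∀ {M N : Subgroup G}, MinIn M A → MinIn N A → ¬ M ≤ B → ¬ N ≤ B → M = N := by
    intro M N hM hN hMB hNB
    by_contra hne
    exact P.symm.not_commute (hcX hM hMB).2.2 (hcX hN hNB).2.2
      (commute_of_inf (hN.1.trans hM.2.2.1) (hM.1.trans hN.2.2.1) (hM.inf_eq_bot hN hne))
  -- existence of the outside minimal normal subgroup
  have hshift : ∀ {N : Subgroup G}, MinIn N A → ∃ h ∈ H,
      MinIn (N.map (MulAut.conj h).toMonoidHom) A ∧ ¬ N.map (MulAut.conj h).toMonoidHom ≤ B := by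
    intro N hN
    by_contra! hc
    refine hN.2.1 (le_bot_iff.mp (hA2 ▸ ?_))
    intro x hx
    refine ⟨⟨x, P.leH (hAL (hN.1 hx))⟩, fun k => ?_, rfl⟩
    have hm : MinIn (N.map (MulAut.conj (k : G)).toMonoidHom) A := by
      have := hN.map_conj (g := (k : G))
      rwa [map_conj_eq (hAn k.2)] at this
    exact ⟨hm.1 ⟨x, hx, rfl⟩, hc _ k.2 hm ⟨x, hx, rfl⟩⟩
  have hA0 : A ≠ ⊥ := fun h => hX (by rw [h, bot_inf_eq])
  obtain ⟨N₀, hN₀, -⟩ := exists_minIn le_rfl hA0 le_normalizer
  obtain ⟨h₀, -, hM, hMB⟩ := hshift hN₀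
  obtain ⟨M, hMdef⟩ : ∃ M, M = N₀.map (MulAut.conj h₀).toMonoidHom := ⟨_, rfl⟩
  rw [← hMdef] at hM hMB
  obtain ⟨hMX, hM0, hMimg⟩ := hcX hM hMB
  -- `M` is nonabelian simple
  have hMsimp : SimpleNA M := by
    refine ⟨fun h => P.symm.not_commute hMimg hMimg h, fun N hN hn => ?_⟩
    obtain ⟨Q, hQ⟩ : ∃ Q, Q = ((alternatingGroup (OffPt (L.subgroupOf K))).comap (offHom P.leK)).map L.subtype :=
      ⟨_, rfl⟩
    have hQn : L ≤ normalizer (Q : Set G) := by
      rw [hQ, ← normal_subgroupOf_iff_le_normalizer (map_subtype_le _), subgroupOf,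
        comap_map_eq_self_of_injective (subtype_injective L)]
      exact Normal.comap inferInstance _
    have hMQ : img P.leK M ≤ alternatingGroup (OffPt (L.subgroupOf K)) := by
      rcases hM.2.2.2 (M ⊓ Q) inf_le_left
        ((le_inf hM.2.2.1 (hAL.trans hQn)).trans inf_normalizer_le_normalizer_inf) with h | h
      · exfalso
        refine AltPerm.alt_ne_bot P.symm.five_off (le_bot_iff.mp fun σ hσ => ?_)
        obtain ⟨y, hy, rfl⟩ := hMimg hσ
        have hmem : (y : G) ∈ M ⊓ Q := ⟨hy, hQ ▸ ⟨y, hσ, rfl⟩⟩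
        rw [h, mem_bot] at hmem
        rw [show y = 1 from Subtype.ext hmem, map_one]
        exact one_mem _
      · rintro _ ⟨y, hy, rfl⟩
        have h' : (y : G) ∈ Q := (inf_eq_left.mp h) hy
        rw [hQ] at h'
        obtain ⟨z, hz, hzy⟩ := h'
        rw [← show z = y from Subtype.ext hzy]
        exact hz
    rcases P.symm.img_cases (hM.1.trans hAL) ((hN.trans hM.1).trans hAL) hMimg hn with h | h
    · left
      rw [eq_bot_iff, ← hM0]
      exact le_inf hN (le_inf (hN.trans hM.1) (hB ▸ h))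
    · right
      refine le_antisymm hN fun x hx => ?_
      obtain ⟨y, hy, hyx⟩ := h (hMQ ⟨⟨x, hAL (hM.1 hx)⟩, hx, rfl⟩)
      have hk : y⁻¹ * ⟨x, hAL (hM.1 hx)⟩ ∈ (offHom P.leK).ker := by
        rw [MonoidHom.mem_ker, map_mul, map_inv, hyx, inv_mul_cancel]
      rw [offHom_ker, ← hB, mem_subgroupOf] at hk
      have hm : (y : G)⁻¹ * x ∈ M := M.mul_mem (M.inv_mem (hN hy)) hx
      have h0 : (y : G)⁻¹ * x = 1 := by
        rw [← mem_bot, ← hM0]
        exact ⟨hm, hM.1 hm, hk⟩
      exact (inv_mul_eq_one.mp h0) ▸ hy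
  have hsimp : ∀ {N : Subgroup G}, MinIn N A → SimpleNA N := by
    intro N hN
    obtain ⟨h, -, hN', hNB⟩ := hshift hN
    have he := huniq hM hN' hMB hNB
    have := (he ▸ hMsimp : SimpleNA _).map_conj (g := h⁻¹)
    rwa [Subgroup.map_map, show ((MulAut.conj h⁻¹).toMonoidHom.comp (MulAut.conj h).toMonoidHom) = MonoidHom.id G
      from MonoidHom.ext fun x => by simp [mul_assoc], Subgroup.map_id] at this
  have hinv : A = B.map (MulAut.conj g⁻¹).toMonoidHom := by
    rw [← hAB, Subgroup.map_map, show ((MulAut.conj g⁻¹).toMonoidHom.comp (MulAut.conj g).toMonoidHom) = MonoidHom.id G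
      from MonoidHom.ext fun x => by simp [mul_assoc], Subgroup.map_id]
  have hsimpB : ∀ {N : Subgroup G}, MinIn N B → SimpleNA N := by
    intro N hN
    have h1 := hN.map_conj (g := g⁻¹)
    rw [← hinv] at h1
    have h2 := (hsimp h1).map_conj (g := g)
    rwa [Subgroup.map_map, show ((MulAut.conj g).toMonoidHom.comp (MulAut.conj g⁻¹).toMonoidHom) = MonoidHom.id G
      from MonoidHom.ext fun x => by simp [mul_assoc], Subgroup.map_id] at h2
  -- minimal normal subgroups of `B` inside `A` are minimal normal in `A`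
  have hin : ∀ {N' : Subgroup G}, MinIn N' B → N' ≤ A → MinIn N' A := by
    intro N' hN' hN'A
    by_contra hc
    have hdis : ∀ {N : Subgroup G}, MinIn N A → ⁅N', N⁆ = ⊥ := by
      intro N hN
      by_cases hNB : N ≤ B
      · have h1 : N ⊓ N' = ⊥ := by
          rcases (hsimp hN).2 (N ⊓ N') inf_le_left ((le_inf le_normalizer (hNB.trans hN'.2.2.1)).trans
            inf_normalizer_le_normalizer_inf) with h | h
          · exact h
          rcases (hsimpB hN').2 (N ⊓ N') inf_le_right ((le_inf (hN'A.trans hN.2.2.1) le_normalizer).trans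
            inf_normalizer_le_normalizer_inf) with h' | h'
          · exact h'
          exact absurd ((h.symm.trans h') ▸ hN) hc
        rw [commutator_comm]
        exact commute_of_inf (hN'A.trans hN.2.2.1) (hNB.trans hN'.2.2.1) h1
      · rw [commutator_comm, eq_bot_iff, ← (hcX hN hNB).1]
        exact commutator_mono le_rfl (le_inf hN'A hN'.1)
    obtain ⟨J, hJ⟩ : ∃ J : Subgroup G, J = ⨆ N : {N : Subgroup G // MinIn N A}, N.1 := ⟨_, rfl⟩
    have hJn : A ≤ normalizer (J : Set G) := by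
      intro a ha
      have hle : J.map (MulAut.conj a).toMonoidHom ≤ J := by
        rw [hJ, Subgroup.map_iSup]
        exact iSup_mono fun N => (map_conj_eq (N.2.2.2.1 ha)).le
      have heq := eq_of_le_of_card_ge hle (card_map_of_injective (MulAut.conj a).injective).ge
      rw [mem_normalizer_iff]
      intro x
      refine ⟨fun hx => hle ⟨x, hx, rfl⟩, fun hx => ?_⟩
      rw [← heq] at hx
      obtain ⟨y, hy, he⟩ := hx
      simp only [MulEquiv.toMonoidHom_eq_coe, MonoidHom.coe_coe, MulAut.conj_apply, mul_left_inj, mul_right_inj] at he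
      exact he ▸ hy
    have hZ : N' ≤ A ⊓ centralizer (J : Set G) := by
      refine le_inf hN'A ?_
      rw [le_centralizer_iff, hJ]
      exact iSup_le fun N => by
        rw [← commutator_eq_bot_iff_le_centralizer, commutator_comm]
        exact hdis N.2
    obtain ⟨N, hN, hNZ⟩ := exists_minIn (A := A) (C := A ⊓ centralizer (J : Set G)) inf_le_left
      (fun h => hN'.2.1 (le_bot_iff.mp (h ▸ hZ)))
      ((le_inf le_normalizer (le_normalizer_centralizer hJn)).trans inf_normalizer_le_normalizer_inf)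
    refine (hsimp hN).1 (commutator_eq_bot_iff_le_centralizer.mpr ((hNZ.trans inf_le_right).trans
      (centralizer_le (SetLike.coe_subset_coe.mpr ?_))))
    rw [hJ]
    exact le_iSup (fun N : {N : Subgroup G // MinIn N A} => N.1) ⟨N, hN⟩
  -- some minimal normal subgroup of `B` is outside `A`
  obtain ⟨N', hN', hN'A⟩ : ∃ N', MinIn N' B ∧ ¬ N' ≤ A := by
    by_contra! hc
    let SA := {N : Subgroup G | MinIn N A}
    have hsub : (fun N : Subgroup G => N.map (MulAut.conj g).toMonoidHom) '' SA ⊆ SA \ {M} := by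
      rintro _ ⟨N, hN, rfl⟩
      have h1 : MinIn (N.map (MulAut.conj g).toMonoidHom) B := hAB ▸ hN.map_conj
      refine ⟨hin h1 (hc _ h1), fun h => hMB ?_⟩
      rw [← Set.mem_singleton_iff.mp h]
      exact h1.1
    have h2 := Set.ncard_le_ncard hsub (Set.toFinite _)
    rw [Set.ncard_image_of_injective _ (map_injective (MulAut.conj g).injective)] at h2
    exact absurd h2 (not_le.mpr (Set.ncard_diff_singleton_lt_of_mem hM (Set.toFinite _)))
  have hN'X : ⁅N', A ⊓ B⁆ = ⊥ := by
    have hn : B ≤ normalizer ((A ⊓ B : Subgroup G) : Set G) := hBL.trans hLX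
    refine commute_of_inf (inf_le_right.trans hN'.2.2.1) (hN'.1.trans hn) ?_
    rcases hN'.2.2.2 _ inf_le_left ((le_inf hN'.2.2.1 hn).trans inf_normalizer_le_normalizer_inf) with h | h
    · exact h
    · exact absurd ((inf_eq_left.mp h).trans inf_le_left) hN'A
  have hN'img : alternatingGroup (OffPt (L.subgroupOf H)) ≤ img P.leH N' := by
    rcases P.img_cases hBL (hN'.1.trans hBL) hBH hN'.2.2.1 with h | h
    · exact absurd (hA ▸ h) hN'A
    · exact h
  -- the normalizer of `M` in `H`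
  have hLM : L ≤ normalizer (M : Set G) := by
    intro l hl
    have hm : MinIn (M.map (MulAut.conj l).toMonoidHom) A := by
      have := hM.map_conj (g := l)
      rwa [map_conj_eq (hAn (P.leH hl))] at this
    have hnb : ¬ M.map (MulAut.conj l).toMonoidHom ≤ B := by
      intro hle
      rw [← map_conj_eq (hBn (P.leK hl))] at hle
      exact hMB ((map_le_map_iff_of_injective (MulAut.conj l).injective).mp hle)
    have he := huniq hM hm hMB hnb
    rw [mem_normalizer_iff]
    intro x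
    refine ⟨fun hx => he ▸ ⟨x, hx, rfl⟩, fun hx => ?_⟩
    rw [he] at hx
    obtain ⟨y, hy, hyx⟩ := hx
    simp only [MulEquiv.toMonoidHom_eq_coe, MonoidHom.coe_coe, MulAut.conj_apply, mul_left_inj, mul_right_inj] at hyx
    exact hyx ▸ hy
  have hNH : ∀ {h : G}, h ∈ H → h ∈ normalizer (M : Set G) → h ∈ L := by
    intro h hh hn
    by_contra hhL
    have hHM : H ≤ normalizer (M : Set G) := by
      rw [← P.maximal hl (T := H ⊓ normalizer (M : Set G)) (le_inf P.leH hLM) inf_le_left ⟨hh, hn⟩ hhL]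
      exact inf_le_right
    have hC : A ⊓ centralizer (M : Set G) ≤ B := by
      rcases P.symm.img_cases hAL (inf_le_left.trans hAL) hAK (N := A ⊓ centralizer (M : Set G))
        ((le_inf le_normalizer (le_normalizer_centralizer hM.2.2.1)).trans inf_normalizer_le_normalizer_inf)
        with h | h
      · exact hB ▸ h
      · exact (P.symm.not_commute h hMimg (le_bot_iff.mp ((commutator_mono inf_le_right le_rfl).trans
          (commutator_eq_bot_iff_le_centralizer.mpr le_rfl).le))).elim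
    have hXC : A ⊓ centralizer (M : Set G) = A ⊓ B := by
      refine le_antisymm (le_inf inf_le_left hC) (le_inf inf_le_left ?_)
      rw [← commutator_eq_bot_iff_le_centralizer, commutator_comm]
      exact hMX
    refine hX (le_bot_iff.mp (hA2 ▸ le_coreIn (inf_le_left.trans (hAL.trans P.leH)) le_rfl ?_))
    rw [← hXC]
    exact (le_inf hAn (le_normalizer_centralizer hHM)).trans inf_normalizer_le_normalizer_inf
  obtain ⟨x⟩ : Nonempty (OffPt (L.subgroupOf H)) := (Nat.card_pos_iff.mp (by have := P.five_off; omega)).1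
  obtain ⟨σ, hσ, hσx⟩ := AltPerm.exists_alt_smul P.five_off x
  obtain ⟨w, hw, rfl⟩ := hN'img hσ
  obtain ⟨h, hhx⟩ := QuotientGroup.mk_surjective x.1
  have hhL : (h : G) ∉ L := by
    intro hmem
    refine x.2 ?_
    rw [← hhx, QuotientGroup.eq]
    simpa [mem_subgroupOf] using hmem
  have hmh : MinIn (M.map (MulAut.conj (h : G)).toMonoidHom) A := by
    have := hM.map_conj (g := (h : G))
    rwa [map_conj_eq (hAn h.2)] at this
  have hle : M.map (MulAut.conj (h : G)).toMonoidHom ≤ B := by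
    by_contra hnb
    have he := huniq hM hmh hMB hnb
    refine hhL (hNH h.2 ?_)
    rw [mem_normalizer_iff]
    intro y
    refine ⟨fun hy => he ▸ ⟨y, hy, rfl⟩, fun hy => ?_⟩
    rw [he] at hy
    obtain ⟨z, hz, hzy⟩ := hy
    simp only [MulEquiv.toMonoidHom_eq_coe, MonoidHom.coe_coe, MulAut.conj_apply, mul_left_inj, mul_right_inj] at hzy
    exact hzy ▸ hz
  have hcomm : ∀ m ∈ M, (w : G) * ((h : G) * m * (h : G)⁻¹) = (h : G) * m * (h : G)⁻¹ * w := by
    intro m hm
    have hc := commutator_eq_bot_iff_le_centralizer.mp hN'X hw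
    exact (mem_centralizer_iff.mp hc _ ⟨hmh.1 ⟨m, hm, rfl⟩, hle ⟨m, hm, rfl⟩⟩).symm
  have hk : (h : G)⁻¹ * w * (h : G) ∈ L := by
    refine hNH (H.mul_mem (H.mul_mem (H.inv_mem h.2) (P.leH w.2)) h.2) ?_
    have hc : ∀ m ∈ M, ((h : G)⁻¹ * w * h) * m * ((h : G)⁻¹ * w * h)⁻¹ = m := by
      intro m hm
      calc ((h : G)⁻¹ * w * h) * m * ((h : G)⁻¹ * w * h)⁻¹
          = (h : G)⁻¹ * (w * ((h : G) * m * (h : G)⁻¹)) * (w : G)⁻¹ * h := by group
        _ = (h : G)⁻¹ * ((h : G) * m * (h : G)⁻¹ * w) * (w : G)⁻¹ * h := by rw [hcomm m hm]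
        _ = m := by group
    rw [mem_normalizer_iff]
    intro m
    refine ⟨fun hm => by rw [hc m hm]; exact hm, fun hm => ?_⟩
    have h1 := hc _ hm
    have : m = ((h : G)⁻¹ * w * h) * m * ((h : G)⁻¹ * w * h)⁻¹ := (mul_left_cancel (mul_right_cancel h1)).symm
    rw [this]
    exact hm
  refine hσx (Subtype.ext ?_)
  show (⟨(w : G), P.leH w.2⟩ : H) • x.1 = x.1
  rw [← hhx, MulAction.Quotient.smul_mk, smul_eq_mul, QuotientGroup.eq, mem_subgroupOf]
  have h2 := L.inv_mem hk
  simpa [mul_assoc] using h2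

lemma Pair.inf_eq_bot (g : G) (hconj : (coreIn H L).map (MulAut.conj g).toMonoidHom = coreIn K L) :
    coreIn H L ⊓ coreIn K L = ⊥ := by
  rcases P.hcases with h | h
  · exact P.inf_eq_bot_of_left hl hl' g hconj h
  · have hconj' : (coreIn K L).map (MulAut.conj g⁻¹).toMonoidHom = coreIn H L := by
      rw [← hconj, Subgroup.map_map, show ((MulAut.conj g⁻¹).toMonoidHom.comp (MulAut.conj g).toMonoidHom)
        = MonoidHom.id G from MonoidHom.ext fun x => by simp [mul_assoc], Subgroup.map_id]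
    rw [inf_comm]
    exact P.symm.inf_eq_bot_of_left hl' hl g⁻¹ hconj' (by rwa [inf_comm])

end

end CfsgLib.Recognition.AltSub
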