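import Cfsg.Agent.Lib.Recognition.WielandtBound
import Cfsg.Agent.Lib.Recognition.AltPerm

/-!
# Primitive groups with an unfaithful alternating or symmetric subconstituent
-/

set_option autoImplicit false

namespace CfsgLib.Recognition.AltSub

open Subgroup CfsgLib.Maximal.TW Equiv
open scoped Nat commutatorElement

/-- The cosets of `S` other than `S` itself. -/
abbrev OffPt {Γ : Type*} [Group Γ] (S : Subgroup Γ) := {x : Γ ⧸ S // x ≠ ((1 : Γ) : Γ ⧸ S)}

lemma smul_one_eq {Γ : Type*} [Group Γ] (S : Subgroup Γ) (s : S) :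
    (s : Γ) • ((1 : Γ) : Γ ⧸ S) = ((1 : Γ) : Γ ⧸ S) := by
  rw [MulAction.Quotient.smul_mk, smul_eq_mul, mul_one, QuotientGroup.eq]
  simp

/-- The permutations induced by `S` on the cosets other than `S`. -/
def stabHom {Γ : Type*} [Group Γ] (S : Subgroup Γ) : S →* Perm (OffPt S) :=
  MonoidHom.mk' (fun s => (MulAction.toPermHom Γ (Γ ⧸ S) (s : Γ)).subtypePerm fun x => by
      show (s : Γ) • x ≠ _ ↔ x ≠ _
      refine not_congr ⟨fun h => smul_left_cancel (s : Γ) (h.trans (smul_one_eq S s).symm), fun h => ?_⟩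
      rw [h]; exact smul_one_eq S s)
    fun s t => Equiv.ext fun x => Subtype.ext (mul_smul (s : Γ) (t : Γ) x.1)

lemma stabHom_ker {Γ : Type*} [Group Γ] (S : Subgroup Γ) :
    (stabHom S).ker = S.normalCore.subgroupOf S := by
  ext s
  rw [MonoidHom.mem_ker, mem_subgroupOf, normalCore_eq_ker, MonoidHom.mem_ker]
  constructor
  · intro h
    ext x
    by_cases hx : x = ((1 : Γ) : Γ ⧸ S)
    · subst hx; simpa using smul_one_eq S s
    · exact congrArg Subtype.val (congrArg (fun σ : Perm (OffPt S) => σ ⟨x, hx⟩) h)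
  · intro h
    ext x
    exact congrArg (fun σ : Perm (Γ ⧸ S) => σ x.1) h

lemma card_offPt {Γ : Type*} [Group Γ] [Finite Γ] (S : Subgroup Γ) :
    Nat.card (OffPt S) = S.index - 1 := by
  classical
  have := Fintype.ofFinite (Γ ⧸ S)
  rw [index_eq_card, Nat.card_eq_fintype_card, Nat.card_eq_fintype_card, Fintype.card_subtype_compl,
    Fintype.card_subtype_eq]

variable {G : Type*} [Group G]

lemma relIndex_dvd_relIndex {N U A : Subgroup G} (hUA : U ≤ A) (hn : A ≤ normalizer (N : Set G)) :
    N.relIndex U ∣ N.relIndex A := by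
  have hnn : (N.subgroupOf A).Normal := by
    refine ⟨fun x hx a => ?_⟩
    exact (mem_normalizer_iff.mp (hn a.2) x.1).mp hx
  have h := relIndex_dvd_index_of_normal (N.subgroupOf A) (U.subgroupOf A)
  rw [subgroupOf, subgroupOf, relIndex_comap, map_comap_eq_self (by rwa [range_subtype])] at h
  exact h

lemma map_conj_eq {A : Subgroup G} [Finite G] {h : G} (hn : h ∈ normalizer (A : Set G)) :
    A.map (MulAut.conj h).toMonoidHom = A := by
  refine eq_of_le_of_card_ge ?_ (card_map_of_injective (MulAut.conj h).injective).ge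
  rintro _ ⟨y, hy, rfl⟩
  exact (mem_normalizer_iff.mp hn y).mp hy

lemma normalizer_conj_le {M A : Subgroup G} [Finite G] {h : G} (hn : A ≤ normalizer (M : Set G))
    (hA : h ∈ normalizer (A : Set G)) :
    A ≤ normalizer ((M.map (MulAut.conj h).toMonoidHom : Subgroup G) : Set G) := by
  intro x hx
  rw [← map_conj_eq hA] at hx
  obtain ⟨y, hy, rfl⟩ := hx
  exact le_normalizer_map _ ⟨y, hn hy, rfl⟩

/-- The data of two conjugate maximal subgroups `H`, `K` meeting in `L`, with its two cores. -/
structure Pair (H K L : Subgroup G) (d : ℕ) : Prop where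
  hmax : IsCoatom H
  hcore : H.normalCore = ⊥
  hmax' : IsCoatom K
  hcore' : K.normalCore = ⊥
  hne : H ≠ K
  hL : L = H ⊓ K
  h6 : 6 ≤ d
  hd : L.relIndex H = d
  hd' : L.relIndex K = d
  hcases : coreIn H (coreIn H L ⊓ coreIn K L) = ⊥ ∨ coreIn K (coreIn H L ⊓ coreIn K L) = ⊥

variable {H K L : Subgroup G} {d : ℕ}

lemma Pair.symm (P : Pair H K L d) : Pair K H L d :=
  ⟨P.hmax', P.hcore', P.hmax, P.hcore, P.hne.symm, P.hL.trans (inf_comm _ _), P.h6, P.hd', P.hd,
    by rw [inf_comm (coreIn K L)]; exact P.hcases.symm⟩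

lemma Pair.leH (P : Pair H K L d) : L ≤ H := P.hL.le.trans inf_le_left

lemma Pair.leK (P : Pair H K L d) : L ≤ K := P.hL.le.trans inf_le_right

lemma Pair.nX (P : Pair H K L d) :
    L ≤ normalizer ((coreIn H L ⊓ coreIn K L : Subgroup G) : Set G) :=
  (le_inf (P.leH.trans (le_normalizer_coreIn _ _)) (P.leK.trans (le_normalizer_coreIn _ _))).trans
    inf_normalizer_le_normalizer_inf

lemma Pair.relX [Finite G] (P : Pair H K L d) :
    (coreIn H L ⊓ coreIn K L).relIndex (coreIn H L) ∣ (d - 1)! := by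
  rw [inf_relIndex_left]
  refine (relIndex_dvd_relIndex (coreIn_le_right H L) (P.leK.trans (le_normalizer_coreIn K L))).trans ?_
  have h1 : (coreIn K L).relIndex K ∣ d ! := by
    have h : ((coreIn K L).subgroupOf K).index ∣ d ! := by
      rw [coreIn, subgroupOf, comap_map_eq_self_of_injective (subtype_injective K)]
      exact P.hd' ▸ WielandtBound.normalCore_index_dvd (L.subgroupOf K)
    exact h
  rw [← relIndex_mul_relIndex _ L K (coreIn_le_right _ _) P.leK, P.hd', mul_comm,
    ← Nat.mul_factorial_pred (by have := P.h6; omega : d ≠ 0)] at h1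
  exact Nat.dvd_of_mul_dvd_mul_left (by have := P.h6; omega) h1

lemma factorial_pred_lt (h : 3 ≤ d) : 2 * (d - 1)! < d ! := by
  rw [← Nat.mul_factorial_pred (by omega : d ≠ 0)]
  exact Nat.mul_lt_mul_of_pos_right (by omega) (Nat.factorial_pos _)

/-- The second core of the pair cannot have a big alternating section. -/
lemma Pair.no_big [Finite G] (P : Pair H K L d) {α : Type*} [Fintype α] [DecidableEq α]
    (hα : Nat.card α = d) (θ : ↥(coreIn K L) →* Perm α) : ¬ alternatingGroup α ≤ θ.range := by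
  intro hθ
  have := Fintype.ofFinite G
  have := Fintype.ofFinite H
  have := Fintype.ofFinite K
  have h5 : 5 ≤ Nat.card α := by have := P.h6; omega
  have hlt := factorial_pred_lt (d := d) (by have := P.h6; omega)
  have hU : alternatingGroup α ≤ (⊤ : Subgroup (coreIn K L)).map θ := by rw [← MonoidHom.range_eq_map]; exact hθ
  have hXA : (coreIn H L ⊓ coreIn K L).relIndex (coreIn H L) ∣ (d - 1)! := P.relX
  have hXB : (coreIn H L ⊓ coreIn K L).relIndex (coreIn K L) ∣ (d - 1)! := by
    have := P.symm.relX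
    rwa [inf_comm] at this
  have bound : ∀ {a : ℕ}, a ∣ (d - 1)! → 2 * a < (Nat.card α)! := fun h => by
    rw [hα]; exact lt_of_le_of_lt (Nat.mul_le_mul_left 2 (Nat.le_of_dvd (Nat.factorial_pos _) h)) hlt
  rcases P.hcases with hA2 | hB2
  · have hXn : (((coreIn H L ⊓ coreIn K L).subgroupOf (coreIn K L))).Normal :=
      (normal_subgroupOf_iff_le_normalizer inf_le_right).mpr ((coreIn_le_right K L).trans P.nX)
    rcases AltPerm.image_cases θ h5 hU (N := (coreIn H L ⊓ coreIn K L).subgroupOf (coreIn K L)) (by rw [normalizer_eq_top_iff.mpr hXn]) with h | h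
    · have h1 : θ.ker.relIndex ⊤ ∣ ((coreIn H L ⊓ coreIn K L).subgroupOf (coreIn K L)).relIndex ⊤ := relIndex_dvd_of_le_left _ h
      rw [relIndex_ker, relIndex_top_right] at h1
      have h2 := Subgroup.card_le_of_le hU
      have h3 := Nat.le_of_dvd (Nat.factorial_pos _) (h1.trans hXB)
      have h4 := AltPerm.card_alt h5
      rw [hα] at h4
      omega
    · refine (AltPerm.exists_large_index θ h5 h
        (fun i : H => ((coreIn H L ⊓ coreIn K L).map (MulAut.conj (i : G)).toMonoidHom).subgroupOf (coreIn K L)) ?_ ?_).elim fun i hi => ?_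
      rotate_left 2
      · refine absurd hi (not_le.mpr (bound ?_))
        rw [subgroupOf, subgroupOf, relIndex_comap, map_comap_eq_self (by rw [range_subtype]; exact inf_le_right)]
        refine (relIndex_dvd_relIndex inf_le_left (normalizer_conj_le ((coreIn_le_right H L).trans P.nX)
          (le_normalizer_coreIn H L i.2))).trans ?_
        have e := relIndex_map_map_of_injective (coreIn H L ⊓ coreIn K L) (coreIn H L)
          (f := (MulAut.conj (i : G)).toMonoidHom) (MulAut.conj (i : G)).injective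
        rw [map_conj_eq (le_normalizer_coreIn H L i.2)] at e
        rw [e]
        exact hXA
      · intro i x hx
        rw [mem_normalizer_iff]
        intro y
        exact mem_normalizer_iff.mp (normalizer_conj_le ((coreIn_le_right H L).trans P.nX)
          (le_normalizer_coreIn H L i.2) (show (x : G) ∈ (coreIn H L) from (show (x : G) ∈ (coreIn H L ⊓ coreIn K L) from hx).1)) (y : G)
      · intro x hx
        have hmem : ∀ i ∈ H, (x : G) ∈ (coreIn H L ⊓ coreIn K L).map (MulAut.conj i).toMonoidHom := fun i hi =>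
          (Subgroup.mem_iInf.mp hx.2 ⟨i, hi⟩ :)
        have hx' : (x : G) ∈ coreIn H (coreIn H L ⊓ coreIn K L) := by
          have hxH : (x : G) ∈ H := P.leH (coreIn_le_right H L (show (x : G) ∈ (coreIn H L ⊓ coreIn K L) from hx.1).1)
          refine ⟨⟨x, hxH⟩, fun h => ?_, rfl⟩
          obtain ⟨y, hy, hyx⟩ := hmem (h⁻¹ : H) (h⁻¹).2
          replace hyx : (h : G)⁻¹ * y * (h : G)⁻¹⁻¹ = x := hyx
          show (h : G) * (x : G) * (h : G)⁻¹ ∈ (coreIn H L ⊓ coreIn K L)
          rw [← hyx]
          simpa [mul_assoc] using hy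
        rw [hA2, mem_bot] at hx'
        rw [show x = 1 from Subtype.ext hx']
        exact θ.ker.one_mem
  · refine (AltPerm.exists_large_index θ h5 hU
      (fun i : K => ((coreIn H L ⊓ coreIn K L).map (MulAut.conj (i : G)).toMonoidHom).subgroupOf (coreIn K L)) ?_ ?_).elim fun i hi => ?_
    rotate_left 2
    · refine absurd hi (not_le.mpr (bound ?_))
      rw [relIndex_top_right]
      show ((coreIn H L ⊓ coreIn K L).map _).relIndex (coreIn K L) ∣ _
      have e := relIndex_map_map_of_injective (coreIn H L ⊓ coreIn K L) (coreIn K L)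
        (f := (MulAut.conj (i : G)).toMonoidHom) (MulAut.conj (i : G)).injective
      rw [map_conj_eq (le_normalizer_coreIn K L i.2)] at e
      rw [e]
      exact hXB
    · intro i x _
      rw [mem_normalizer_iff]
      intro y
      exact mem_normalizer_iff.mp (normalizer_conj_le ((coreIn_le_right K L).trans P.nX)
        (le_normalizer_coreIn K L i.2) x.2) (y : G)
    · intro x hx
      have hmem : ∀ i ∈ K, (x : G) ∈ (coreIn H L ⊓ coreIn K L).map (MulAut.conj i).toMonoidHom := fun i hi =>
        (Subgroup.mem_iInf.mp hx.2 ⟨i, hi⟩ :)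
      have hx' : (x : G) ∈ coreIn K (coreIn H L ⊓ coreIn K L) := by
        refine ⟨⟨x, coreIn_le_left K L x.2⟩, fun h => ?_, rfl⟩
        obtain ⟨y, hy, hyx⟩ := hmem (h⁻¹ : K) (h⁻¹).2
        replace hyx : (h : G)⁻¹ * y * (h : G)⁻¹⁻¹ = x := hyx
        show (h : G) * (x : G) * (h : G)⁻¹ ∈ (coreIn H L ⊓ coreIn K L)
        rw [← hyx]
        simpa [mul_assoc] using hy
      rw [hB2, mem_bot] at hx'
      rw [show x = 1 from Subtype.ext hx']
      exact θ.ker.one_mem

lemma coreIn_subgroupOf (H L : Subgroup G) : (coreIn H L).subgroupOf H = (L.subgroupOf H).normalCore :=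
  comap_map_eq_self_of_injective (subtype_injective H) _

/-- If `H` induces at least the alternating group on the cosets of `L`, the conjugate back of the
core in `K` is inside the core in `H`. -/
lemma Pair.conj_core_le [Finite G] (P : Pair H K L d) (g : G) (hg : K.map (MulAut.conj g).toMonoidHom = H)
    (hlarge : d ! ≤ 2 * (coreIn H L).relIndex H) :
    (coreIn K L).map (MulAut.conj g).toMonoidHom ≤ coreIn H L := by
  classical
  have := Fintype.ofFinite (H ⧸ L.subgroupOf H)
  set B := coreIn K L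
  set B' := B.map (MulAut.conj g).toMonoidHom with hB'
  have hBH : B' ≤ H := hg ▸ map_mono (coreIn_le_left K L)
  have hBn : H ≤ normalizer (B' : Set G) := hg ▸ (map_mono (le_normalizer_coreIn K L)).trans (le_normalizer_map _)
  have hα : Nat.card (H ⧸ L.subgroupOf H) = d := by rw [← index_eq_card]; exact P.hd
  set π := MulAction.toPermHom H (H ⧸ L.subgroupOf H) with hπ
  have hker : π.ker = (coreIn H L).subgroupOf H := by rw [coreIn_subgroupOf, normalCore_eq_ker]
  have h5 : 5 ≤ Nat.card (H ⧸ L.subgroupOf H) := by have := P.h6; omega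
  have hr : π.range.index ≤ 2 := AltPerm.range_of_large h5 π (by rw [hα, hker]; exact hlarge)
  have hU : alternatingGroup (H ⧸ L.subgroupOf H) ≤ (⊤ : Subgroup H).map π := by
    rw [← MonoidHom.range_eq_map]
    exact Perm.alternatingGroup_le_of_index_le_two hr
  have hn : (⊤ : Subgroup H) ≤ normalizer ((B'.subgroupOf H : Subgroup H) : Set H) := by
    rw [normalizer_eq_top_iff.mpr ((normal_subgroupOf_iff_le_normalizer hBH).mpr hBn)]
  rcases AltPerm.image_cases π h5 hU hn with h | h
  · intro x hx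
    have : (⟨x, hBH hx⟩ : H) ∈ π.ker := h hx
    rw [hker] at this
    exact this
  · let f : B →* H := MonoidHom.codRestrict ((MulAut.conj g).toMonoidHom.comp B.subtype) H
      fun b => hBH ⟨b, b.2, rfl⟩
    refine absurd ?_ (P.no_big hα (π.comp f))
    refine h.trans ?_
    rintro _ ⟨y, hy, rfl⟩
    obtain ⟨b, hb, hby⟩ := (hy : (y : G) ∈ B')
    exact ⟨⟨b, hb⟩, by simp only [MonoidHom.comp_apply]; exact congrArg π (Subtype.ext hby)⟩

/-- The permutations induced by `L` on the cosets of `L` in `H` other than itself. -/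
def offHom (h : L ≤ H) : L →* Perm (OffPt (L.subgroupOf H)) :=
  (stabHom (L.subgroupOf H)).comp (subgroupOfEquivOfLe h).symm.toMonoidHom

lemma offHom_ker (h : L ≤ H) : (offHom h).ker = (coreIn H L).subgroupOf L := by
  ext x
  rw [offHom, MonoidHom.mem_ker, MonoidHom.comp_apply, ← MonoidHom.mem_ker, stabHom_ker,
    ← coreIn_subgroupOf, mem_subgroupOf, mem_subgroupOf, mem_subgroupOf]
  rfl

/-- The image of a subgroup `N ≤ L` on the cosets of `L` in `H` other than itself. -/
def img (h : L ≤ H) (N : Subgroup G) : Subgroup (Perm (OffPt (L.subgroupOf H))) :=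
  (N.subgroupOf L).map (offHom h)

section Big

variable [Finite G] (P : Pair H K L d) (hl : d ! ≤ 2 * (coreIn H L).relIndex H)
include P

lemma Pair.card_off : Nat.card (OffPt (L.subgroupOf H)) = d - 1 := by
  rw [card_offPt]; exact congrArg (· - 1) P.hd

lemma Pair.five_off : 5 ≤ Nat.card (OffPt (L.subgroupOf H)) := by
  rw [P.card_off]; have := P.h6; omega

include hl

lemma Pair.alt_le_top [Fintype (OffPt (L.subgroupOf H))] [DecidableEq (OffPt (L.subgroupOf H))] :
    alternatingGroup (OffPt (L.subgroupOf H)) ≤ img P.leH L := by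
  rw [img, subgroupOf_self, ← MonoidHom.range_eq_map]
  refine Perm.alternatingGroup_le_of_index_le_two (AltPerm.range_of_large P.five_off _ ?_)
  rw [offHom_ker, P.card_off]
  have h1 := relIndex_mul_relIndex (coreIn H L) L H (coreIn_le_right _ _) P.leH
  rw [P.hd] at h1
  rw [← h1, ← Nat.mul_factorial_pred (by have := P.h6; omega : d ≠ 0), mul_comm _ d,
    mul_left_comm 2 d] at hl
  exact Nat.le_of_mul_le_mul_left hl (by have := P.h6; omega)

omit hl in
lemma Pair.img_cases [Fintype (OffPt (L.subgroupOf H))] [DecidableEq (OffPt (L.subgroupOf H))]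
    {U N : Subgroup G} (hUL : U ≤ L) (hNL : N ≤ L)
    (hU : alternatingGroup (OffPt (L.subgroupOf H)) ≤ img P.leH U) (hn : U ≤ normalizer (N : Set G)) :
    N ≤ coreIn H L ∨ alternatingGroup (OffPt (L.subgroupOf H)) ≤ img P.leH N := by
  rcases AltPerm.image_cases (offHom P.leH) P.five_off hU (N := N.subgroupOf L) (by
    intro u hu
    rw [mem_normalizer_iff]
    intro x
    exact mem_normalizer_iff.mp (hn hu) x.1) with h | h
  · left
    intro x hx
    have : (⟨x, hNL hx⟩ : L) ∈ (offHom P.leH).ker := h hx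
    rwa [offHom_ker] at this
  · exact Or.inr h

omit hl in
lemma Pair.not_commute [Fintype (OffPt (L.subgroupOf H))] [DecidableEq (OffPt (L.subgroupOf H))]
    {U V : Subgroup G}
    (hU : alternatingGroup (OffPt (L.subgroupOf H)) ≤ img P.leH U)
    (hV : alternatingGroup (OffPt (L.subgroupOf H)) ≤ img P.leH V) (h : ⁅U, V⁆ = ⊥) : False := by
  refine AltPerm.not_commute P.five_off hU hV ?_
  rw [img, img, ← map_commutator]
  refine (Subgroup.map_eq_bot_iff _).mpr (le_trans ?_ bot_le)
  rw [commutator_le]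
  intro x hx y hy
  have := commutator_le.mp h.le _ (show (x : G) ∈ U from hx) _ (show (y : G) ∈ V from hy)
  exact Subtype.ext (mem_bot.mp this)

/-- `L` is maximal in `H`. -/
lemma Pair.maximal {T : Subgroup G} (hLT : L ≤ T) (hTH : T ≤ H) {h : G} (hT : h ∈ T) (hh : h ∉ L) :
    T = H := by
  classical
  have := Fintype.ofFinite (OffPt (L.subgroupOf H))
  refine le_antisymm hTH fun q hq => ?_
  by_cases hqL : q ∈ L
  · exact hLT hqL
  have hh1 : ((⟨h, hTH hT⟩ : H) : H ⧸ L.subgroupOf H) ≠ ((1 : H) : H ⧸ L.subgroupOf H) := by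
    rw [Ne, QuotientGroup.eq]; simpa [mem_subgroupOf] using hh
  have hq1 : ((⟨q, hq⟩ : H) : H ⧸ L.subgroupOf H) ≠ ((1 : H) : H ⧸ L.subgroupOf H) := by
    rw [Ne, QuotientGroup.eq]; simpa [mem_subgroupOf] using hqL
  have hpre := alternatingGroup.isPretransitive_of_three_le_card (α := OffPt (L.subgroupOf H))
    (by have := P.five_off; omega)
  obtain ⟨σ, hσ⟩ := hpre.exists_smul_eq ⟨_, hh1⟩ ⟨_, hq1⟩
  obtain ⟨s, -, hs⟩ := P.alt_le_top hl σ.2
  have h2 : ((⟨s.1, P.leH s.2⟩ : H) • ((⟨h, hTH hT⟩ : H) : H ⧸ L.subgroupOf H)) = ((⟨q, hq⟩ : H) : H ⧸ L.subgroupOf H) := by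
    have h3 : offHom P.leH s ⟨_, hh1⟩ = ⟨_, hq1⟩ := by rw [hs]; exact hσ
    exact congrArg Subtype.val h3
  rw [MulAction.Quotient.smul_mk, smul_eq_mul, QuotientGroup.eq, mem_subgroupOf] at h2
  have h4 : (s.1 * h)⁻¹ * q ∈ L := by simpa using h2
  have h5 : q = (s.1 * h) * ((s.1 * h)⁻¹ * q) := by group
  rw [h5]
  exact mul_mem (mul_mem (hLT s.2) hT) (hLT h4)

end Big

end CfsgLib.Recognition.AltSub
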