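import Cfsg.Agent.Lib.Recognition.ComplementNonsolvable
import Cfsg.Agent.Lib.Hall.Solvable
import Cfsg.Agent.Lib.Solvable.MinNormal

/-!
Whether a fixed-point-free group is solvable is read off from its elements of order 3, 5 and 15.
-/

set_option autoImplicit false

namespace CfsgLib.Recognition.Fifteen

open Cfsg.Agent.S3378

theorem sl25_check : ∀ g ∈ elts, quad (g ^ 15) = quad 1 →
    quad (g ^ 5) = quad 1 ∨ quad (g ^ 3) = quad 1 := by
  decide +kernel

theorem sl25_orderOf_ne (g : Matrix.SpecialLinearGroup (Fin 2) (ZMod 5)) : orderOf g ≠ 15 := by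
  intro h
  rcases sl25_check g (mem_elts g) (congrArg quad (h ▸ pow_orderOf_eq_one g)) with h' | h'
  · have := orderOf_dvd_of_pow_eq_one (quad_injective h'); rw [h] at this; norm_num at this
  · have := orderOf_dvd_of_pow_eq_one (quad_injective h'); rw [h] at this; norm_num at this

/-- A nonsolvable fixed-point-free group has elements of order 3 and 5, none of order 15. -/
theorem not_solvable_fifteen {G N : Type*} [Group G] [Finite G] [Group N] [Finite N] [Nontrivial N]
    [MulDistribMulAction G N] (h : CfsgLib.Frobenius.IsFPF G N) (hns : ¬ Group.IsSolvable G) :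
    (∃ x : G, orderOf x = 3) ∧ (∃ x : G, orderOf x = 5) ∧ ∀ x : G, orderOf x ≠ 15 := by
  obtain ⟨G₀, hG₀n, hidx, S, M, hsup, -, hSn, hMn, hcomm, ⟨e⟩, -, hcop⟩ :=
    CfsgLib.Recognition.Complement.structure_of_fpf h hns
  haveI := hG₀n
  haveI := hMn
  have hdvd : ∀ p : ℕ, p ∣ 120 → p.Prime → ∃ x : G, orderOf x = p := by
    intro p hp hpp
    haveI := Fact.mk hpp
    obtain ⟨x, hx⟩ := exists_prime_orderOf_dvd_card' (G := S) p
      (by rw [Nat.card_congr e.toEquiv, SL25.card_sl25]; exact hp)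
    exact ⟨x, by rwa [Subgroup.orderOf_coe]⟩
  refine ⟨hdvd 3 (by norm_num) (by norm_num), hdvd 5 (by norm_num) (by norm_num), fun x hx => ?_⟩
  have hx0 : x ∈ G₀ := by
    rw [← QuotientGroup.eq_one_iff, ← orderOf_eq_one_iff]
    refine Nat.eq_one_of_dvd_coprimes (k := orderOf (x : G ⧸ G₀)) (a := G₀.index) (b := 15) ?_ ?_
      ((orderOf_map_dvd (QuotientGroup.mk' G₀) x).trans hx.dvd)
    · rcases hidx with h1 | h1 <;> rw [h1] <;> norm_num
    · exact orderOf_dvd_natCard (x : G ⧸ G₀)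
  obtain ⟨s, hs, m, hm, rfl⟩ := Subgroup.mem_sup_of_normal_right.1 (hsup.ge hx0)
  have hcm : Commute s m := hcomm s hs m hm
  have hpow : (s * m) ^ 15 = 1 := hx ▸ pow_orderOf_eq_one _
  rw [hcm.mul_pow] at hpow
  have hco : (orderOf m).Coprime 30 :=
    hcop.coprime_dvd_left (Subgroup.orderOf_dvd_natCard M hm)
  have hmS : m ^ 15 ∈ S := by
    rw [show m ^ 15 = (s ^ 15)⁻¹ from eq_inv_of_mul_eq_one_right hpow]
    exact inv_mem (pow_mem hs 15)
  -- the order of the `M`-part is prime to 30 and its 15th power lies in `S ∩ M`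
  have hm15 : m ^ 15 = 1 := by
    have h1 : orderOf (m ^ 15) ∣ orderOf m := orderOf_pow_dvd 15
    have h2 : orderOf (m ^ 15) ∣ 120 := by
      rw [← SL25.card_sl25, ← Nat.card_congr e.toEquiv]
      exact Subgroup.orderOf_dvd_natCard S hmS
    rw [← orderOf_eq_one_iff]
    refine Nat.eq_one_of_dvd_coprimes ?_ h1 h2
    have h120 : (120 : ℕ) ∣ 30 ^ 3 := by norm_num
    exact (hco.pow_right 3).coprime_dvd_right h120
  have hm1 : m = 1 := orderOf_eq_one_iff.1
    (Nat.eq_one_of_dvd_coprimes (hco.coprime_dvd_right (by norm_num : (15 : ℕ) ∣ 30)) dvd_rfl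
      (orderOf_dvd_of_pow_eq_one hm15))
  subst hm1
  rw [mul_one] at hx
  apply sl25_orderOf_ne (e ⟨s, hs⟩)
  rw [e.orderOf_eq, Subgroup.orderOf_mk]
  exact hx

/-- A solvable fixed-point-free group with elements of orders 3 and 5 has one of order 15. -/
theorem solvable_fifteen {G N : Type*} [Group G] [Finite G] [Group N] [Finite N]
    [MulDistribMulAction G N] (h : CfsgLib.Frobenius.IsFPF G N) [Nontrivial N]
    [Group.IsSolvable G] (h3 : ∃ x : G, orderOf x = 3) (h5 : ∃ x : G, orderOf x = 5) :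
    ∃ x : G, orderOf x = 15 := by
  obtain ⟨a, ha⟩ := h3
  obtain ⟨b, hb⟩ := h5
  set m := ordProj[3] (Nat.card G) * ordProj[5] (Nat.card G)
  have h35 : (ordProj[3] (Nat.card G)).Coprime (ordProj[5] (Nat.card G)) :=
    Nat.Coprime.pow _ _ (by norm_num)
  have hm : m ∣ Nat.card G :=
    h35.mul_dvd_of_dvd_of_dvd (Nat.ordProj_dvd _ _) (Nat.ordProj_dvd _ _)
  obtain ⟨k, hk⟩ := hm
  have hm3 : 3 ∣ m := Dvd.dvd.mul_right (dvd_pow_self 3
    (Nat.Prime.factorization_pos_of_dvd (by norm_num) Nat.card_pos.ne'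
      (ha ▸ orderOf_dvd_natCard a)).ne') _
  have hm5 : 5 ∣ m := Dvd.dvd.mul_left (dvd_pow_self 5
    (Nat.Prime.factorization_pos_of_dvd (by norm_num) Nat.card_pos.ne'
      (hb ▸ orderOf_dvd_natCard b)).ne') _
  have hcop : m.Coprime k := by
    have hk' : ∀ p : ℕ, p.Prime → ordProj[p] (Nat.card G) ∣ m → p.Coprime k := by
      intro p hp hd
      rw [hp.coprime_iff_not_dvd]
      intro hpk
      refine Nat.pow_succ_factorization_not_dvd (Nat.card_pos (α := G)).ne' hp ?_
      rw [pow_succ]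
      exact (Nat.mul_dvd_mul hd hpk).trans hk.symm.dvd
    exact Nat.Coprime.mul_left ((hk' 3 (by norm_num) (dvd_mul_right _ _)).pow_left _)
      ((hk' 5 (by norm_num) (dvd_mul_left _ _)).pow_left _)
  obtain ⟨L, hL⟩ := CfsgLib.Hall.exists_subgroup_card hk hcop
  haveI : Nontrivial L := Finite.one_lt_card_iff_nontrivial.1
    (hL ▸ lt_of_lt_of_le (by norm_num : 1 < 3) (Nat.le_of_dvd (hL ▸ Nat.card_pos) hm3))
  obtain ⟨R, hR⟩ := CfsgLib.MinNormal.exists_isMinNormal (G := L)
  obtain ⟨r, hr, hel, hRp, j, hj0, hj⟩ := hR.elementaryAbelian_of_solvable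
  haveI := Fact.mk hr
  have hr35 : r = 3 ∨ r = 5 := by
    have h1 : r ∣ m := hL ▸ (dvd_pow_self r hj0.ne').trans (hj ▸ Subgroup.card_subgroup_dvd_card R)
    rcases hr.dvd_mul.1 h1 with h | h
    · exact Or.inl ((Nat.prime_dvd_prime_iff_eq hr (by norm_num)).1 (hr.dvd_of_dvd_pow h))
    · exact Or.inr ((Nat.prime_dvd_prime_iff_eq hr (by norm_num)).1 (hr.dvd_of_dvd_pow h))
  have hr2 : r ≠ 2 := by rcases hr35 with e | e <;> omega
  haveI : IsCyclic (R.map L.subtype) :=
    CfsgLib.Recognition.Complement.isCyclic_odd_pgroup h hr2 _ (hRp.map _)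
  have hRcard : Nat.card (R.map L.subtype) = r := by
    refine Nat.dvd_antisymm ?_ ?_
    · rw [← IsCyclic.exponent_eq_card]
      refine Monoid.exponent_dvd_of_forall_pow_eq_one fun z => ?_
      obtain ⟨w, hw, hwz⟩ := z.2
      refine Subtype.ext ?_
      rw [SubgroupClass.coe_pow, ← hwz, ← map_pow, hel.2 w hw, map_one, Subgroup.coe_one]
    · rw [Subgroup.card_map_of_injective L.subtype_injective, hj]
      exact dvd_pow_self r hj0.ne'
  obtain ⟨s, hs, hs35, hsL⟩ : ∃ s, s.Prime ∧ r * s = 15 ∧ s ∣ Nat.card L := by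
    rcases hr35 with e | e
    · exact ⟨5, by norm_num, by rw [e], hL ▸ hm5⟩
    · exact ⟨3, by norm_num, by rw [e], hL ▸ hm3⟩
  haveI := Fact.mk hs
  obtain ⟨y, hy⟩ := exists_prime_orderOf_dvd_card' (G := L) s hsL
  haveI := hR.1
  haveI : IsCyclic R := isCyclic_of_surjective
    (R.equivMapOfInjective L.subtype L.subtype_injective).symm.toMonoidHom
    (R.equivMapOfInjective L.subtype L.subtype_injective).symm.surjective
  have hRc : Nat.card R = r := by
    rw [← hRcard, Subgroup.card_map_of_injective L.subtype_injective]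
  have hfix : MulAut.conjNormal (H := R) y = 1 := by
    rw [← orderOf_eq_one_iff]
    refine Nat.eq_one_of_dvd_coprimes ?_
      ((orderOf_map_dvd (MulAut.conjNormal (H := R)) y).trans hy.dvd) (orderOf_dvd_natCard _)
    rw [IsCyclic.card_mulAut, hRc, Nat.totient_prime hr]
    rcases hr35 with e | e <;> subst e
    · have : s = 5 := by omega
      subst this; norm_num
    · have : s = 3 := by omega
      subst this; norm_num
  obtain ⟨z, hz⟩ := exists_prime_orderOf_dvd_card' (G := R) r hRc.symm.dvd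
  have hcomm : Commute y (z : L) := by
    have h1 := congrArg Subtype.val (DFunLike.congr_fun hfix z)
    exact mul_inv_eq_iff_eq_mul.1 h1
  refine ⟨((y * z : L) : G), ?_⟩
  rw [Subgroup.orderOf_coe, hcomm.orderOf_mul_eq_mul_orderOf_of_coprime, hy, Subgroup.orderOf_coe,
    hz]
  · rw [mul_comm]; exact hs35
  · rw [hy, Subgroup.orderOf_coe, hz]
    refine (Nat.coprime_primes hs hr).2 fun e => ?_
    subst e
    rcases hr35 with e | e <;> subst e <;> norm_num at hs35

end CfsgLib.Recognition.Fifteen
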