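import Cfsg.Agent.Lib.Recognition.SL25Facts
import Cfsg.Agent.Lib.Zassenhaus.Perfect
import Cfsg.Agent.Lib.Recognition.TwoTransTwoModFour
import Cfsg.Agent.Lib.ConstStab.Basic

/-!
Structure of a non-solvable group acting without fixed points: a normal subgroup of index at
most two is `SL(2,5) × M`, with `M` a Z-group of order prime to 30.
-/

set_option autoImplicit false

open scoped Pointwise

namespace CfsgLib.Recognition.Complement

open CfsgLib.Frobenius CfsgLib.Recognition.SL25
open Cfsg.Agent.S3378 (gz)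

variable {G N : Type*} [Group G] [Finite G] [Group N] [Finite N] [Nontrivial N]
  [MulDistribMulAction G N]

/-- Commuting `x`, `y` with `yⁿ = 1`, `n` the order of `x`, have `y ∈ ⟨x⟩`. -/
theorem mem_zpowers_of_commute (h : IsFPF G N) {x y : G} (hy : y ^ orderOf x = 1)
    (hxy : Commute x y) : y ∈ Subgroup.zpowers x := by
  classical
  set n := orderOf x with hn
  let B := Subgroup.closure ({x, y} : Set G)
  have hxB : x ∈ B := Subgroup.subset_closure (Or.inl rfl)
  have hyB : y ∈ B := Subgroup.subset_closure (Or.inr rfl)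
  haveI : IsMulCommutative B := by
    refine Subgroup.isMulCommutative_closure ?_
    rintro a (rfl | rfl) b (rfl | rfl)
    · rfl
    · exact hxy
    · exact hxy.symm
    · rfl
  letI : MulDistribMulAction B N := MulDistribMulAction.compHom N B.subtype
  haveI : IsCyclic B := (h.comp B.subtype B.subtype_injective).isCyclic_of_commutative
  haveI := Fintype.ofFinite B
  let x' : B := ⟨x, hxB⟩
  have hord : orderOf x' = n := Subgroup.orderOf_mk _ _
  have hsub : (Finset.univ.filter fun a : B => a ∈ Subgroup.zpowers x') =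
      Finset.univ.filter fun a : B => a ^ n = 1 := by
    refine Finset.eq_of_subset_of_card_le (fun a ha => ?_) ?_
    · simp only [Finset.mem_filter, Finset.mem_univ, true_and] at ha ⊢
      obtain ⟨k, rfl⟩ := Subgroup.mem_zpowers_iff.1 ha
      rw [← zpow_natCast (_ ^ k), ← zpow_mul, mul_comm, zpow_mul, zpow_natCast, ← hord,
        pow_orderOf_eq_one, one_zpow]
    · refine (IsCyclic.card_pow_eq_one_le (orderOf_pos x)).trans (le_of_eq ?_)
      rw [← Fintype.card_subtype, ← Nat.card_eq_fintype_card]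
      exact (hord.symm.trans (Nat.card_zpowers _).symm)
  have : (⟨y, hyB⟩ : B) ∈ Finset.univ.filter fun a : B => a ^ n = 1 := by
    simp only [Finset.mem_filter, Finset.mem_univ, true_and]
    exact Subtype.ext hy
  rw [← hsub] at this
  simp only [Finset.mem_filter, Finset.mem_univ, true_and] at this
  obtain ⟨k, hk⟩ := Subgroup.mem_zpowers_iff.1 this
  exact Subgroup.mem_zpowers_iff.2 ⟨k, congrArg Subtype.val hk⟩

/-- The Sylow subgroups for odd primes of a group acting without fixed points are cyclic. -/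
theorem isCyclic_odd_pgroup (h : IsFPF G N) {p : ℕ} [hp : Fact p.Prime] (hp2 : p ≠ 2)
    (P : Subgroup G) (hP : IsPGroup p P) : IsCyclic P := by
  refine CfsgLib.ConstStab.isCyclic_of_unique_prime_subgroup hp2 hP ?_
  intro x y hx1 hx hy
  have : Nontrivial P := ⟨⟨x, 1, hx1⟩⟩
  haveI := hP.center_nontrivial
  obtain ⟨k, hk⟩ := (hP.to_subgroup (Subgroup.center P)).exists_card_eq
  have hk0 : k ≠ 0 := fun e => by
    rw [e, pow_zero] at hk
    exact absurd (Finite.one_lt_card_iff_nontrivial.2 hP.center_nontrivial) (by omega)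
  obtain ⟨⟨z, hzc⟩, hz⟩ := exists_prime_orderOf_dvd_card' (G := Subgroup.center P) p
    (hk ▸ dvd_pow_self p hk0)
  rw [Subgroup.orderOf_mk] at hz
  have hxo : orderOf x = p := orderOf_eq_prime hx hx1
  have h1 : (z : G) ∈ Subgroup.zpowers (x : G) := mem_zpowers_of_commute h
    (by rw [Subgroup.orderOf_coe, hxo, ← hz, ← Subgroup.orderOf_coe, pow_orderOf_eq_one])
    (congrArg Subtype.val (Subgroup.mem_center_iff.1 hzc x))
  have h2 : (y : G) ∈ Subgroup.zpowers (z : G) := mem_zpowers_of_commute h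
    (by rw [Subgroup.orderOf_coe, hz]; exact congrArg Subtype.val hy)
    (congrArg Subtype.val (Subgroup.mem_center_iff.1 hzc y)).symm
  obtain ⟨i, hi⟩ := Subgroup.mem_zpowers_iff.1 (Subgroup.zpowers_le.2 h1 h2)
  exact Subgroup.mem_zpowers_iff.2 ⟨i, Subtype.ext (by simpa using hi)⟩

/-- The structure theorem. -/
theorem structure_of_fpf (h : IsFPF G N) (hns : ¬ Group.IsSolvable G) :
    ∃ G₀ : Subgroup G, G₀.Normal ∧ (G₀.index = 1 ∨ G₀.index = 2) ∧
      ∃ S M : Subgroup G, S ⊔ M = G₀ ∧ S ⊓ M = ⊥ ∧ S.Normal ∧ M.Normal ∧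
        (∀ s ∈ S, ∀ x ∈ M, s * x = x * s) ∧
        Nonempty (S ≃* Matrix.SpecialLinearGroup (Fin 2) (ZMod 5)) ∧
        (∀ (p : ℕ) [Fact p.Prime] (P : Sylow p M), IsCyclic P) ∧ (Nat.card M).Coprime 30 := by
  classical
  obtain ⟨S, hSn, hSne, hSperf⟩ := CfsgLib.Zassenhaus.exists_perfect_subgroup hns
  haveI := hSn
  letI : MulDistribMulAction S N := MulDistribMulAction.compHom N S.subtype
  have : Nontrivial S := (Subgroup.nontrivial_iff_ne_bot S).2 hSne
  obtain ⟨e⟩ := CfsgLib.Zassenhaus.perfect_fpf_iso_sl25 (h.comp S.subtype S.subtype_injective)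
    hSperf inferInstance
  -- the involution
  set z : G := ((e.symm gz : S) : G) with hz
  have hz1 : z ≠ 1 := by
    intro h0
    apply SL25.ai_check.2.1
    have : e.symm gz = 1 := Subtype.ext h0
    rw [← e.apply_symm_apply gz, this, map_one]
  have hz2 : z ^ 2 = 1 := by
    have : (e.symm gz) ^ 2 = 1 := by
      rw [← map_pow, show gz ^ 2 = 1 from Cfsg.Agent.S3378.gens_check.2.2.1, map_one]
    exact congrArg Subtype.val this
  have huniq : ∀ a : G, a ^ 2 = 1 → a = 1 ∨ a = z := by
    intro a ha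
    by_cases ha1 : a = 1
    · exact Or.inl ha1
    · exact Or.inr (h.involution_unique ha1 (by rw [← pow_two, ha]) hz1 (by rw [← pow_two, hz2]))
  let C : Subgroup G := Subgroup.centralizer (S : Set G)
  have hCn : C.Normal := inferInstance
  have hCcomm : ∀ c ∈ C, ∀ s ∈ S, s * c = c * s := fun c hc s hs =>
    Subgroup.mem_centralizer_iff.1 hc s hs
  have hCS : ∀ g ∈ C, g ∈ S → g = 1 ∨ g = z := by
    intro g hgC hgS
    rcases SL25.eq_one_or_gz_of_commute (g := e ⟨g, hgS⟩) (fun x => by
        obtain ⟨w, rfl⟩ := e.surjective x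
        rw [← map_mul, ← map_mul]
        exact congrArg e (Subtype.ext (hCcomm g hgC w w.2).symm)) with h1 | h1
    · exact Or.inl (congrArg Subtype.val (e.injective (h1.trans (map_one e).symm)))
    · refine Or.inr ?_
      rw [hz, ← h1, e.symm_apply_apply]
  have hzS : z ∈ S := (e.symm gz).2
  have hzC : z ∈ C := by
    refine Subgroup.mem_centralizer_iff.2 fun s hs => ?_
    rcases huniq (s * z * s⁻¹) (by rw [conj_pow, hz2, mul_one, mul_inv_cancel]) with h1 | h1
    · exact absurd (conj_eq_one_iff.1 h1) hz1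
    · exact mul_inv_eq_iff_eq_mul.1 h1
  have hScard : Nat.card S = 120 := by rw [Nat.card_congr e.toEquiv]; exact SL25.card_sl25
  -- C has no elements of order 3, 5 or 4
  have hno : ∀ c ∈ C, ∀ s ∈ S, orderOf c = orderOf s → c ∈ S := fun c hc s hs hcs =>
    Subgroup.zpowers_le.2 hs
      (mem_zpowers_of_commute h (by rw [← hcs, pow_orderOf_eq_one]) (hCcomm c hc s hs))
  have hzo : orderOf z = 2 := orderOf_eq_prime hz2 hz1
  have hnop : ∀ p, p.Prime → p ∣ 120 → p ≠ 2 → ¬ p ∣ Nat.card C := by
    intro p hp hd hp2 hdC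
    haveI := Fact.mk hp
    obtain ⟨⟨c, hc⟩, hco⟩ := exists_prime_orderOf_dvd_card' (G := C) p hdC
    obtain ⟨⟨s, hs⟩, hso⟩ := exists_prime_orderOf_dvd_card' (G := S) p (hScard ▸ hd)
    rw [Subgroup.orderOf_mk] at hco hso
    rcases hCS c hc (hno c hc s hs (hco.trans hso.symm)) with rfl | rfl
    · rw [orderOf_one] at hco; exact hp.one_lt.ne hco
    · exact hp2 (hco.symm.trans hzo)
  have h4C : ¬ 4 ∣ Nat.card C := by
    intro h4
    haveI : Fact (Nat.Prime 2) := ⟨Nat.prime_two⟩
    obtain ⟨F, hF⟩ := Sylow.exists_subgroup_card_pow_prime (G := C) 2 (n := 2) h4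
    have hall : ∀ f ∈ F, (f : G) = 1 ∨ (f : G) = z := by
      intro f hf
      apply huniq
      by_contra h2
      have h4' : (⟨f, hf⟩ : F) ^ (2 ^ 2) = 1 := hF ▸ pow_card_eq_one'
      have hfo : orderOf (f : G) = 2 ^ (1 + 1) := orderOf_eq_prime_pow
        (by rwa [pow_one]) (congrArg (fun u : F => ((u : C) : G)) h4')
      let s : S := e.symm SL25.ai
      have hso : orderOf (s : G) = 4 := by
        rw [Subgroup.orderOf_coe, e.symm.orderOf_eq, SL25.orderOf_ai]
      rcases hCS _ f.2 (hno _ f.2 s s.2 (by rw [hfo, hso]; rfl)) with h3 | h3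
      · rw [h3, orderOf_one] at hfo; norm_num at hfo
      · rw [h3, hzo] at hfo; norm_num at hfo
    have hle : Nat.card F ≤ Nat.card (Subgroup.zpowers z) := by
      refine Nat.card_le_card_of_injective (fun f : F => (⟨((f : C) : G), ?_⟩ : Subgroup.zpowers z))
        fun a b hab => Subtype.ext (Subtype.ext (congrArg (fun u : Subgroup.zpowers z => (u : G)) hab))
      rcases hall f f.2 with h1 | h1 <;> rw [h1]
      · exact one_mem _
      · exact Subgroup.mem_zpowers z
    rw [hF, Nat.card_zpowers, hzo] at hle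
    omega
  have h2C : 2 ∣ Nat.card C := by
    have := orderOf_dvd_natCard (⟨z, hzC⟩ : C)
    rwa [Subgroup.orderOf_mk, hzo] at this
  obtain ⟨K, hKodd, hK⟩ := CfsgLib.Recognition.exists_index_two_of_two_mul_odd h2C h4C
  have hKiff : ∀ w : C, w ∈ K ↔ Odd (orderOf w) := fun w =>
    ⟨fun hw => hKodd.of_dvd_nat (Subgroup.orderOf_dvd_natCard K hw), hK w⟩
  let M : Subgroup G := K.map C.subtype
  have hMn : M.Normal := by
    refine ⟨?_⟩
    rintro _ ⟨w, hw, rfl⟩ g
    refine ⟨⟨g * w * g⁻¹, hCn.conj_mem _ w.2 g⟩, (hKiff _).2 ?_, rfl⟩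
    have hw' := (hKiff w).1 hw
    rw [Subgroup.orderOf_mk]
    rw [← Subgroup.orderOf_coe] at hw'
    rwa [show orderOf (g * (w : G) * g⁻¹) = orderOf (w : G) from
      orderOf_injective (MulAut.conj g).toMonoidHom (MulAut.conj g).injective w]
  have hMC : M ≤ C := Subgroup.map_subtype_le _
  have hMcard : Nat.card M = Nat.card K := Subgroup.card_map_of_injective C.subtype_injective
  have hSM : S ⊓ M = ⊥ := by
    rw [Subgroup.eq_bot_iff_forall]
    rintro x ⟨hxS, hxM⟩
    rcases hCS x (hMC hxM) hxS with h1 | h1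
    · exact h1
    · obtain ⟨w, hw, rfl⟩ := hxM
      have := (hKiff w).1 hw
      rw [← Subgroup.orderOf_coe, show (w : G) = z from h1, hzo] at this
      exact absurd this (by decide)
  -- the five Sylow 2-subgroups of S
  haveI : Fact (Nat.Prime 2) := ⟨Nat.prime_two⟩
  let Q₀ : Subgroup S := SL25.qGroup.comap e.toMonoidHom
  have hQ₀card : Nat.card Q₀ = 8 := by
    rw [Nat.card_congr (Equiv.subtypeEquiv e.toEquiv fun _ => Iff.rfl : Q₀ ≃ SL25.qGroup),
      SL25.card_qGroup]
  let P₀ : Sylow 2 S := Sylow.ofCard Q₀ (by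
    rw [hQ₀card, hScard, show 120 = 2 ^ 3 * 15 from rfl,
      Nat.factorization_mul (by norm_num) (by norm_num), Finsupp.add_apply,
      Nat.Prime.factorization_pow Nat.prime_two, Finsupp.single_eq_same,
      Nat.factorization_eq_zero_of_not_dvd (by norm_num : ¬ 2 ∣ 15)]
    norm_num)
  have hnorm : ∀ s : S, s ∈ Subgroup.normalizer (Q₀ : Set S) ↔
      e s ∈ Subgroup.normalizer (SL25.qGroup : Set SL25) := by
    intro s
    rw [Subgroup.mem_normalizer_iff, Subgroup.mem_normalizer_iff]
    constructor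
    · intro hs x
      obtain ⟨w, rfl⟩ := e.surjective x
      have := hs w
      simp only [Q₀, Subgroup.mem_comap, MulEquiv.coe_toMonoidHom, map_mul, map_inv] at this
      exact this
    · intro hs w
      simp only [Q₀, Subgroup.mem_comap, MulEquiv.coe_toMonoidHom, map_mul, map_inv]
      exact hs (e w)
  have hn5 : Nat.card (Sylow 2 S) = 5 := by
    rw [P₀.card_eq_index_normalizer]
    show (Subgroup.normalizer (Q₀ : Set S)).index = 5
    have : Subgroup.normalizer (Q₀ : Set S) =
        (Subgroup.normalizer (SL25.qGroup : Set SL25)).comap e.toMonoidHom :=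
      Subgroup.ext fun s => hnorm s
    rw [this, Subgroup.index_comap_of_surjective _ e.surjective, SL25.index_normalizer_qGroup]
  -- the action of G on them
  let ψ : G →* Equiv.Perm (Sylow 2 S) :=
    (MulAction.toPermHom (MulAut S) (Sylow 2 S)).comp MulAut.conjNormal
  have hker : ∀ s ∈ S, s ∈ ψ.ker → s = 1 ∨ s = z := by
    intro s hs hk
    have hk' : ∀ P : Sylow 2 S, (⟨s, hs⟩ : S) ∈ Subgroup.normalizer ((P : Subgroup S) : Set S) := by
      intro P
      have h1 : (MulAut.conjNormal (H := S)) s • P = P := by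
        have := Equiv.ext_iff.1 (MonoidHom.mem_ker.1 hk) P
        simpa [ψ] using this
      have h2 : MulAut.conj (⟨s, hs⟩ : S) = MulAut.conjNormal s :=
        MulEquiv.ext fun w => Subtype.ext (by simp)
      rw [Subgroup.mem_normalizer_iff]
      intro w
      have h3 : MulAut.conj (⟨s, hs⟩ : S) • (P : Subgroup S) = (P : Subgroup S) := by
        rw [h2]; exact congrArg Sylow.toSubgroup h1
      constructor
      · intro hw
        rw [← h3]
        exact Subgroup.smul_mem_pointwise_smul w (MulAut.conj (⟨s, hs⟩ : S)) _ hw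
      · intro hw
        rw [← h3, Subgroup.mem_smul_pointwise_iff_exists] at hw
        obtain ⟨u, hu, hue⟩ := hw
        obtain rfl : u = w := (MulAut.conj (⟨s, hs⟩ : S)).injective hue
        exact hu
    rcases SL25.eq_one_or_gz_of_core (g := e ⟨s, hs⟩) (fun x => by
        obtain ⟨w, rfl⟩ := e.surjective x
        have hP := hk' (w • P₀)
        rw [← map_inv, ← map_mul, ← map_mul, ← hnorm]
        show w⁻¹ * (⟨s, hs⟩ : S) * w ∈ Subgroup.normalizer ((P₀ : Subgroup S) : Set S)
        rw [Subgroup.mem_normalizer_iff] at hP ⊢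
        intro u
        have hsmul : ∀ t : S, t ∈ ((w • P₀ : Sylow 2 S) : Subgroup S) ↔ w⁻¹ * t * w ∈ (P₀ : Subgroup S) := by
          intro t
          show t ∈ MulAut.conj w • (P₀ : Subgroup S) ↔ _
          rw [Subgroup.mem_pointwise_smul_iff_inv_smul_mem, ← map_inv, MulAut.smul_def,
            MulAut.conj_apply, inv_inv]
        have := hP (w * u * w⁻¹)
        rw [hsmul, hsmul] at this
        convert this using 2 <;> group) with h1 | h1
    · exact Or.inl (congrArg Subtype.val (e.injective (h1.trans (map_one e).symm)))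
    · refine Or.inr ?_
      rw [hz, ← h1, e.symm_apply_apply]
  have hkC : ψ.ker ≤ C := by
    intro k hk
    have hcomm : ∀ s : S, k * (s : G) * k⁻¹ * (s : G)⁻¹ = 1 ∨
        k * (s : G) * k⁻¹ * (s : G)⁻¹ = z := by
      intro s
      refine hker _ (S.mul_mem (hSn.conj_mem _ s.2 k) (S.inv_mem s.2)) ?_
      rw [show k * (s : G) * k⁻¹ * (s : G)⁻¹ = k * ((s : G) * k⁻¹ * (s : G)⁻¹) by group]
      exact ψ.ker.mul_mem hk ((MonoidHom.normal_ker ψ).conj_mem _ (ψ.ker.inv_mem hk) _)
    let Z := Subgroup.zpowers z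
    have hmem : ∀ s : S, k * (s : G) * k⁻¹ * (s : G)⁻¹ ∈ Z := fun s => by
      rcases hcomm s with h1 | h1 <;> rw [h1]
      · exact one_mem _
      · exact Subgroup.mem_zpowers z
    let φ : S →* Z := MonoidHom.mk' (fun s => ⟨_, hmem s⟩) fun s t => Subtype.ext (by
      show k * ((s * t : S) : G) * k⁻¹ * ((s * t : S) : G)⁻¹ =
        k * (s : G) * k⁻¹ * (s : G)⁻¹ * (k * (t : G) * k⁻¹ * (t : G)⁻¹)
      have hc : (k * (t : G) * k⁻¹ * (t : G)⁻¹) * (s : G) = (s : G) * (k * (t : G) * k⁻¹ * (t : G)⁻¹) := by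
        rcases hcomm t with h1 | h1 <;> rw [h1]
        · simp
        · exact (hCcomm z hzC s s.2).symm
      calc k * ((s * t : S) : G) * k⁻¹ * ((s * t : S) : G)⁻¹
          = k * (s : G) * k⁻¹ * (k * (t : G) * k⁻¹ * (t : G)⁻¹) * (s : G)⁻¹ := by
            push_cast; group
        _ = k * (s : G) * k⁻¹ * (s : G)⁻¹ * ((s : G) * (k * (t : G) * k⁻¹ * (t : G)⁻¹)) * (s : G)⁻¹ := by
            group
        _ = _ := by rw [← hc]; group)
    have hφ : φ.ker = ⊤ := by
      rw [eq_top_iff, ← hSperf, commutator_def, Subgroup.commutator_le]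
      intro a _ b _
      rw [MonoidHom.mem_ker, map_commutatorElement, commutatorElement_eq_one_iff_mul_comm]
      exact mul_comm' _ _
    refine Subgroup.mem_centralizer_iff.2 fun s hs => ?_
    have h1 : φ ⟨s, hs⟩ = 1 := by
      rw [← MonoidHom.mem_ker, hφ]; exact Subgroup.mem_top _
    have h2 : k * s * k⁻¹ * s⁻¹ = 1 := congrArg Subtype.val h1
    rw [mul_inv_eq_one, mul_inv_eq_iff_eq_mul] at h2
    exact h2.symm
  have hindex : (S ⊔ C).index = 1 ∨ (S ⊔ C).index = 2 := by
    haveI := hCn
    have hd : ψ.ker.index ∣ 120 := by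
      rw [Subgroup.index_ker]
      have := Subgroup.card_subgroup_dvd_card ψ.range
      rwa [Nat.card_perm, hn5] at this
    -- the image of S has order 60
    have h60 : 60 ∣ ψ.ker.relIndex (S ⊔ C) := by
      have hcard : Nat.card (ψ.ker.subgroupOf S) ∣ 2 := by
        have hle : ψ.ker.subgroupOf S ≤ (Subgroup.zpowers z).subgroupOf S := by
          rintro ⟨s, hs⟩ hk
          rcases hker s hs hk with rfl | rfl
          · exact one_mem _
          · exact Subgroup.mem_zpowers z
        refine (Subgroup.card_dvd_of_le hle).trans ?_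
        rw [Nat.card_congr (Subgroup.subgroupOfEquivOfLe (Subgroup.zpowers_le.2 hzS)).toEquiv,
          Nat.card_zpowers, hzo]
      have h1 : 60 ∣ ψ.ker.relIndex S := by
        obtain ⟨c, hc⟩ := hcard
        have := (ψ.ker.subgroupOf S).card_mul_index
        rw [hScard] at this
        refine ⟨c, Nat.eq_of_mul_eq_mul_left (Nat.card_pos (α := ψ.ker.subgroupOf S)) ?_⟩
        calc _ = 120 := this
          _ = 60 * (Nat.card (ψ.ker.subgroupOf S) * c) := by rw [← hc]
          _ = _ := by ring
      rw [Subgroup.relIndex_ker] at h1 ⊢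
      exact h1.trans (Subgroup.card_dvd_of_le (Subgroup.map_mono le_sup_left))
    have hle : ψ.ker ≤ S ⊔ C := hkC.trans le_sup_right
    have hmul := Subgroup.relIndex_mul_index hle
    obtain ⟨c, hc⟩ := h60
    rw [hc] at hmul
    have h3 : 60 * (c * (S ⊔ C).index) ∣ 120 := by rw [← mul_assoc, hmul]; exact hd
    have h4 : c * (S ⊔ C).index ∣ 2 :=
      Nat.dvd_of_mul_dvd_mul_left (by norm_num : 0 < 60) (by simpa using h3)
    exact (Nat.dvd_prime Nat.prime_two).1 ((Dvd.intro_left c rfl).trans h4)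
  have hKidx : K.index = 2 := by
    have hd : K.index ∣ Nat.card C := K.index_dvd_card
    -- every odd prime power of |C| already divides |K|
    have hpow : ∃ a, K.index = 2 ^ a := by
      refine ⟨_, Nat.eq_prime_pow_of_unique_prime_dvd Subgroup.index_ne_zero_of_finite ?_⟩
      intro p hp hpd
      by_contra hp2
      haveI := Fact.mk hp
      obtain ⟨P⟩ := (inferInstance : Nonempty (Sylow p C))
      have hPK : (P : Subgroup C) ≤ K := by
        intro x hx
        apply hK
        obtain ⟨k, hk⟩ := P.2 ⟨x, hx⟩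
        have : x ^ p ^ k = 1 := congrArg Subtype.val hk
        exact (Odd.pow (hp.odd_of_ne_two hp2)).of_dvd_nat (orderOf_dvd_of_pow_eq_one this)
      exact P.not_dvd_index (hpd.trans (Subgroup.index_dvd_of_le hPK))
    obtain ⟨a, ha⟩ := hpow
    have hm := K.card_mul_index
    rw [ha] at hm hd ⊢
    rcases a with - | - | a
    · exfalso
      rw [pow_zero, mul_one] at hm
      rw [← hm] at h2C
      exact absurd h2C (by simpa [Nat.odd_iff, Nat.dvd_iff_mod_eq_zero] using hKodd)
    · rfl
    · exact absurd ((pow_dvd_pow 2 (by omega : 2 ≤ a + 2)).trans hd) h4C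
  have hsup : S ⊔ M = S ⊔ C := by
    refine le_antisymm (sup_le_sup_left hMC S) (sup_le le_sup_left ?_)
    intro c hc
    by_cases hcK : (⟨c, hc⟩ : C) ∈ K
    · exact Subgroup.mem_sup_right ⟨_, hcK, rfl⟩
    · have hzK : (⟨z, hzC⟩ : C) ∉ K := fun h0 => by
        have := (hKiff _).1 h0
        rw [Subgroup.orderOf_mk, hzo] at this
        exact absurd this (by decide)
      have hprod : (⟨z, hzC⟩ : C) * ⟨c, hc⟩ ∈ K := by
        rw [Subgroup.mul_mem_iff_of_index_two hKidx]
        exact ⟨fun h0 => absurd h0 hzK, fun h0 => absurd h0 hcK⟩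
      have : c = z⁻¹ * (z * c) := (inv_mul_cancel_left z c).symm
      rw [this]
      exact mul_mem (inv_mem (Subgroup.mem_sup_left hzS)) (Subgroup.mem_sup_right ⟨_, hprod, rfl⟩)
  refine ⟨S ⊔ C, Subgroup.sup_normal S C, hindex, S, M, hsup, hSM, hSn, hMn,
    fun s hs x hx => hCcomm x (hMC hx) s hs, ⟨e⟩, ?_, ?_⟩
  · intro p hp P
    have hP : IsPGroup p ((P : Subgroup M).map M.subtype) := P.2.map _
    have hcy : IsCyclic ((P : Subgroup M).map M.subtype) := by
      by_cases hp2 : p = 2
      · subst hp2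
        obtain ⟨k, hk⟩ := hP.exists_card_eq
        have hd : Nat.card ((P : Subgroup M).map M.subtype) ∣ Nat.card M :=
          Subgroup.card_dvd_of_le (Subgroup.map_subtype_le _)
        have ho := hKodd.of_dvd_nat (hMcard ▸ hd)
        rcases k with - | k
        · rw [pow_zero] at hk
          have := (Nat.card_eq_one_iff_unique.1 hk).1
          infer_instance
        · rw [hk, pow_succ, Nat.odd_mul] at ho
          exact absurd ho.2 (by decide)
      · exact isCyclic_odd_pgroup h hp2 _ hP
    exact ((P : Subgroup M).equivMapOfInjective M.subtype M.subtype_injective).isCyclic.2 hcy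
  · have hd : Nat.card M ∣ Nat.card C := Subgroup.card_dvd_of_le hMC
    rw [Nat.coprime_comm, show (30 : ℕ) = 2 * (3 * 5) from rfl]
    refine Nat.Coprime.mul_left ?_ (Nat.Coprime.mul_left ?_ ?_)
    · rw [Nat.prime_two.coprime_iff_not_dvd, hMcard]
      exact fun h0 => absurd (hKodd.of_dvd_nat h0) (by decide)
    · rw [Nat.prime_three.coprime_iff_not_dvd]
      exact fun h0 => hnop 3 Nat.prime_three (by norm_num) (by norm_num) (h0.trans hd)
    · rw [(by norm_num : Nat.Prime 5).coprime_iff_not_dvd]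
      exact fun h0 => hnop 5 (by norm_num) (by norm_num) (by norm_num) (h0.trans hd)

end CfsgLib.Recognition.Complement
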