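import Mathlib

/-!
A small certificate checker bounding the order of a group given by generators and relations:
representative words for right cosets of a subgroup together with a list of relator scans.
-/

set_option autoImplicit false

namespace CfsgLib.CosetCert

/-- A table entry `(v, a, w)`: generator `a` sends coset `v` to coset `w`. -/
abbrev Entry := ℕ × ℕ × ℕ

/-- Look up the image of coset `v` under generator `a`. -/
def look : List Entry → ℕ → ℕ → Option ℕ
  | [], _, _ => none
  | e :: E, v, a => if e.1 == v && e.2.1 == a then some e.2.2 else look E v a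

/-- Follow a word through the known entries. -/
def walk (E : List Entry) : ℕ → List ℕ → Option ℕ
  | v, [] => some v
  | v, a :: l => (look E v a).bind fun u => walk E u l

/-- An entry that holds by the choice of representatives, or as a generator of the subgroup. -/
def initial (hgens : List ℕ) (words : List (List ℕ)) (e : Entry) : Bool :=
  (words.getD e.2.2 [] == words.getD e.1 [] ++ [e.2.1]) ||
    ((words.getD e.1 [] == []) && (words.getD e.2.2 [] == []) && hgens.contains e.2.1)

/-- Deduce the last edge of a scan of a rotated relator. -/
def scan (rels : List (List ℕ)) : List (ℕ × ℕ × ℕ) → List Entry → Option (List Entry)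
  | [], E => some E
  | s :: l, E =>
      let w := (rels.getD s.1 []).rotate s.2.1
      (w.getLast?).bind fun a => (walk E s.2.2 w.dropLast).bind fun u =>
        scan rels l ((u, a, s.2.2) :: E)

/-- The whole check: `n` generators, all cosets `< words.length` have all their images. -/
def check (n : ℕ) (hgens : List ℕ) (rels words : List (List ℕ)) (init : List Entry)
    (steps : List (ℕ × ℕ × ℕ)) : Bool :=
  init.all (initial hgens words) && decide (0 < words.length) && (words.getD 0 [] == []) &&
    (scan rels steps init).elim false fun E =>
      (List.range words.length).all fun v => (List.range n).all fun a =>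
        (look E v a).elim false fun w => decide (w < words.length)

variable {G : Type*} [Group G] (g : ℕ → G) (H : Subgroup G)

/-- The group element of a word. -/
def eval (w : List ℕ) : G := (w.map g).prod

theorem eval_nil : eval g [] = 1 := rfl

theorem eval_append (w₁ w₂ : List ℕ) : eval g (w₁ ++ w₂) = eval g w₁ * eval g w₂ := by
  simp [eval]

theorem eval_singleton (a : ℕ) : eval g [a] = g a := by simp [eval]

theorem eval_cons (a : ℕ) (l : List ℕ) : eval g (a :: l) = g a * eval g l := by simp [eval]

/-- An entry is valid. -/
def Valid (words : List (List ℕ)) (e : Entry) : Prop :=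
  eval g (words.getD e.1 []) * g e.2.1 * (eval g (words.getD e.2.2 []))⁻¹ ∈ H

variable {g H}

theorem valid_of_initial {hgens : List ℕ} {words : List (List ℕ)} (hH : ∀ a ∈ hgens, g a ∈ H)
    {e : Entry} (he : initial hgens words e = true) : Valid g H words e := by
  simp only [initial, Bool.or_eq_true, Bool.and_eq_true, beq_iff_eq] at he
  rcases he with h | ⟨⟨h1, h2⟩, h3⟩
  · rw [Valid, h, eval_append, eval_singleton, mul_inv_cancel]; exact H.one_mem
  · rw [List.contains_iff_mem] at h3
    rw [Valid, h1, h2, eval_nil, one_mul, inv_one, mul_one]; exact hH _ h3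

theorem look_spec {E : List Entry} {v a w : ℕ} (h : look E v a = some w) : (v, a, w) ∈ E := by
  induction E with
  | nil => simp [look] at h
  | cons e E ih =>
    unfold look at h
    split at h
    · next hc =>
      simp only [Bool.and_eq_true, beq_iff_eq] at hc
      obtain ⟨hc1, hc2⟩ := hc
      obtain rfl : e.2.2 = w := by simpa using h
      subst hc1 hc2
      exact List.mem_cons_self ..
    · exact List.mem_cons_of_mem _ (ih h)

theorem walk_spec {words : List (List ℕ)} {E : List Entry} (hE : ∀ e ∈ E, Valid g H words e) :
    ∀ (l : List ℕ) {v u : ℕ}, walk E v l = some u →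
      eval g (words.getD v []) * eval g l * (eval g (words.getD u []))⁻¹ ∈ H := by
  intro l
  induction l with
  | nil =>
    intro v u h
    obtain rfl : v = u := by simpa [walk] using h
    simp [eval_nil]
  | cons a l ih =>
    intro v u h
    simp only [walk, Option.bind_eq_some_iff] at h
    obtain ⟨w, hw, hu⟩ := h
    have h1 : Valid g H words (v, a, w) := hE _ (look_spec hw)
    have h2 := H.mul_mem h1 (ih hu)
    simp only at h2
    rw [eval_cons]
    convert h2 using 1
    group

theorem scan_spec {words rels : List (List ℕ)} (hrel : ∀ w ∈ rels, eval g w = 1) :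
    ∀ (steps : List (ℕ × ℕ × ℕ)) {E E' : List Entry}, (∀ e ∈ E, Valid g H words e) →
      scan rels steps E = some E' → ∀ e ∈ E', Valid g H words e := by
  intro steps
  induction steps with
  | nil =>
    intro E E' hE h
    obtain rfl : E = E' := by simpa [scan] using h
    exact hE
  | cons s l ih =>
    intro E E' hE h
    simp only [scan, Option.bind_eq_some_iff] at h
    obtain ⟨a, ha, u, hu, hl⟩ := h
    refine ih ?_ hl
    intro e he
    rcases List.mem_cons.1 he with rfl | he
    · have hw : eval g ((rels.getD s.1 []).rotate s.2.1) = 1 := by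
        rcases lt_or_ge s.1 rels.length with hs | hs
        · rw [List.getD_eq_getElem _ _ hs, eval, List.map_rotate]
          exact List.prod_rotate_eq_one_of_prod_eq_one (hrel _ (List.getElem_mem hs)) _
        · rw [List.getD_eq_default _ _ hs] at ha
          simp at ha
      rw [← List.dropLast_append_getLast? a ha, eval_append, eval_singleton] at hw
      have h1 := walk_spec hE _ hu
      rw [eq_inv_of_mul_eq_one_left hw] at h1
      simp only [Valid]
      convert H.inv_mem h1 using 1
      group
    · exact hE e he

theorem mem_cosets {n : ℕ} {hgens : List ℕ} {rels words : List (List ℕ)} {init : List Entry}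
    {steps : List (ℕ × ℕ × ℕ)} (hH : ∀ a ∈ hgens, g a ∈ H) (hrel : ∀ w ∈ rels, eval g w = 1)
    (hcheck : check n hgens rels words init steps = true)
    (hgen : Subgroup.closure (g '' {a | a < n}) = ⊤) (hfin : ∀ a < n, IsOfFinOrder (g a)) (x : G) :
    ∃ v < words.length, x * (eval g (words.getD v []))⁻¹ ∈ H := by
  simp only [check, Bool.and_eq_true, List.all_eq_true, decide_eq_true_eq, beq_iff_eq] at hcheck
  obtain ⟨⟨⟨hinit, hpos⟩, h0⟩, hscan⟩ := hcheck
  obtain ⟨E, hE, hall⟩ : ∃ E, scan rels steps init = some E ∧
      ∀ v < words.length, ∀ a < n, ∃ w, look E v a = some w ∧ w < words.length := by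
    rcases hs : scan rels steps init with - | E
    · rw [hs] at hscan; simp at hscan
    · refine ⟨E, rfl, fun v hv a ha => ?_⟩
      rw [hs] at hscan
      simp only [Option.elim, List.all_eq_true, List.mem_range] at hscan
      have := hscan v hv a ha
      rcases hl : look E v a with - | w
      · rw [hl] at this; simp at this
      · exact ⟨w, rfl, by simpa [hl] using this⟩
  have hvalid := scan_spec hrel steps (fun e he => valid_of_initial hH (hinit e he)) hE
  let S : Set G := {x | ∃ v < words.length, x * (eval g (words.getD v []))⁻¹ ∈ H}
  have hmul : ∀ a < n, ∀ x ∈ S, x * g a ∈ S := by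
    rintro a ha x ⟨v, hv, hx⟩
    obtain ⟨w, hw, hwlt⟩ := hall v hv a ha
    refine ⟨w, hwlt, ?_⟩
    have h2 := H.mul_mem hx (hvalid _ (look_spec hw))
    simp only [] at h2
    convert h2 using 1
    group
  have hpow : ∀ a < n, ∀ (m : ℕ), ∀ x ∈ S, x * g a ^ m ∈ S := by
    intro a ha m
    induction m with
    | zero => intro x hx; simpa using hx
    | succ m ih => intro x hx; rw [pow_succ, ← mul_assoc]; exact hmul a ha _ (ih x hx)
  have hx : x ∈ Subgroup.closure (g '' {a | a < n}) := hgen ▸ Subgroup.mem_top x
  show x ∈ S
  induction hx using Subgroup.closure_induction_right with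
  | one => exact ⟨0, hpos, by rw [h0, eval_nil]; simp⟩
  | mul_right y _ z hz ih =>
    obtain ⟨a, ha, rfl⟩ := hz
    exact hmul a ha y ih
  | mul_inv_cancel y _ z hz ih =>
    obtain ⟨a, ha, rfl⟩ := hz
    have h1 : g a ^ (orderOf (g a) - 1) * g a = 1 := by
      rw [← pow_succ, Nat.sub_add_cancel (hfin a ha).orderOf_pos, pow_orderOf_eq_one]
    rw [← eq_inv_of_mul_eq_one_left h1]
    exact hpow a ha _ y ih

/-- The bound on the group order given by a successful check. -/
theorem finite_card_le {n : ℕ} {hgens : List ℕ} {rels words : List (List ℕ)} {init : List Entry}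
    {steps : List (ℕ × ℕ × ℕ)} [Finite H] (hH : ∀ a ∈ hgens, g a ∈ H)
    (hrel : ∀ w ∈ rels, eval g w = 1)
    (hcheck : check n hgens rels words init steps = true)
    (hgen : Subgroup.closure (g '' {a | a < n}) = ⊤) (hfin : ∀ a < n, IsOfFinOrder (g a)) :
    Finite G ∧ Nat.card G ≤ words.length * Nat.card H := by
  let f : Fin words.length × H → G := fun p => (p.2 : G) * eval g (words.getD p.1 [])
  have hf : Function.Surjective f := by
    intro x
    obtain ⟨v, hv, hx⟩ := mem_cosets hH hrel hcheck hgen hfin x
    exact ⟨(⟨v, hv⟩, ⟨_, hx⟩), inv_mul_cancel_right x _⟩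
  refine ⟨Finite.of_surjective f hf, ?_⟩
  have := Nat.card_le_card_of_surjective f hf
  simpa [Nat.card_prod] using this

end CfsgLib.CosetCert
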