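import Mathlib

/-!
PSL(2,7) and SL(2,8): every element has order dividing 4, 7 or 9, and the primes are 2, 3, 7.
-/

set_option autoImplicit false

namespace CfsgLib.Recognition.TwoThreeSeven

open Matrix

/-- Elements of order 2, 3, 7, and every element order divides 4, 7 or 9. -/
def IsEmpty237 (G : Type*) [Group G] : Prop :=
  (∀ g : G, g ^ 4 = 1 ∨ g ^ 7 = 1 ∨ g ^ 9 = 1) ∧ (∀ p : ℕ, p = 2 ∨ p = 3 ∨ p = 7 → ∃ g : G, orderOf g = p)

theorem IsEmpty237.dvd_iff {G : Type*} [Group G] [Finite G] (hG : IsEmpty237 G) {p : ℕ}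
    (hp : p.Prime) : p ∣ Nat.card G ↔ (p = 2 ∨ p = 3 ∨ p = 7) := by
  have : Fact p.Prime := ⟨hp⟩
  constructor
  · intro h
    obtain ⟨x, hx⟩ := exists_prime_orderOf_dvd_card' p h
    rcases hG.1 x with h | h | h <;> have h1 := orderOf_dvd_of_pow_eq_one h <;> rw [hx] at h1
    · exact Or.inl ((Nat.prime_dvd_prime_iff_eq hp Nat.prime_two).1
        (hp.dvd_of_dvd_pow (show p ∣ 2 ^ 2 from h1)))
    · exact Or.inr (Or.inr ((Nat.prime_dvd_prime_iff_eq hp (by norm_num)).1 h1))
    · exact Or.inr (Or.inl ((Nat.prime_dvd_prime_iff_eq hp Nat.prime_three).1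
        (hp.dvd_of_dvd_pow (show p ∣ 3 ^ 2 from h1))))
  · intro h
    obtain ⟨g, hg⟩ := hG.2 p h
    exact hg ▸ orderOf_dvd_natCard g

theorem IsEmpty237.no_edge {G : Type*} [Group G] [Finite G] (hG : IsEmpty237 G) {p q : ℕ}
    (hp : p.Prime) (hq : q.Prime) (hpq : p ≠ q) : ¬ ∃ g : G, orderOf g = p * q := by
  rintro ⟨g, hg⟩
  have hone : ∀ r k : ℕ, r.Prime → p * q ∣ r ^ k → False := fun r k hr h =>
    hpq (((Nat.prime_dvd_prime_iff_eq hp hr).1
      (hp.dvd_of_dvd_pow ((dvd_mul_right p q).trans h))).trans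
      ((Nat.prime_dvd_prime_iff_eq hq hr).1 (hq.dvd_of_dvd_pow ((dvd_mul_left q p).trans h))).symm)
  rcases hG.1 g with h | h | h <;> have h1 := orderOf_dvd_of_pow_eq_one h <;> rw [hg] at h1
  · exact hone 2 2 Nat.prime_two h1
  · exact hone 7 1 (by norm_num) h1
  · exact hone 3 2 Nat.prime_three h1

theorem IsEmpty237.primeGraph {A B : Type*} [Group A] [Finite A] [Group B] [Finite B]
    (hA : IsEmpty237 A) (hB : IsEmpty237 B) :
    (∀ p : ℕ, p.Prime → (p ∣ Nat.card A ↔ p ∣ Nat.card B)) ∧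
      (∀ p q : ℕ, p.Prime → q.Prime → p ≠ q →
        ((∃ g : A, orderOf g = p * q) ↔ (∃ g : B, orderOf g = p * q))) := by
  exact ⟨fun p hp => (hA.dvd_iff hp).trans (hB.dvd_iff hp).symm,
    fun p q hp hq hpq => iff_of_false (hA.no_edge hp hq hpq) (hB.no_edge hp hq hpq)⟩

/-- Chebyshev coefficients: `g ^ n = a n • g + b n • 1`. -/
theorem pow_trace {F : Type*} [Field F] (g : Matrix (Fin 2) (Fin 2) F) (hd : g.det = 1) :
    let t := g.trace
    g ^ 2 = t • g - 1 ∧ g ^ 3 = (t ^ 2 - 1) • g - t • 1 ∧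
    g ^ 4 = (t ^ 3 - 2 * t) • g - (t ^ 2 - 1) • 1 ∧
    g ^ 7 = (t ^ 6 - 5 * t ^ 4 + 6 * t ^ 2 - 1) • g - (t ^ 5 - 4 * t ^ 3 + 3 * t) • 1 ∧
    g ^ 9 = (t ^ 8 - 7 * t ^ 6 + 15 * t ^ 4 - 10 * t ^ 2 + 1) • g -
      (t ^ 7 - 6 * t ^ 5 + 10 * t ^ 3 - 4 * t) • 1 := by
  intro t
  have h2 : g * g = t • g - 1 := by
    rw [Matrix.det_fin_two] at hd
    ext i j
    fin_cases i <;> fin_cases j <;> simp [t, Matrix.mul_apply, Fin.sum_univ_two, Matrix.trace_fin_two] <;>
      first | ring1 | linear_combination hd | linear_combination (-hd)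
  have step : ∀ (n : ℕ) (a b : F), g ^ n = a • g - b • 1 →
      g ^ (n + 1) = (a * t - b) • g - a • 1 := by
    intro n a b h
    rw [pow_succ, h, sub_mul, smul_mul_assoc, h2, smul_mul_assoc, one_mul, smul_sub, smul_smul,
      sub_smul]
    abel
  have e2 : g ^ 2 = t • g - (1 : F) • 1 := by rw [sq, h2, one_smul]
  have e3 := step _ _ _ e2
  have e4 := step _ _ _ e3
  have e5 := step _ _ _ e4
  have e6 := step _ _ _ e5
  have e7 := step _ _ _ e6
  have e8 := step _ _ _ e7
  have e9 := step _ _ _ e8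
  refine ⟨by rw [e2, one_smul], ?_, ?_, ?_, ?_⟩
  · rw [e3]; congr 2; ring
  · rw [e4]; congr 2 <;> ring
  · rw [e7]; congr 2 <;> ring
  · rw [e9]; congr 2 <;> ring

theorem orderOf_eq_of_pow {G : Type*} [Monoid G] {g : G} {p : ℕ} (hp : p.Prime) (h : g ^ p = 1)
    (h1 : g ≠ 1) : orderOf g = p := by
  have : Fact p.Prime := ⟨hp⟩
  exact orderOf_eq_prime h h1

/-- SL(2) over the field with eight elements. -/
theorem sl2_eight {F : Type*} [Field F] [Fintype F] (hF : Fintype.card F = 8) :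
    IsEmpty237 (Matrix.SpecialLinearGroup (Fin 2) F) := by
  classical
  have h8 : ∀ x : F, x ^ 8 = x := fun x => by rw [← hF]; exact FiniteField.pow_card x
  have hch : (2 : F) = 0 := by
    have h := FiniteField.cast_card_eq_zero F
    rw [hF, show (8 : ℕ) = 2 ^ 3 from rfl, Nat.cast_pow, pow_eq_zero_iff three_ne_zero] at h
    exact_mod_cast h
  constructor
  · intro g
    obtain ⟨e2, -, e4, e7, e9⟩ := pow_trace (g : Matrix (Fin 2) (Fin 2) F) g.2
    set t := (g : Matrix (Fin 2) (Fin 2) F).trace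
    by_cases ht : t = 0
    · left
      apply Subtype.ext
      show ((g ^ 4 : Matrix.SpecialLinearGroup (Fin 2) F) : Matrix (Fin 2) (Fin 2) F) = 1
      rw [Matrix.SpecialLinearGroup.coe_pow, e4, ht]
      simp
    · have h7 : t ^ 7 = 1 := mul_left_cancel₀ ht (by rw [← pow_succ', h8, mul_one])
      by_cases hr : t ^ 3 + t ^ 2 + 1 = 0
      · right; left
        apply Subtype.ext
        show ((g ^ 7 : Matrix.SpecialLinearGroup (Fin 2) F) : Matrix (Fin 2) (Fin 2) F) = 1
        have ha : t ^ 6 - 5 * t ^ 4 + 6 * t ^ 2 - 1 = 0 := by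
          linear_combination (t ^ 3 + t ^ 2 + 1) * hr + (-t ^ 5 - 3 * t ^ 4 - t ^ 3 + 2 * t ^ 2 - 1) * hch
        have hb : t ^ 5 - 4 * t ^ 3 + 3 * t = -1 := by
          linear_combination (t ^ 2 - t + 1) * hr + (-2 * t ^ 3 - t ^ 2 + 2 * t) * hch
        rw [Matrix.SpecialLinearGroup.coe_pow, e7, ha, hb]
        simp
      · right; right
        apply Subtype.ext
        show ((g ^ 9 : Matrix.SpecialLinearGroup (Fin 2) F) : Matrix (Fin 2) (Fin 2) F) = 1
        have hs : (t + 1) * (t ^ 3 + t + 1) = 0 := by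
          refine (mul_eq_zero.1 ?_).resolve_right hr
          linear_combination h7 + (t ^ 6 + t ^ 5 + 2 * t ^ 4 + 2 * t ^ 3 + t ^ 2 + t + 1) * hch
        have ha : t ^ 8 - 7 * t ^ 6 + 15 * t ^ 4 - 10 * t ^ 2 + 1 = 0 := by
          linear_combination (t ^ 4 + t ^ 3 + t ^ 2 + 1) * hs + (-t ^ 7 - 5 * t ^ 6 - 2 * t ^ 5 + 5 * t ^ 4 - 2 * t ^ 3 - 6 * t ^ 2 - t) * hch
        have hb : t ^ 7 - 6 * t ^ 5 + 10 * t ^ 3 - 4 * t = -1 := by
          linear_combination h7 + (-3 * t ^ 5 + 5 * t ^ 3 - 2 * t + 1) * hch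
        rw [Matrix.SpecialLinearGroup.coe_pow, e9, ha, hb]
        simp
  · intro p hp
    obtain ⟨a, ha0, ha1⟩ : ∃ a : F, a ≠ 0 ∧ a ≠ 1 := by
      by_contra hcon
      push Not at hcon
      have hsub : (Finset.univ : Finset F) ⊆ {0, 1} := fun x _ => by
        by_cases h : x = 0
        · simp [h]
        · simp [hcon x h]
      have := Finset.card_le_card hsub
      rw [Finset.card_univ, hF] at this
      exact absurd (this.trans Finset.card_le_two) (by norm_num)
    rcases hp with rfl | rfl | rfl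
    · refine ⟨⟨!![1, 1; 0, 1], by simp⟩, orderOf_eq_of_pow Nat.prime_two ?_ ?_⟩
      · apply Subtype.ext
        show (!![(1 : F), 1; 0, 1]) ^ 2 = 1
        ext i j
        fin_cases i <;> fin_cases j <;> simp [pow_two, Matrix.mul_apply, Fin.sum_univ_two] <;>
          linear_combination hch
      · intro e
        have := congrFun (congrFun (congrArg Subtype.val e) 0) 1
        simp at this
    · refine ⟨⟨!![0, 1; -1, -1], by simp⟩, orderOf_eq_of_pow Nat.prime_three ?_ ?_⟩
      · apply Subtype.ext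
        show (!![(0 : F), 1; -1, -1]) ^ 3 = 1
        ext i j
        fin_cases i <;> fin_cases j <;> simp [pow_three, Matrix.mul_apply, Fin.sum_univ_two]
      · intro e
        have := congrFun (congrFun (congrArg Subtype.val e) 0) 1
        simp at this
    · refine ⟨⟨!![a, 0; 0, a⁻¹], by simp [ha0]⟩, orderOf_eq_of_pow (by norm_num) ?_ ?_⟩
      · apply Subtype.ext
        show (!![a, 0; 0, a⁻¹]) ^ 7 = 1
        have h7 : a ^ 7 = 1 := mul_left_cancel₀ ha0 (by rw [← pow_succ', h8, mul_one])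
        have hdia : !![a, 0; 0, a⁻¹] = Matrix.diagonal ![a, a⁻¹] := by
          ext i j; fin_cases i <;> fin_cases j <;> simp
        rw [hdia, Matrix.diagonal_pow, ← Matrix.diagonal_one]
        congr 1
        funext i
        fin_cases i <;> simp [inv_pow, h7]
      · intro e
        have := congrFun (congrFun (congrArg Subtype.val e) 0) 0
        simp [ha1] at this

theorem zmod_seven_cases :
    ∀ z : ZMod 7, z = 0 ∨ z = 1 ∨ z = -1 ∨ z = 2 ∨ z = -2 ∨ z = 3 ∨ z = -3 := by decide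

/-- PSL(2) over the field with seven elements. -/
theorem psl2_seven {F : Type*} [Field F] [Fintype F] (hF : Fintype.card F = 7) :
    IsEmpty237 (Matrix.ProjectiveSpecialLinearGroup (Fin 2) F) := by
  classical
  have : Fact (Nat.Prime 7) := ⟨by norm_num⟩
  let e : ZMod 7 ≃+* F := ZMod.ringEquivOfPrime F (by norm_num) hF
  have h7 : (7 : F) = 0 := by
    have := FiniteField.cast_card_eq_zero F
    rw [hF] at this
    exact_mod_cast this
  have hcent : ∀ g : Matrix.SpecialLinearGroup (Fin 2) F,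
      ((g : Matrix (Fin 2) (Fin 2) F) = 1 ∨ (g : Matrix (Fin 2) (Fin 2) F) = -1) →
      (g : Matrix.ProjectiveSpecialLinearGroup (Fin 2) F) = 1 := by
    intro g hg
    rw [QuotientGroup.eq_one_iff, Matrix.SpecialLinearGroup.mem_center_iff]
    rcases hg with h | h
    · exact ⟨1, one_pow _, by rw [h, map_one]⟩
    · exact ⟨-1, by simp, by rw [h, map_neg, map_one]⟩
  have hne : ∀ g : Matrix.SpecialLinearGroup (Fin 2) F, (g : Matrix (Fin 2) (Fin 2) F) 0 1 ≠ 0 →
      (g : Matrix.ProjectiveSpecialLinearGroup (Fin 2) F) ≠ 1 := by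
    intro g hg h
    rw [QuotientGroup.eq_one_iff, Matrix.SpecialLinearGroup.mem_center_iff] at h
    obtain ⟨r, -, hr⟩ := h
    exact hg (by rw [← hr]; simp)
  constructor
  · intro x
    induction x using QuotientGroup.induction_on with
    | _ g =>
    obtain ⟨e2, e3, e4, e7, e9⟩ := pow_trace (g : Matrix (Fin 2) (Fin 2) F) g.2
    set t := (g : Matrix (Fin 2) (Fin 2) F).trace
    have hcases : ∀ z : ZMod 7, z = 0 ∨ z = 1 ∨ z = -1 ∨ z = 2 ∨ z = -2 ∨ z = 3 ∨ z = -3 :=
      zmod_seven_cases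
    obtain ⟨z, hz⟩ := e.surjective t
    have ht : t = 0 ∨ t = 1 ∨ t = -1 ∨ t = 2 ∨ t = -2 ∨ t = 3 ∨ t = -3 := by
      rcases hcases z with rfl | rfl | rfl | rfl | rfl | rfl | rfl <;>
        simp [map_ofNat, map_neg] at hz <;> simp [← hz]
    have key : ∀ n : ℕ, ((g : Matrix (Fin 2) (Fin 2) F) ^ n = 1 ∨
        (g : Matrix (Fin 2) (Fin 2) F) ^ n = -1) →
        (g : Matrix.ProjectiveSpecialLinearGroup (Fin 2) F) ^ n = 1 := by
      intro n h
      rw [← QuotientGroup.mk_pow]
      exact hcent _ (by rwa [Matrix.SpecialLinearGroup.coe_pow])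
    have fin : ∀ (n : ℕ) (a b : F), (g : Matrix (Fin 2) (Fin 2) F) ^ n = a • (g : Matrix (Fin 2) (Fin 2) F) - b • 1 →
        a = 0 → (b = 1 ∨ b = -1) → (g : Matrix.ProjectiveSpecialLinearGroup (Fin 2) F) ^ n = 1 := by
      intro n a b h ha hb
      apply key
      rw [h, ha, zero_smul, zero_sub]
      rcases hb with rfl | rfl <;> simp
    rcases ht with h | h | h | h | h | h | h
    · left
      exact fin 4 _ _ e4 (by rw [h]; ring) (Or.inr (by rw [h]; ring))
    · right; right
      exact fin 9 _ _ e9 (by rw [h]; ring) (Or.inl (by rw [h]; ring))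
    · right; right
      exact fin 9 _ _ e9 (by rw [h]; ring) (Or.inr (by rw [h]; ring))
    · right; left
      exact fin 7 _ _ e7 (by rw [h]; linear_combination h7) (Or.inr (by rw [h]; linear_combination h7))
    · right; left
      exact fin 7 _ _ e7 (by rw [h]; linear_combination h7) (Or.inl (by rw [h]; linear_combination (-h7)))
    · left
      exact fin 4 _ _ e4 (by rw [h]; linear_combination (3 : F) * h7) (Or.inl (by rw [h]; linear_combination h7))
    · left
      exact fin 4 _ _ e4 (by rw [h]; linear_combination (-3 : F) * h7) (Or.inl (by rw [h]; linear_combination h7))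
  · intro p hp
    rcases hp with rfl | rfl | rfl
    · let A : Matrix.SpecialLinearGroup (Fin 2) F := ⟨!![0, 1; -1, 0], by simp⟩
      refine ⟨QuotientGroup.mk A, orderOf_eq_of_pow Nat.prime_two ?_ (hne A (by simp [A]))⟩
      rw [← QuotientGroup.mk_pow]
      refine hcent _ (Or.inr ?_)
      rw [Matrix.SpecialLinearGroup.coe_pow]
      show (!![(0 : F), 1; -1, 0]) ^ 2 = -1
      ext i j
      fin_cases i <;> fin_cases j <;> simp [pow_two, Matrix.mul_apply, Fin.sum_univ_two]
    · let A : Matrix.SpecialLinearGroup (Fin 2) F := ⟨!![0, 1; -1, -1], by simp⟩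
      refine ⟨QuotientGroup.mk A, orderOf_eq_of_pow Nat.prime_three ?_ (hne A (by simp [A]))⟩
      rw [← QuotientGroup.mk_pow]
      refine hcent _ (Or.inl ?_)
      rw [Matrix.SpecialLinearGroup.coe_pow]
      show (!![(0 : F), 1; -1, -1]) ^ 3 = 1
      ext i j
      fin_cases i <;> fin_cases j <;> simp [pow_three, Matrix.mul_apply, Fin.sum_univ_two]
    · let A : Matrix.SpecialLinearGroup (Fin 2) F := ⟨!![1, 1; 0, 1], by simp⟩
      refine ⟨QuotientGroup.mk A, orderOf_eq_of_pow (by norm_num) ?_ (hne A (by simp [A]))⟩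
      rw [← QuotientGroup.mk_pow]
      refine hcent _ (Or.inl ?_)
      rw [Matrix.SpecialLinearGroup.coe_pow]
      show (!![(1 : F), 1; 0, 1]) ^ 7 = 1
      have hn : ∀ n : ℕ, (!![(1 : F), 1; 0, 1]) ^ n = !![1, (n : F); 0, 1] := by
        intro n
        induction n with
        | zero => ext i j; fin_cases i <;> fin_cases j <;> simp
        | succ n ih =>
          rw [pow_succ, ih]
          ext i j; fin_cases i <;> fin_cases j <;> simp [Matrix.mul_apply, Fin.sum_univ_two, add_comm]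
      rw [hn]
      ext i j
      fin_cases i <;> fin_cases j <;> simp [h7]

end CfsgLib.Recognition.TwoThreeSeven
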