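import Cfsg.Agent.Lib.PGroup.NormalSquare
import Cfsg.Agent.Lib.ConstStab.Basic
import Cfsg.Agent.Lib.TwoGroups.OneInvolution

/-!
A finite `p`-group that is not cyclic, quaternion, dihedral or semidihedral has a normal
elementary abelian subgroup of order `p ^ 2`.
-/

set_option autoImplicit false

universe u

namespace CfsgLib.RecognitionNormalSquare

variable {P : Type u} [Group P] [Finite P] {p : ℕ} [hp : Fact p.Prime]

/-- The elementary part of a non-cyclic normal abelian subgroup descends to order `p ^ 2`. -/
theorem exists_of_normal_abelian (hP : IsPGroup p P) (A : Subgroup P) (hAn : A.Normal)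
    (hAab : IsMulCommutative A) (hAnc : ¬ IsCyclic A) :
    ∃ U : Subgroup P, U.Normal ∧ Cfsg.IsElementaryAbelian p U ∧ Nat.card ↥U = p ^ 2 := by
  classical
  haveI := hAab
  let W : Subgroup P :=
    { carrier := {x | x ∈ A ∧ x ^ p = 1}
      one_mem' := ⟨one_mem _, one_pow p⟩
      mul_mem' := fun {a b} ha hb => ⟨mul_mem ha.1 hb.1, by
        rw [(show Commute a b from setLike_mul_comm ha.1 hb.1).mul_pow, ha.2, hb.2, one_mul]⟩
      inv_mem' := fun {a} ha => ⟨inv_mem ha.1, by rw [inv_pow, ha.2, inv_one]⟩ }
  haveI hWn : W.Normal :=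
    ⟨fun x hx g => ⟨hAn.conj_mem x hx.1 g, by rw [conj_pow, hx.2, mul_one, mul_inv_cancel]⟩⟩
  have hW : Cfsg.IsElementaryAbelian p W :=
    ⟨⟨⟨fun a b => Subtype.ext (setLike_mul_comm a.2.1 b.2.1)⟩⟩, fun x hx => hx.2⟩
  obtain ⟨j, hj⟩ := CfsgLib.OddOrder.elemAb_card hW
  have hj2 : 2 ≤ j := by
    by_contra hlt
    apply hAnc
    have hle : Nat.card ↥W ≤ p := by
      rw [hj]
      calc p ^ j ≤ p ^ 1 := Nat.pow_le_pow_right hp.out.pos (by omega)
        _ = p := pow_one p
    letI : CommGroup ↥A := { (inferInstance : Group ↥A) with mul_comm := fun a b => mul_comm' a b }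
    refine CfsgLib.PGroup39.isCyclic_of_omega_le (hP.to_subgroup A) (le_trans (le_of_eq ?_) hle)
    exact Nat.card_congr
      { toFun := fun a => ⟨a.1.1, a.1.2, by simpa using congrArg Subtype.val (a.2 : a.1 ^ p = 1)⟩
        invFun := fun w => ⟨⟨w.1, w.2.1⟩, Subtype.ext (by simpa using w.2.2)⟩
        left_inv := fun a => rfl
        right_inv := fun w => rfl }
  have hdesc : ∀ j, 2 ≤ j → ∀ W : Subgroup P, W.Normal → Cfsg.IsElementaryAbelian p W →
      Nat.card ↥W = p ^ j →
      ∃ U : Subgroup P, U.Normal ∧ Cfsg.IsElementaryAbelian p U ∧ Nat.card ↥U = p ^ 2 := by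
    intro j hj
    induction j, hj using Nat.le_induction with
    | base => exact fun W h1 h2 h3 => ⟨W, h1, h2, h3⟩
    | succ j hj ih =>
      intro W hWn hW hcard
      have hWne : W ≠ ⊥ := fun h => by
        rw [h, Subgroup.card_bot] at hcard
        exact absurd hcard (ne_of_lt (Nat.one_lt_pow (by omega) hp.out.one_lt))
      obtain ⟨B, hBn, hBW, hBi, -⟩ := CfsgLib.PGroupBasic.exists_normal_relIndex_eq hP W hWne
      refine ih B hBn (CfsgLib.OddOrder.elemAb_mono hW hBW) ?_
      have h := Subgroup.relIndex_mul_relIndex ⊥ B W bot_le hBW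
      rw [Subgroup.relIndex_bot_left, Subgroup.relIndex_bot_left, hBi, hcard, pow_succ] at h
      exact Nat.eq_of_mul_eq_mul_right hp.out.pos h
  exact hdesc j hj2 W hWn hW hj

/-- A `p`-group outside the four exceptional families has a normal `p × p`. -/
theorem exists_normal_elementary_square_of_not_special (hP : IsPGroup p P) (hnc : ¬ IsCyclic P)
    (hnq : ∀ n : ℕ, ¬ Nonempty (P ≃* QuaternionGroup n))
    (hnd : ∀ n : ℕ, ¬ Nonempty (P ≃* DihedralGroup n)) (hnsd : ¬ Cfsg.IsQuasiDihedral P) :
    ∃ U : Subgroup P, U.Normal ∧ Cfsg.IsElementaryAbelian p U ∧ Nat.card ↥U = p ^ 2 := by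
  by_cases hn : ∀ A : Subgroup P, A.Normal → IsMulCommutative A → IsCyclic A
  · exfalso
    by_cases hm : ∃ B : Subgroup P, IsMulCommutative B ∧ ¬ IsCyclic B
    · obtain ⟨-, h | h | h⟩ := Cfsg.Agent.S0519.result p hP hn hm
      · obtain ⟨n, h⟩ := h; exact hnq n h
      · obtain ⟨n, -, h⟩ := h; exact hnd n h
      · exact hnsd h
    · push Not at hm
      -- commuting elements of order dividing `p` generate a cyclic group
      have hcom : ∀ x y : P, x ≠ 1 → x ^ p = 1 → y ^ p = 1 → Commute x y →
          y ∈ Subgroup.zpowers x := by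
        intro x y hx1 hx hy hxy
        let B := Subgroup.closure ({x, y} : Set P)
        have hxB : x ∈ B := Subgroup.subset_closure (Or.inl rfl)
        have hyB : y ∈ B := Subgroup.subset_closure (Or.inr rfl)
        have : IsMulCommutative B := by
          refine Subgroup.isMulCommutative_closure ?_
          rintro a (rfl | rfl) b (rfl | rfl)
          · rfl
          · exact hxy
          · exact hxy.symm
          · rfl
        haveI := hm B this
        obtain ⟨g, hg⟩ := IsCyclic.exists_generator (α := B)
        have hord : orderOf (⟨x, hxB⟩ : B) = p :=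
          orderOf_eq_prime (Subtype.ext hx) fun h => hx1 (congrArg Subtype.val h)
        have hle : Subgroup.zpowers (⟨y, hyB⟩ : B) ≤ Subgroup.zpowers (⟨x, hxB⟩ : B) := by
          have hd : Nat.card (Subgroup.zpowers (⟨y, hyB⟩ : B)) ∣
              Nat.card (Subgroup.zpowers (⟨x, hxB⟩ : B)) := by
            rw [Nat.card_zpowers, Nat.card_zpowers, hord]
            exact orderOf_dvd_of_pow_eq_one (Subtype.ext hy)
          classical
          haveI := Fintype.ofFinite B
          intro w hw
          have hwp : w ^ p = 1 := by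
            obtain ⟨k, rfl⟩ := Subgroup.mem_zpowers_iff.1 hw
            rw [← zpow_natCast (_ ^ k), ← zpow_mul, mul_comm, zpow_mul, zpow_natCast,
              show (⟨y, hyB⟩ : B) ^ p = 1 from Subtype.ext hy, one_zpow]
          have hsub : (Finset.univ.filter fun a : B => a ^ p = 1) =
              Finset.univ.filter fun a : B => a ∈ Subgroup.zpowers (⟨x, hxB⟩ : B) := by
            refine (Finset.eq_of_subset_of_card_le (fun a ha => ?_) ?_).symm
            · simp only [Finset.mem_filter, Finset.mem_univ, true_and] at ha ⊢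
              obtain ⟨k, rfl⟩ := Subgroup.mem_zpowers_iff.1 ha
              rw [← zpow_natCast (_ ^ k), ← zpow_mul, mul_comm, zpow_mul, zpow_natCast,
                show (⟨x, hxB⟩ : B) ^ p = 1 from Subtype.ext hx, one_zpow]
            · refine (IsCyclic.card_pow_eq_one_le hp.out.pos).trans (le_of_eq ?_)
              rw [← Fintype.card_subtype, ← Nat.card_eq_fintype_card]
              exact (hord.symm.trans (Nat.card_zpowers _).symm)
          have : w ∈ Finset.univ.filter fun a : B => a ^ p = 1 := by simp [hwp]
          rw [hsub] at this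
          simpa using this
        obtain ⟨k, hk⟩ := Subgroup.mem_zpowers_iff.1 (hle (Subgroup.mem_zpowers _))
        exact Subgroup.mem_zpowers_iff.2 ⟨k, congrArg Subtype.val hk⟩
      obtain ⟨z, hzc, hz⟩ : ∃ z ∈ Subgroup.center P, orderOf z = p := by
        have : Nontrivial P := by
          by_contra hno
          rw [not_nontrivial_iff_subsingleton] at hno
          exact hnc inferInstance
        have := hP.center_nontrivial
        obtain ⟨k, hk⟩ := (hP.to_subgroup (Subgroup.center P)).exists_card_eq
        have hk0 : k ≠ 0 := fun h => by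
          rw [h, pow_zero] at hk
          exact absurd (Finite.one_lt_card_iff_nontrivial.2 this) (by omega)
        obtain ⟨⟨z, hzc⟩, hz⟩ := exists_prime_orderOf_dvd_card' p (hk ▸ dvd_pow_self p hk0)
        exact ⟨z, hzc, by rw [← hz, Subgroup.orderOf_mk]⟩
      have hz1 : z ≠ 1 := fun h => by rw [h, orderOf_one] at hz; exact hp.out.one_lt.ne hz
      have hzp : z ^ p = 1 := hz ▸ pow_orderOf_eq_one z
      have huniq : ∀ x y : P, x ≠ 1 → x ^ p = 1 → y ^ p = 1 → y ∈ Subgroup.zpowers x := by
        intro x y hx1 hx hy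
        have h1 := hcom x z hx1 hx hzp (Subgroup.mem_center_iff.1 hzc x)
        have h2 := hcom z y hz1 hzp hy (Subgroup.mem_center_iff.1 hzc y).symm
        exact Subgroup.zpowers_le.2 h1 h2
      by_cases hp2 : p = 2
      · subst hp2
        rcases CfsgLib.TwoGroups.OneInvolution.isCyclic_or_quaternion hP (fun a b ha hb => by
            have hb' := huniq a b (fun h => by rw [h, orderOf_one] at ha; omega)
              (ha ▸ pow_orderOf_eq_one a) (hb ▸ pow_orderOf_eq_one b)
            obtain ⟨k, rfl⟩ := (isOfFinOrder_of_finite a).mem_powers_iff_mem_zpowers.2 hb'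
            change orderOf (a ^ k) = 2 at hb
            show a = a ^ k
            rw [← Nat.mod_add_div k 2, pow_add, pow_mul, ← ha, pow_orderOf_eq_one, one_pow,
              mul_one, ha]
            rcases Nat.mod_two_eq_zero_or_one k with h | h
            · exfalso
              rw [← Nat.mod_add_div k 2, h, zero_add, pow_mul, ← ha, pow_orderOf_eq_one, one_pow,
                orderOf_one] at hb
              omega
            · rw [h, pow_one]) with h | ⟨n, -, h⟩
        · exact hnc h
        · exact hnq _ h
      · exact hnc (CfsgLib.ConstStab.isCyclic_of_unique_prime_subgroup hp2 hP huniq)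
  · push Not at hn
    obtain ⟨A, hAn, hAab, hAnc⟩ := hn
    exact exists_of_normal_abelian hP A hAn hAab hAnc

end CfsgLib.RecognitionNormalSquare
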