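import Cfsg.Agent.S3378

/-!
A few finite facts about `SL(2,5)`: centre, an element of order four, the five Sylow 2-subgroups.
-/

set_option autoImplicit false

open scoped Pointwise

namespace CfsgLib.Recognition.SL25

open Cfsg.Agent.S3378

/-- Shorthand. -/
abbrev SL25 : Type := Matrix.SpecialLinearGroup (Fin 2) (ZMod 5)

/-- An element of order four. -/
def ai : SL25 := ⟨!![2, 0; 0, 3], by decide +kernel⟩

/-- Another one, generating a quaternion group with `ai`. -/
def aj : SL25 := ⟨!![0, 1; -1, 0], by decide +kernel⟩

/-- The quaternion group as a list. -/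
def qList : List SL25 := [1, gz, ai, gz * ai, aj, gz * aj, ai * aj, gz * (ai * aj)]

theorem qList_nodup : (qList.map quad).Nodup := by decide +kernel

theorem qList_mul : ∀ a ∈ qList, ∀ b ∈ qList, quad (a * b) ∈ qList.map quad := by decide +kernel

theorem qList_inv : ∀ a ∈ qList, quad a⁻¹ ∈ qList.map quad := by decide +kernel

theorem mem_of_quad {g : SL25} {l : List SL25} (h : quad g ∈ l.map quad) : g ∈ l := by
  obtain ⟨g', hg', he⟩ := List.mem_map.1 h
  exact quad_injective he ▸ hg'

/-- A Sylow 2-subgroup. -/
def qGroup : Subgroup SL25 where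
  carrier := {g | g ∈ qList}
  one_mem' := List.mem_cons_self ..
  mul_mem' := fun ha hb => mem_of_quad (qList_mul _ ha _ hb)
  inv_mem' := fun ha => mem_of_quad (qList_inv _ ha)

/-- Whether `g` normalises the quaternion group. -/
def normQ (g : SL25) : Bool := qList.all fun a => decide (quad (g * a * g⁻¹) ∈ qList.map quad)

/-- The normaliser as a list. -/
def nList : List SL25 := elts.filter normQ

theorem nList_nodup : (nList.map quad).Nodup := by decide +kernel

theorem nList_length : nList.length = 24 := by decide +kernel

theorem core_check : ∀ g ∈ elts,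
    ([1, gx, gx * gx, gy, gy * gy, gy * gy * gy, gy * gy * gy * gy].all
        fun h => normQ (h⁻¹ * g * h)) = true →
      quad g = quad 1 ∨ quad g = quad gz := by
  decide +kernel

theorem center_check : ∀ g ∈ elts, quad (g * gx) = quad (gx * g) → quad (g * gy) = quad (gy * g) →
      quad g = quad 1 ∨ quad g = quad gz := by
  decide +kernel

theorem ai_check : quad (ai ^ 2) = quad gz ∧ quad gz ≠ quad 1 ∧ quad (gz ^ 2) = quad 1 := by
  decide +kernel

theorem card_sl25 : Nat.card SL25 = 120 := by
  refine le_antisymm ?_ card_ge
  have hsurj : Function.Surjective (fun i : Fin elts.length => elts[i]) := fun g => by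
    obtain ⟨i, hi, he⟩ := List.getElem_of_mem (mem_elts g)
    exact ⟨⟨i, hi⟩, he⟩
  refine (Nat.card_le_card_of_surjective _ hsurj).trans ?_
  have h := elts_check.2.1
  rw [List.length_map] at h
  rw [Nat.card_fin, h]

theorem orderOf_ai : orderOf ai = 4 := by
  obtain ⟨h1, h2, h3⟩ := ai_check
  refine orderOf_eq_prime_pow (p := 2) (n := 1) ?_ ?_
  · rw [pow_one, quad_injective h1]; exact fun h => h2 (congrArg quad h)
  · show ai ^ (2 * 2) = 1
    rw [pow_mul, quad_injective h1, quad_injective h3]

theorem eq_one_or_gz_of_commute {g : SL25} (h : ∀ x, g * x = x * g) : g = 1 ∨ g = gz :=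
  (center_check g (mem_elts g) (by rw [h]) (by rw [h])).imp
    (fun e => quad_injective e) (fun e => quad_injective e)

theorem mem_qGroup {g : SL25} : g ∈ qGroup ↔ g ∈ qList := Iff.rfl

theorem mem_normalizer_qGroup {g : SL25} :
    g ∈ Subgroup.normalizer (qGroup : Set SL25) ↔ g ∈ nList := by
  have hn : g ∈ nList ↔ normQ g = true := by simp [nList, mem_elts]
  rw [hn, normQ, List.all_eq_true]
  constructor
  · intro h a ha
    simp only [decide_eq_true_eq]
    exact List.mem_map_of_mem ((Subgroup.mem_normalizer_iff.1 h a).1 ha)
  · intro h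
    apply Subgroup.mem_normalizer_fintype
    intro a ha
    have := h a ha
    simp only [decide_eq_true_eq] at this
    exact mem_of_quad this

theorem natCard_mem_list {l : List SL25} (hl : l.Nodup) :
    Nat.card {g : SL25 // g ∈ l} = l.length := by
  rw [← Nat.card_fin l.length]
  exact Nat.card_congr (hl.getEquiv l).symm

theorem card_qGroup : Nat.card qGroup = 8 := by
  refine Eq.trans ?_ (natCard_mem_list (qList_nodup.of_map _))
  rfl

theorem index_normalizer_qGroup : (Subgroup.normalizer (qGroup : Set SL25)).index = 5 := by
  have hc : Nat.card (Subgroup.normalizer (qGroup : Set SL25)) = 24 := by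
    rw [Nat.card_congr (Equiv.subtypeEquivRight fun g => mem_normalizer_qGroup (g := g)),
      natCard_mem_list (nList_nodup.of_map _), nList_length]
  have h := (Subgroup.normalizer (qGroup : Set SL25)).card_mul_index
  rw [hc, card_sl25] at h
  omega

theorem eq_one_or_gz_of_core {g : SL25}
    (h : ∀ x : SL25, x⁻¹ * g * x ∈ Subgroup.normalizer (qGroup : Set SL25)) : g = 1 ∨ g = gz := by
  refine (core_check g (mem_elts g) ?_).imp (fun e => quad_injective e) (fun e => quad_injective e)
  rw [List.all_eq_true]
  intro x _
  have := mem_normalizer_qGroup.1 (h x)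
  rw [nList, List.mem_filter] at this
  exact this.2

end CfsgLib.Recognition.SL25
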