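import Mathlib

/-!
Stabiliser chains with decidable certificates for subgroups of `Equiv.Perm (Fin n)` given by
generators.
-/

set_option autoImplicit false

namespace CfsgLib.SiftChain

variable {n : ℕ} (gen : ℕ → Equiv.Perm (Fin n))

/-- A level: base point, number of generators, words for the transversal. -/
structure Level (n : ℕ) where
  base : Fin n
  k : ℕ
  words : List (List ℕ)

/-- The element of a word. -/
def eval (w : List ℕ) : Equiv.Perm (Fin n) := (w.map gen).prod

/-- Number of generators of a chain. -/
def topK : List (Level n) → ℕ
  | [] => 0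
  | l :: _ => l.k

/-- Membership test. -/
def sift : List (Level n) → Equiv.Perm (Fin n) → Bool
  | [], p => decide (∀ i, p i = i)
  | l :: r, p => (l.words.find? fun w => eval gen w l.base == p l.base).elim false
      fun w => sift r ((eval gen w)⁻¹ * p)

/-- The certificate check. -/
def check : List (Level n) → Bool
  | [] => true
  | l :: r => decide (topK r ≤ l.k) &&
      (List.range (topK r)).all (fun i => gen i l.base == l.base) &&
      decide (l.words.map fun w => eval gen w l.base).Nodup &&
      l.words.contains [] &&
      (l.words.all fun w => w.all fun i => decide (i < l.k)) &&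
      ((List.range l.k).all fun i => l.words.all fun w => sift gen (l :: r) (gen i * eval gen w)) &&
      check r

/-- The group of a chain. -/
def grp (ch : List (Level n)) : Subgroup (Equiv.Perm (Fin n)) :=
  Subgroup.closure (gen '' {i | i < topK ch})

variable {gen}

theorem grp_fix {l : Level n} {r : List (Level n)}
    (hfix : ∀ i < topK r, gen i l.base = l.base) {h : Equiv.Perm (Fin n)} (hh : h ∈ grp gen r) :
    h l.base = l.base := by
  have hle : grp gen r ≤ MulAction.stabilizer (Equiv.Perm (Fin n)) l.base := by
    rw [grp, Subgroup.closure_le]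
    rintro _ ⟨i, hi, rfl⟩
    exact hfix i hi
  exact hle hh

/-- The main property of a checked chain. -/
theorem main : ∀ (ch : List (Level n)), check gen ch = true →
    (∀ p, sift gen ch p = true ↔ p ∈ grp gen ch) ∧
      Nat.card (grp gen ch) = (ch.map fun l => l.words.length).prod := by
  intro ch
  induction ch with
  | nil =>
    intro _
    have h0 : grp gen ([] : List (Level n)) = ⊥ := by
      rw [grp, show gen '' {i | i < topK ([] : List (Level n))} = ∅ by simp [topK]]
      exact Subgroup.closure_empty
    refine ⟨fun p => ?_, by rw [h0]; simp⟩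
    simp [sift, h0, Equiv.ext_iff]
  | cons l r ih =>
    intro hc
    simp only [check, Bool.and_eq_true, List.all_eq_true, List.mem_range, decide_eq_true_eq,
      beq_iff_eq, List.contains_iff_mem] at hc
    obtain ⟨⟨⟨⟨⟨⟨hk, hfix⟩, hnd⟩, hnil⟩, hw⟩, hcl⟩, hr⟩ := hc
    obtain ⟨hsift, hcard⟩ := ih hr
    have hsub : grp gen r ≤ grp gen (l :: r) :=
      Subgroup.closure_mono (Set.image_mono fun i (hi : i < topK r) => lt_of_lt_of_le hi hk)
    have hev : ∀ w ∈ l.words, eval gen w ∈ grp gen (l :: r) := by
      intro w hwm
      apply Subgroup.list_prod_mem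
      intro x hx
      obtain ⟨i, hi, rfl⟩ := List.mem_map.1 hx
      exact Subgroup.subset_closure ⟨i, hw w hwm i hi, rfl⟩
    have hinj : ∀ w ∈ l.words, ∀ w' ∈ l.words, eval gen w l.base = eval gen w' l.base → w = w' :=
      fun w hwm w' hwm' e => List.inj_on_of_nodup_map hnd hwm hwm' e
    -- sift gives a decomposition
    have hdec : ∀ p, sift gen (l :: r) p = true →
        ∃ w ∈ l.words, (eval gen w)⁻¹ * p ∈ grp gen r := by
      intro p hp
      rcases hf : l.words.find? (fun w => eval gen w l.base == p l.base) with - | w
      · simp [sift, hf] at hp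
      · refine ⟨w, List.mem_of_find?_eq_some hf, ?_⟩
        rw [← hsift]
        simpa [sift, hf] using hp
    have hdec' : ∀ p, (∃ w ∈ l.words, (eval gen w)⁻¹ * p ∈ grp gen r) →
        sift gen (l :: r) p = true := by
      rintro p ⟨w, hwm, hp⟩
      have hb : p l.base = eval gen w l.base := by
        have := congrArg (eval gen w) (grp_fix hfix hp)
        simpa using this
      rcases hf : l.words.find? (fun w => eval gen w l.base == p l.base) with - | w'
      · have := List.find?_eq_none.1 hf w hwm
        simp [hb] at this
      · have h1 : eval gen w' l.base = p l.base := by simpa using List.find?_some hf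
        obtain rfl := hinj w' (List.mem_of_find?_eq_some hf) w hwm (h1.trans hb)
        simp only [sift, hf, Option.elim]
        exact (hsift _).2 hp
    have hall : ∀ p, sift gen (l :: r) p = true ↔ p ∈ grp gen (l :: r) := by
      intro p
      constructor
      · intro hp
        obtain ⟨w, hwm, hh⟩ := hdec p hp
        have := mul_mem (hev w hwm) (hsub hh)
        rwa [mul_inv_cancel_left] at this
      · intro hp
        have hstep : ∀ i < l.k, ∀ x, sift gen (l :: r) x = true →
            sift gen (l :: r) (gen i * x) = true := by
          intro i hi x hx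
          obtain ⟨w, hwm, hh⟩ := hdec x hx
          obtain ⟨w', hwm', hh'⟩ := hdec _ (hcl i hi w hwm)
          refine hdec' _ ⟨w', hwm', ?_⟩
          have := mul_mem hh' hh
          convert this using 1
          group
        induction hp using Subgroup.closure_induction_left with
        | one =>
          refine hdec' _ ⟨[], hnil, ?_⟩
          simp [eval]
        | mul_left x hx y _ ihy =>
          obtain ⟨i, hi, rfl⟩ := hx
          exact hstep i hi y ihy
        | inv_mul_cancel x hx y _ ihy =>
          obtain ⟨i, hi, rfl⟩ := hx
          have hpow : ∀ m : ℕ, sift gen (l :: r) (gen i ^ m * y) = true := by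
            intro m
            induction m with
            | zero => simpa using ihy
            | succ m ihm => rw [pow_succ', mul_assoc]; exact hstep i hi _ ihm
          have h1 : gen i ^ (orderOf (gen i) - 1) * gen i = 1 := by
            rw [← pow_succ, Nat.sub_add_cancel (orderOf_pos _), pow_orderOf_eq_one]
          rw [← eq_inv_of_mul_eq_one_left h1]
          exact hpow _
    refine ⟨hall, ?_⟩
    let f : Fin l.words.length × grp gen r → grp gen (l :: r) := fun x =>
      ⟨eval gen l.words[x.1] * x.2, mul_mem (hev _ (List.getElem_mem _)) (hsub x.2.2)⟩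
    have hf : Function.Bijective f := by
      constructor
      · rintro ⟨a, h⟩ ⟨b, h'⟩ e
        have e1 : eval gen l.words[a] * (h : Equiv.Perm (Fin n)) = eval gen l.words[b] * h' :=
          congrArg Subtype.val e
        have e2 := congrArg (fun q : Equiv.Perm (Fin n) => q l.base) e1
        simp only [Equiv.Perm.mul_apply, grp_fix hfix h.2, grp_fix hfix h'.2] at e2
        have hab : a = b := by
          apply Fin.ext
          refine (List.Nodup.getElem_inj_iff hnd (hi := by rw [List.length_map]; exact a.2)
            (hj := by rw [List.length_map]; exact b.2)).1 ?_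
          simpa using e2
        subst hab
        exact Prod.ext rfl (Subtype.ext (mul_left_cancel e1))
      · rintro ⟨p, hp⟩
        obtain ⟨w, hwm, hh⟩ := hdec p ((hall p).2 hp)
        obtain ⟨a, ha, rfl⟩ := List.getElem_of_mem hwm
        exact ⟨(⟨a, ha⟩, ⟨_, hh⟩), Subtype.ext (mul_inv_cancel_left _ _)⟩
    rw [← Nat.card_eq_of_bijective f hf, Nat.card_prod, Nat.card_fin, hcard, List.map_cons,
      List.prod_cons]

/-- The stabiliser of the first base point. -/
theorem mem_tail {l : Level n} {r : List (Level n)} (hc : check gen (l :: r) = true)
    {p : Equiv.Perm (Fin n)} :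
    p ∈ grp gen r ↔ p ∈ grp gen (l :: r) ∧ p l.base = l.base := by
  have hc' := hc
  simp only [check, Bool.and_eq_true, List.all_eq_true, List.mem_range, decide_eq_true_eq,
    beq_iff_eq, List.contains_iff_mem] at hc'
  obtain ⟨⟨⟨⟨⟨⟨hk, hfix⟩, hnd⟩, hnil⟩, hw⟩, hcl⟩, hr⟩ := hc'
  constructor
  · intro hp
    exact ⟨Subgroup.closure_mono (Set.image_mono fun i (hi : i < topK r) =>
      lt_of_lt_of_le hi hk) hp, grp_fix hfix hp⟩
  · rintro ⟨hp, hb⟩
    have hs := ((main _ hc).1 p).2 hp
    rcases hf : l.words.find? (fun w => eval gen w l.base == p l.base) with - | w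
    · simp [sift, hf] at hs
    · have h1 : eval gen w l.base = p l.base := by simpa using List.find?_some hf
      obtain rfl : w = [] := List.inj_on_of_nodup_map hnd (List.mem_of_find?_eq_some hf) hnil
        (by rw [h1, hb]; simp [eval])
      rw [← (main r hr).1]
      simp only [sift, hf, Option.elim] at hs
      simpa [eval] using hs

end CfsgLib.SiftChain
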