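import Cfsg.Agent.Lib.Maximal.ThompsonWielandt

/-!
# Wielandt's bound for stabilizers in primitive groups

Index bounds for the iterated cores of two stabilizers, and the resulting trichotomy used for the
Thompson–Wielandt family of statements.
-/

set_option autoImplicit false

namespace CfsgLib.Recognition.WielandtBound

open Subgroup CfsgLib.Maximal.TW
open scoped Nat

variable {G : Type*} [Group G]

lemma normalCore_index_dvd [Finite G] (S : Subgroup G) : S.normalCore.index ∣ S.index ! := by
  rw [normalCore_eq_ker, index_ker, index_eq_card, ← Nat.card_perm]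
  exact card_subgroup_dvd_card (MulAction.toPermHom G (G ⧸ S)).range

lemma index_iInf_dvd_pow {ι : Type*} [Fintype ι] [Finite G] (N : ι → Subgroup G)
    (hn : ∀ i, (N i).Normal) {n : ℕ} (h : ∀ i, (N i).index ∣ n) :
    (⨅ i, N i).index ∣ n ^ Nat.card ι := by
  have hker : (⨅ i, N i) = (MonoidHom.mk' (fun g i => QuotientGroup.mk' (N i) g)
      (fun a b => funext fun i => map_mul (QuotientGroup.mk' (N i)) a b)).ker := by
    ext x
    simp [MonoidHom.mem_ker, funext_iff, Subgroup.mem_iInf]
  rw [hker, index_ker]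
  refine (card_subgroup_dvd_card _).trans ?_
  rw [Nat.card_pi, Nat.card_eq_fintype_card, ← Finset.card_univ, ← Finset.prod_const]
  exact Finset.prod_dvd_prod_of_dvd _ _ fun i _ => h i

lemma normalCore_relIndex_dvd [Finite G] (S A X : Subgroup G) [hA : A.Normal]
    (hS : S ≤ normalizer (X : Set G)) (hXn : A ≤ normalizer (X : Set G)) (hXA : X ≤ A) {n : ℕ}
    (h : X.relIndex A ∣ n) : X.normalCore.relIndex A ∣ n ^ S.index := by
  classical
  have := Fintype.ofFinite (G ⧸ S)
  set N : G ⧸ S → Subgroup G := fun q => X.map (MulAut.conj q.out).toMonoidHom with hNdef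
  have hle : (⨅ q, N q) ≤ X.normalCore := by
    intro x hx g
    have hq := Subgroup.mem_iInf.mp hx (QuotientGroup.mk g⁻¹)
    obtain ⟨y, hy, hyx⟩ := hq
    obtain ⟨s, hs⟩ := QuotientGroup.mk_out_eq_mul S g⁻¹
    replace hyx : (QuotientGroup.mk g⁻¹ : G ⧸ S).out * y * (QuotientGroup.mk g⁻¹ : G ⧸ S).out⁻¹ = x := hyx
    rw [hs] at hyx
    have he : g * x * g⁻¹ = (s : G) * y * (s : G)⁻¹ := by rw [← hyx]; group
    rw [he]
    exact (mem_normalizer_iff.mp (hS s.2) y).mp hy
  refine (relIndex_dvd_of_le_left A hle).trans ?_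
  have hmap : ∀ q : G ⧸ S, A.map (MulAut.conj q.out).toMonoidHom = A := fun q => by
    refine eq_of_le_of_card_ge ?_ (card_map_of_injective (MulAut.conj q.out).injective).ge
    rintro _ ⟨y, hy, rfl⟩
    exact hA.conj_mem y hy _
  show ((⨅ q, N q).subgroupOf A).index ∣ _
  rw [show (⨅ q, N q).subgroupOf A = ⨅ q, (N q).subgroupOf A from Subgroup.comap_iInf _ _,
    index_eq_card (H := S)]
  refine index_iInf_dvd_pow _ (fun q => ?_) fun q => ?_
  · have hle : N q ≤ A := by
      rw [← hmap q]; exact map_mono hXA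
    refine (normal_subgroupOf_iff_le_normalizer hle).mpr ?_
    intro c hc
    rw [← hmap q] at hc
    obtain ⟨c₀, hc₀, rfl⟩ := hc
    exact le_normalizer_map (MulAut.conj q.out).toMonoidHom ⟨c₀, hXn hc₀, rfl⟩
  · show (N q).relIndex A ∣ n
    rw [← hmap q, hNdef, relIndex_map_map_of_injective _ _ (MulAut.conj q.out).injective]
    exact h

/-- The second iterated core has index dividing `d!·((d-1)!)^d`. -/
lemma coreIn_index_dvd [Finite G] {H K : Subgroup G} {d : ℕ} (hd : (H ⊓ K).relIndex H = d)
    (hd' : (H ⊓ K).relIndex K = d) :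
    ((coreIn H (H ⊓ K) ⊓ coreIn K (H ⊓ K)).subgroupOf H).normalCore.index
      ∣ d ! * ((d - 1)!) ^ d := by
  set A₁ := coreIn H (H ⊓ K) with hA₁
  set B₁ := coreIn K (H ⊓ K) with hB₁
  set S := (H ⊓ K).subgroupOf H with hS
  set A := S.normalCore with hAdef
  set X := (A₁ ⊓ B₁).subgroupOf H with hX
  have hA1' : A₁.subgroupOf H = A := comap_map_eq_self_of_injective (subtype_injective H) _
  have hdS : S.index = d := hd
  have hXA : X ≤ A := hA1' ▸ comap_mono inf_le_left
  have hnX : H ⊓ K ≤ normalizer ((A₁ ⊓ B₁ : Subgroup G) : Set G) :=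
    (le_inf (inf_le_left.trans (le_normalizer_coreIn _ _)) (inf_le_right.trans (le_normalizer_coreIn _ _))).trans
      inf_normalizer_le_normalizer_inf
  have hSn : S ≤ normalizer (X : Set H) := by
    intro s hs
    rw [mem_normalizer_iff]
    intro x
    exact mem_normalizer_iff.mp (hnX hs) (x : G)
  have hd0 : d ≠ 0 := hdS ▸ index_ne_zero_of_finite
  have hB : B₁.relIndex (H ⊓ K) ∣ (d - 1)! := by
    have h1 : B₁.relIndex K ∣ d ! := by
      have h : (B₁.subgroupOf K).index ∣ d ! := by
        rw [hB₁, coreIn, subgroupOf, comap_map_eq_self_of_injective (subtype_injective K)]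
        refine hd' ▸ normalCore_index_dvd _
      exact h
    rw [← relIndex_mul_relIndex B₁ (H ⊓ K) K (coreIn_le_right _ _) inf_le_right, hd', mul_comm,
      ← Nat.mul_factorial_pred hd0] at h1
    exact Nat.dvd_of_mul_dvd_mul_left (Nat.pos_of_ne_zero hd0) h1
  have hXrel : X.relIndex A ∣ (d - 1)! := by
    rw [hX, subgroupOf, relIndex_comap, show A.map H.subtype = A₁ from rfl, inf_relIndex_left]
    refine dvd_trans ?_ hB
    have hn : (B₁.subgroupOf (H ⊓ K)).Normal := (normal_subgroupOf_iff_le_normalizer (coreIn_le_right _ _)).mpr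
      (inf_le_right.trans (le_normalizer_coreIn _ _))
    have h := relIndex_dvd_index_of_normal (B₁.subgroupOf (H ⊓ K)) (A₁.subgroupOf (H ⊓ K))
    rwa [subgroupOf, subgroupOf, relIndex_comap, map_comap_eq_self (by rw [range_subtype]; exact coreIn_le_right _ _)] at h
  have h := normalCore_relIndex_dvd S A X hSn ((normalCore_le S).trans hSn) hXA hXrel
  rw [hdS] at h
  rw [← relIndex_mul_index ((normalCore_le X).trans hXA), mul_comm]
  refine mul_dvd_mul ?_ h
  rw [hAdef, ← hdS]
  exact normalCore_index_dvd S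

section Action

variable {Ω : Type*} [MulAction G Ω] [FaithfulSMul G Ω] {a b : Ω} {d : ℕ}

lemma setting [Finite G] (hprim : MulAction.IsPreprimitive G Ω)
    (hd : Nat.card (MulAction.orbit (MulAction.stabilizer G a) b) = d) (h2 : 2 ≤ d) :
    IsCoatom (MulAction.stabilizer G a) ∧ (MulAction.stabilizer G a).normalCore = ⊥ ∧
      MulAction.stabilizer G a ≠ MulAction.stabilizer G b ∧
      (∃ g : G, g • a = b ∧
        MulAction.stabilizer G b = (MulAction.stabilizer G a).map (MulAut.conj g).toMonoidHom) ∧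
      (MulAction.stabilizer G a ⊓ MulAction.stabilizer G b).relIndex (MulAction.stabilizer G a) = d ∧
      (MulAction.stabilizer G a ⊓ MulAction.stabilizer G b).relIndex (MulAction.stabilizer G b) = d := by
  obtain ⟨g, hg⟩ := MulAction.exists_smul_eq G a b
  have hrel : (MulAction.stabilizer G a ⊓ MulAction.stabilizer G b).relIndex (MulAction.stabilizer G a) = d := by
    rw [inf_relIndex_left, ← hd]
    show ((MulAction.stabilizer G b).subgroupOf (MulAction.stabilizer G a)).index = _
    have : (MulAction.stabilizer G b).subgroupOf (MulAction.stabilizer G a) =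
        MulAction.stabilizer (MulAction.stabilizer G a) b := rfl
    rw [this, MulAction.index_stabilizer, ← Nat.card_coe_set_eq]
  have hne : MulAction.stabilizer G a ≠ MulAction.stabilizer G b := by
    intro h
    rw [← h, inf_idem, relIndex_self] at hrel
    omega
  have : Nontrivial Ω := ⟨⟨a, b, fun h => hne (h ▸ rfl)⟩⟩
  have hconj : MulAction.stabilizer G b = (MulAction.stabilizer G a).map (MulAut.conj g).toMonoidHom :=
    hg ▸ MulAction.stabilizer_smul_eq_stabilizer_map_conj g a
  refine ⟨MulAction.IsPreprimitive.isCoatom_stabilizer_of_isPreprimitive G a, ?_, hne, ⟨g, hg, hconj⟩, hrel, ?_⟩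
  · rw [eq_bot_iff]
    intro x hx
    refine mem_bot.mpr (FaithfulSMul.eq_of_smul_eq_smul fun w : Ω => ?_)
    obtain ⟨k, rfl⟩ := MulAction.exists_smul_eq G a w
    have h := hx k⁻¹
    rw [inv_inv, MulAction.mem_stabilizer_iff, mul_smul, mul_smul, inv_smul_eq_iff] at h
    rw [h, one_smul]
  · have hcard : Nat.card (MulAction.stabilizer G b) = Nat.card (MulAction.stabilizer G a) :=
      hconj ▸ card_map_of_injective (MulAut.conj g).injective
    have h1 := relIndex_mul_relIndex ⊥ (MulAction.stabilizer G a ⊓ MulAction.stabilizer G b)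
      (MulAction.stabilizer G a) bot_le inf_le_left
    have h2 := relIndex_mul_relIndex ⊥ (MulAction.stabilizer G a ⊓ MulAction.stabilizer G b)
      (MulAction.stabilizer G b) bot_le inf_le_right
    rw [relIndex_bot_left, relIndex_bot_left] at h1 h2
    rw [hrel] at h1
    rw [hcard, ← h1] at h2
    exact Nat.eq_of_mul_eq_mul_left Nat.card_pos h2

/-- Either the order of the stabilizer divides the bound, or it is strongly constrained and has a
normal `p`-subgroup of bounded index fixing `b`. -/
theorem wielandt_dichotomy [Finite G] (hprim : MulAction.IsPreprimitive G Ω)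
    (hd : Nat.card (MulAction.orbit (MulAction.stabilizer G a) b) = d) (h2 : 2 ≤ d) :
    Nat.card (MulAction.stabilizer G a) ∣ d ! * ((d - 1)!) ^ d ∨
      ∃ p : ℕ, p.Prime ∧
        Cfsg.generalizedFittingSubgroup (MulAction.stabilizer G a) = Cfsg.pCore p (MulAction.stabilizer G a) ∧
        ∃ P : Subgroup (MulAction.stabilizer G a), P.Normal ∧ P ≠ ⊥ ∧ IsPGroup p P ∧
          P.map (MulAction.stabilizer G a).subtype ≤ MulAction.stabilizer G a ⊓ MulAction.stabilizer G b ∧
          P.index ∣ d ! * ((d - 1)!) ^ d := by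
  obtain ⟨hmax, hcore, hne, ⟨g, -, hconj⟩, hr, hr'⟩ := setting hprim hd h2
  set H := MulAction.stabilizer G a
  set K := MulAction.stabilizer G b
  let AB : ℕ → Subgroup G × Subgroup G := fun i =>
    Nat.rec (H, K) (fun _ q => (coreIn H (q.1 ⊓ q.2), coreIn K (q.1 ⊓ q.2))) i
  by_cases hA2 : ((coreIn H (H ⊓ K) ⊓ coreIn K (H ⊓ K)).subgroupOf H).normalCore = ⊥
  · left
    have := coreIn_index_dvd hr hr'
    rwa [hA2, index_bot] at this
  by_cases hB2 : ((coreIn H (H ⊓ K) ⊓ coreIn K (H ⊓ K)).subgroupOf K).normalCore = ⊥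
  · left
    have := coreIn_index_dvd (H := K) (K := H) (inf_comm H K ▸ hr') (inf_comm H K ▸ hr)
    rw [inf_comm K H, inf_comm (coreIn K _) (coreIn H _), hB2, index_bot, hconj,
      card_map_of_injective (MulAut.conj g).injective] at this
    exact this
  right
  have hA2' : (AB 2).1 ≠ ⊥ := fun h => hA2 ((map_eq_bot_iff_of_injective _ (subtype_injective H)).mp h)
  have hB2' : (AB 2).2 ≠ ⊥ := fun h => hB2 ((map_eq_bot_iff_of_injective _ (subtype_injective K)).mp h)
  obtain ⟨p, hp, hpg, hF, -⟩ := thompson_wielandt H K hmax g hconj hne hcore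
    (fun i => (AB i).1) (fun i => (AB i).2) rfl rfl (fun _ => rfl) (fun _ => rfl) hA2' hB2'
  refine ⟨p, hp, hF, _, normalCore_normal _, hA2, ?_, ?_, coreIn_index_dvd hr hr'⟩
  · have h1 : IsPGroup p (AB 2).1 := hpg.to_le le_sup_left
    exact h1.of_equiv (equivMapOfInjective _ _ (subtype_injective H)).symm
  · exact ((coreIn_le_right H _).trans inf_le_left).trans (coreIn_le_right H _)

/-- A trivial Fitting subgroup of the induced two-point subconstituent forces a trivial Fitting
subgroup of the two-point stabilizer. -/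
theorem pC_inf_eq_bot [Finite G] (hprim : MulAction.IsPreprimitive G Ω)
    (hd : Nat.card (MulAction.orbit (MulAction.stabilizer G a) b) = d) (h2 : 2 ≤ d) {p : ℕ} [Fact p.Prime]
    (hker : pC p (MulAction.stabilizer G a ⊓ MulAction.stabilizer G b) ≤
      coreIn (MulAction.stabilizer G a) (MulAction.stabilizer G a ⊓ MulAction.stabilizer G b)) :
    pC p (MulAction.stabilizer G a ⊓ MulAction.stabilizer G b) = ⊥ := by
  obtain ⟨hmax, hcore, hne, ⟨g, -, hconj⟩, -, -⟩ := setting hprim hd h2
  set H := MulAction.stabilizer G a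
  set K := MulAction.stabilizer G b
  set P := pC p (H ⊓ K) with hP
  set A₁ := coreIn H (H ⊓ K)
  have hPp : IsPGroup p P := isPGroup_pC p _
  have hPL : P ≤ H ⊓ K := map_subtype_le _
  have hPeq : P = pC p H ⊓ A₁ := by
    refine le_antisymm (le_inf ?_ hker) ?_
    · exact le_pC (coreIn_le_left _ _) (le_normalizer_coreIn _ _) hker hPp
        ((coreIn_le_right _ _).trans (le_normalizer_pC p _))
    · exact le_pC le_rfl le_normalizer (inf_le_right.trans (coreIn_le_right _ _))
        ((isPGroup_pC p H).to_le inf_le_left)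
        ((inf_le_left.trans (le_inf (le_normalizer_pC p H) (le_normalizer_coreIn _ _))).trans
          inf_normalizer_le_normalizer_inf)
  have hnP : H ≤ normalizer (P : Set G) := hPeq ▸
    (le_inf (le_normalizer_pC p H) (le_normalizer_coreIn _ _)).trans inf_normalizer_le_normalizer_inf
  by_contra hP1
  have hN : normalizer (P : Set G) = H := normalizer_eq hmax hcore (hPL.trans inf_le_left) hP1 hnP
  set Q := P.map (MulAut.conj g).toMonoidHom with hQ
  have hQp : IsPGroup p Q := hPp.map _
  have hQK : Q ≤ K := hconj ▸ map_mono (hPL.trans inf_le_left)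
  have hnQ : K ≤ normalizer (Q : Set G) := hconj ▸ (map_mono hnP).trans (le_normalizer_map _)
  have hQH : Q ⊓ H ≤ P := le_pC le_rfl le_normalizer (le_inf inf_le_right (inf_le_left.trans hQK))
    (hQp.to_le inf_le_left) ((le_inf (inf_le_right.trans hnQ) (inf_le_left.trans le_normalizer)).trans
      inf_normalizer_le_normalizer_inf)
  have hJ : IsPGroup p (P ⊔ Q : Subgroup G) :=
    hPp.to_sup_of_normal_right' hQp ((hPL.trans inf_le_right).trans hnQ)
  have hQP : Q ≤ P := by
    have := hJ.isNilpotent
    by_contra hQP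
    have hlt : P.subgroupOf (P ⊔ Q) < ⊤ := lt_top_iff_ne_top.mpr fun h =>
      hQP (le_sup_right.trans (subgroupOf_eq_top.mp h))
    obtain ⟨-, x, hxn, hxP⟩ :=
      SetLike.lt_iff_le_and_exists.mp ((Group.normalizerCondition_of_isNilpotent (G := (P ⊔ Q : Subgroup G))) _ hlt)
    have hmem : (x : G) ∈ ((normalizer ((P.subgroupOf (P ⊔ Q) : Subgroup _) : Set _)).map (P ⊔ Q).subtype) :=
      ⟨x, hxn, rfl⟩
    have hxH : (x : G) ∈ H := by
      have h := le_normalizer_map _ hmem
      rwa [map_subgroupOf_eq_of_le le_sup_left, hN] at h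
    have hx2 : (x : G) ∈ ((P ⊔ Q : Subgroup G) : Set G) := x.2
    rw [coe_mul_of_left_le_normalizer_right _ _ ((hPL.trans inf_le_right).trans hnQ)] at hx2
    obtain ⟨u, hu, v, hv, huv⟩ := hx2
    replace huv : u * v = (x : G) := huv
    refine hxP (show (x : G) ∈ P from huv ▸ mul_mem hu (hQH ⟨hv, ?_⟩))
    have hv' : v = u⁻¹ * x := by rw [← huv]; group
    exact hv' ▸ mul_mem (H.inv_mem (hPL hu).1) hxH
  have hQe : Q = P := eq_of_le_of_card_ge hQP (card_map_of_injective (MulAut.conj g).injective).ge
  have hKH : K ≤ H := hN ▸ hQe ▸ hnQ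
  exact hne (eq_of_le_of_card_ge hKH (hconj ▸ (card_map_of_injective (MulAut.conj g).injective).ge)).symm

end Action

end CfsgLib.Recognition.WielandtBound
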