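import Mathlib

/-!
Presentations of Z-groups in which elements of distinct prime orders normalising each other
commute.
-/

set_option autoImplicit false

namespace CfsgLib.Recognition.ZPresentation

open Subgroup
open scoped commutatorElement

/-- Order bound for a group with metacyclic relations. -/
theorem finite_card_le {P : Type*} [Group P] {X Y : P} {n m r : ℕ} (hn : 0 < n) (hm : 0 < m)
    (hX : X ^ n = 1) (hY : Y ^ m = 1) (hXY : X⁻¹ * Y * X = Y ^ r)
    (hgen : closure ({X, Y} : Set P) = ⊤) : Finite P ∧ Nat.card P ≤ n * m := by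
  let S : Set P := {g | ∃ i j : ℕ, g = X ^ i * Y ^ j}
  have hy : ∀ g ∈ S, g * Y ∈ S := by
    rintro g ⟨i, j, rfl⟩
    exact ⟨i, j + 1, by rw [pow_succ, mul_assoc]⟩
  have hx : ∀ g ∈ S, g * X ∈ S := by
    rintro g ⟨i, j, rfl⟩
    refine ⟨i + 1, r * j, ?_⟩
    rw [pow_succ, mul_assoc, mul_assoc, pow_mul, ← hXY]
    have h : (X⁻¹ * Y * X) ^ j = X⁻¹ * Y ^ j * X := by
      have := conj_pow (a := X⁻¹) (b := Y) (i := j)
      rwa [inv_inv] at this
    rw [h]; group
  have hall : ∀ g, g ∈ S := by
    intro g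
    have hg : g ∈ closure ({X, Y} : Set P) := hgen ▸ mem_top g
    induction hg using Subgroup.closure_induction_right with
    | one => exact ⟨0, 0, by simp⟩
    | mul_right g _ z hz ih =>
      rcases hz with rfl | rfl
      · exact hx g ih
      · exact hy g ih
    | mul_inv_cancel g _ z hz ih =>
      rcases hz with rfl | rfl
      · have h1 : ∀ k : ℕ, g * z ^ k ∈ S := fun k => by
          induction k with
          | zero => simpa using ih
          | succ k ihk => rw [pow_succ, ← mul_assoc]; exact hx _ ihk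
        have : z⁻¹ = z ^ (n - 1) :=
          inv_eq_of_mul_eq_one_right (by rw [← pow_succ', Nat.sub_add_cancel hn, hX])
        rw [this]; exact h1 _
      · have h1 : ∀ k : ℕ, g * z ^ k ∈ S := fun k => by
          induction k with
          | zero => simpa using ih
          | succ k ihk => rw [pow_succ, ← mul_assoc]; exact hy _ ihk
        have : z⁻¹ = z ^ (m - 1) :=
          inv_eq_of_mul_eq_one_right (by rw [← pow_succ', Nat.sub_add_cancel hm, hY])
        rw [this]; exact h1 _
  let f : Fin n × Fin m → P := fun p => X ^ p.1.val * Y ^ p.2.val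
  have hf : Function.Surjective f := by
    intro g
    obtain ⟨i, j, rfl⟩ := hall g
    refine ⟨(⟨i % n, Nat.mod_lt _ hn⟩, ⟨j % m, Nat.mod_lt _ hm⟩), ?_⟩
    show X ^ (i % n) * Y ^ (j % m) = X ^ i * Y ^ j
    conv_rhs => rw [← Nat.mod_add_div i n, ← Nat.mod_add_div j m, pow_add, pow_add, pow_mul,
      pow_mul, hX, hY, one_pow, one_pow, mul_one, mul_one]
  refine ⟨Finite.of_surjective f hf, ?_⟩
  simpa [Nat.card_prod] using Nat.card_le_card_of_surjective f hf

/-- `s ^ p ≡ 1`, `s ≡ 1` modulo every prime divisor and `p ∤ m` give `s ≡ 1 (mod m)`. -/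
theorem modEq_one_of_pow {s p m : ℕ} (hp : ¬ ∃ q, q.Prime ∧ q ∣ m ∧ q ∣ p)
    (hs : s ^ p ≡ 1 [MOD m]) (hq : ∀ q, q.Prime → q ∣ m → s ≡ 1 [MOD q]) : s ≡ 1 [MOD m] := by
  have hcop : IsCoprime (m : ℤ) (∑ i ∈ Finset.range p, (s : ℤ) ^ i) := by
    rw [Int.isCoprime_iff_gcd_eq_one]
    by_contra hne
    obtain ⟨q, hqp, hqd⟩ := Nat.exists_prime_and_dvd hne
    have hqm : q ∣ m := by
      have := hqd.trans (Nat.gcd_dvd_left _ _)
      simpa [Int.natAbs_natCast] using this
    have hqs : (q : ℤ) ∣ ∑ i ∈ Finset.range p, (s : ℤ) ^ i :=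
      Int.natCast_dvd.2 (hqd.trans (Nat.gcd_dvd_right _ _))
    have h1 : ((∑ i ∈ Finset.range p, (s : ℤ) ^ i : ℤ) : ZMod q) = (p : ZMod q) := by
      push_cast
      have hs1 : (s : ZMod q) = ((1 : ℕ) : ZMod q) :=
        (ZMod.natCast_eq_natCast_iff s 1 q).2 (hq q hqp hqm)
      simp [hs1]
    rw [(ZMod.intCast_zmod_eq_zero_iff_dvd _ _).2 hqs] at h1
    exact hp ⟨q, hqp, hqm, (ZMod.natCast_eq_zero_iff p q).1 h1.symm⟩
  have hd : (m : ℤ) ∣ ((s : ℤ) - 1) * ∑ i ∈ Finset.range p, (s : ℤ) ^ i := by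
    rw [mul_geom_sum]
    have := (Nat.modEq_iff_dvd.1 hs.symm)
    simpa using this
  refine (Nat.modEq_iff_dvd.2 ?_).symm
  simpa using hcop.dvd_of_dvd_mul_right hd

/-- The presentation of a Z-group with the commuting condition. -/
theorem exists_presentation {G : Type*} [Group G] [Finite G] [hG : IsZGroup G]
    (hcomm : ∀ u v : G, (orderOf u).Prime → (orderOf v).Prime → orderOf u ≠ orderOf v →
      u⁻¹ * v * u ∈ zpowers v → Commute u v) :
    ∃ n m r : ℕ, 0 < n ∧ 0 < m ∧ Nat.Coprime (r - 1) m ∧ Nat.Coprime n m ∧ 1 ≤ r ∧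
      r ^ (n / ∏ p ∈ n.primeFactors, p) % m = 1 % m ∧
      Nonempty (G ≃* PresentedGroup
        ({FreeGroup.of (0 : Fin 2) ^ n, FreeGroup.of (1 : Fin 2) ^ m,
          (FreeGroup.of (0 : Fin 2))⁻¹ * FreeGroup.of 1 * FreeGroup.of 0 *
            (FreeGroup.of (1 : Fin 2) ^ r)⁻¹} : Set (FreeGroup (Fin 2)))) := by
  classical
  obtain ⟨H, hH⟩ := Subgroup.exists_right_complement'_of_coprime hG.coprime_commutator_index
  have h1 : Abelianization G ≃* H := hH.symm.QuotientMulEquiv
  have hHc : IsCyclic H := isCyclic_of_surjective _ h1.surjective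
  have hcop0 := hG.coprime_commutator_index
  rw [hH.symm.index_eq_card] at hcop0
  obtain ⟨x0, hxgen⟩ := IsCyclic.exists_generator (α := H)
  haveI := hG.isCyclic_commutator
  obtain ⟨y0, hygen⟩ := IsCyclic.exists_generator (α := commutator G)
  set x : G := (x0 : G) with hxdef
  set y : G := (y0 : G) with hydef
  have hxo : orderOf x = Nat.card H := by
    rw [hxdef, Subgroup.orderOf_coe, ← Nat.card_zpowers]
    exact Nat.card_congr (Equiv.subtypeUnivEquiv hxgen)
  have hyo : orderOf y = Nat.card (commutator G) := by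
    rw [hydef, Subgroup.orderOf_coe, ← Nat.card_zpowers]
    exact Nat.card_congr (Equiv.subtypeUnivEquiv hygen)
  set n := Nat.card H with hn
  set m := Nat.card (commutator G) with hm
  have hn0 : 0 < n := Nat.card_pos
  have hm0 : 0 < m := Nat.card_pos
  have hymem : ∀ g ∈ commutator G, ∃ k : ℕ, g = y ^ k := by
    intro g hg
    obtain ⟨k, hk⟩ := (isOfFinOrder_of_finite y0).mem_powers_iff_mem_zpowers.2 (hygen ⟨g, hg⟩)
    exact ⟨k, (congrArg Subtype.val hk).symm⟩
  obtain ⟨k0, hk0⟩ := hymem (x⁻¹ * y * x)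
    (by simpa using (commutator G).normal_of_characteristic.conj_mem y y0.2 x⁻¹)
  set r := k0 + m with hr
  have hym : y ^ m = 1 := hyo ▸ pow_orderOf_eq_one y
  have hxn : x ^ n = 1 := hxo ▸ pow_orderOf_eq_one x
  have hconj : x⁻¹ * y * x = y ^ r := by rw [hk0, hr, pow_add, hym, mul_one]
  have hgen : closure ({x, y} : Set G) = ⊤ := by
    rw [eq_top_iff]
    intro g _
    obtain ⟨⟨c, h⟩, rfl⟩ := (hH.existsUnique g).exists
    refine mul_mem ?_ ?_
    · obtain ⟨k, hk⟩ := hymem c c.2
      rw [hk]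
      exact pow_mem (Subgroup.subset_closure (Set.mem_insert_of_mem x (Set.mem_singleton y))) _
    · obtain ⟨k, hk⟩ := Subgroup.mem_zpowers_iff.1 (hxgen h)
      rw [← congrArg Subtype.val hk, Subgroup.coe_zpow]
      exact zpow_mem (Subgroup.subset_closure (Set.mem_insert x {y})) k
  -- conjugation by powers of `x`
  have hconjk : ∀ k, (x ^ k)⁻¹ * y * x ^ k = y ^ r ^ k := by
    intro k
    induction k with
    | zero => simp
    | succ k ih =>
      have h2 : (x⁻¹ * y * x) ^ r ^ k = x⁻¹ * y ^ r ^ k * x := by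
        have := conj_pow (a := x⁻¹) (b := y) (i := r ^ k)
        rwa [inv_inv] at this
      rw [pow_succ, mul_inv_rev, pow_succ', pow_mul, ← hconj, h2, ← ih]
      group
  -- gcd (r - 1, m) = 1
  have hr1 : Nat.Coprime (r - 1) m := by
    let N := zpowers (y ^ (r - 1))
    have hN : N.Normal := by
      refine ⟨fun a ha g => ?_⟩
      obtain ⟨k, hk⟩ := hymem (g * y * g⁻¹)
        ((commutator G).normal_of_characteristic.conj_mem y y0.2 g)
      obtain ⟨i, rfl⟩ := Subgroup.mem_zpowers_iff.1 ha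
      refine Subgroup.mem_zpowers_iff.2 ⟨i * k, ?_⟩
      rw [← conj_zpow, ← conj_pow, hk, ← pow_mul, ← zpow_natCast, ← zpow_natCast, ← zpow_mul,
        ← zpow_mul]
      congr 1
      push_cast
      ring
    let q := QuotientGroup.mk' N
    have hq : q (x⁻¹ * y * x) = q y := by
      rw [hconj, show r = r - 1 + 1 by omega, pow_succ, map_mul,
        show q (y ^ (r - 1)) = 1 from (QuotientGroup.eq_one_iff _).2 (Subgroup.mem_zpowers _),
        one_mul]
    have hqc : q x * q y = q y * q x := by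
      rw [map_mul, map_mul, map_inv] at hq
      calc q x * q y = q x * ((q x)⁻¹ * q y * q x) := by rw [hq]
        _ = q y * q x := by group
    have hle : commutator G ≤ N := by
      rw [_root_.commutator_def, Subgroup.commutator_le]
      intro a _ b _
      rw [← QuotientGroup.eq_one_iff]
      show q ⁅a, b⁆ = 1
      rw [map_commutatorElement, commutatorElement_eq_one_iff_mul_comm]
      have hC : IsMulCommutative (closure ({q x, q y} : Set (G ⧸ N))) := by
        refine Subgroup.isMulCommutative_closure ?_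
        rintro a (rfl | rfl) b (rfl | rfl) <;> first | rfl | exact hqc | exact hqc.symm
      have htop : ∀ a : G, q a ∈ closure ({q x, q y} : Set (G ⧸ N)) := by
        intro a
        have ha : q a ∈ (closure ({x, y} : Set G)).map q := ⟨a, hgen ▸ mem_top a, rfl⟩
        rwa [MonoidHom.map_closure, Set.image_pair] at ha
      exact congrArg Subtype.val (mul_comm' (⟨_, htop a⟩ : closure ({q x, q y} : Set (G ⧸ N))) ⟨_, htop b⟩)
    obtain ⟨i, hi⟩ := Subgroup.mem_zpowers_iff.1 (hle y0.2)
    rw [← zpow_natCast, ← zpow_mul] at hi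
    have h3 : (m : ℤ) ∣ ((r - 1 : ℕ) : ℤ) * i - 1 := by
      rw [← hyo, orderOf_dvd_iff_zpow_eq_one, zpow_sub, hi, zpow_one]
      exact mul_inv_cancel y
    obtain ⟨c, hc⟩ := h3
    exact Nat.isCoprime_iff_coprime.1 ⟨i, -c, by linarith⟩
  have hcop : Nat.Coprime n m := hcop0.symm
  -- the congruence
  have hprime : ∀ p ∈ n.primeFactors, x ^ (n / p) * y = y * x ^ (n / p) := by
    intro p hp
    obtain ⟨hpp, hpn, -⟩ := Nat.mem_primeFactors.1 hp
    set u := x ^ (n / p) with hu
    have hup : u ^ p = 1 := by rw [hu, ← pow_mul, Nat.div_mul_cancel hpn, hxn]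
    have hu1 : u ≠ 1 := by
      intro h
      have hd := orderOf_dvd_of_pow_eq_one h
      rw [hxo] at hd
      exact absurd (Nat.le_of_dvd (Nat.div_pos (Nat.le_of_dvd hn0 hpn) hpp.pos) hd)
        (not_le.2 (Nat.div_lt_self hn0 hpp.one_lt))
    haveI := Fact.mk hpp
    have huo : orderOf u = p := orderOf_eq_prime hup hu1
    set s := r ^ (n / p) with hs
    have hus : u⁻¹ * y * u = y ^ s := hconjk _
    have hsp : s ^ p ≡ 1 [MOD m] := by
      rw [← hyo, ← pow_eq_pow_iff_modEq, pow_one, hs, ← pow_mul, Nat.div_mul_cancel hpn, ← hconjk n,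
        hxn]
      group
    have hmod := modEq_one_of_pow (s := s) (p := p) (m := m) (by
        rintro ⟨q, hq, hqm, hqp⟩
        obtain rfl := (Nat.prime_dvd_prime_iff_eq hq hpp).1 hqp
        exact hq.one_lt.ne' (Nat.dvd_one.1 (hcop ▸ Nat.dvd_gcd hpn hqm))) hsp (by
        intro q hq hqm
        haveI := Fact.mk hq
        set v := y ^ (m / q) with hv
        have hvo : orderOf v = q := by
          rw [hv, orderOf_pow' y (Nat.div_pos (Nat.le_of_dvd hm0 hqm) hq.pos).ne', hyo,
            Nat.gcd_eq_right (Nat.div_dvd_of_dvd hqm), Nat.div_div_self hqm hm0.ne']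
        have huv : u⁻¹ * v * u = v ^ s := by
          have h2 := conj_pow (a := u⁻¹) (b := y) (i := m / q)
          rw [inv_inv] at h2
          rw [hv, ← h2, hus, ← pow_mul, ← pow_mul, mul_comm]
        have hne : orderOf u ≠ orderOf v := by
          rw [huo, hvo]
          rintro rfl
          exact hpp.one_lt.ne' (Nat.dvd_one.1 (hcop ▸ Nat.dvd_gcd hpn hqm))
        have hcv := hcomm u v (huo ▸ hpp) (hvo ▸ hq) hne
          (by rw [huv]; exact Subgroup.pow_mem _ (Subgroup.mem_zpowers v) s)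
        have h3 : v ^ s = v ^ 1 := by
          rw [pow_one, ← huv, mul_assoc, ← hcv.eq, inv_mul_cancel_left]
        rw [pow_eq_pow_iff_modEq, hvo] at h3
        exact h3)
    rw [← hyo, ← pow_eq_pow_iff_modEq, pow_one] at hmod
    rw [hmod] at hus
    calc u * y = u * (u⁻¹ * y * u) := by rw [hus]
      _ = y * u := by group
  have hcong : r ^ (n / ∏ p ∈ n.primeFactors, p) % m = 1 % m := by
    let a : MulAut (commutator G) := MulAut.conjNormal x
    have hak : ∀ k, a ^ k = 1 ↔ x ^ k * y = y * x ^ k := by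
      intro k
      have hpow : a ^ k = MulAut.conjNormal (H := commutator G) (x ^ k) :=
        (map_pow MulAut.conjNormal x k).symm
      rw [hpow]
      constructor
      · intro h
        have h2 := congrArg Subtype.val (DFunLike.congr_fun h y0)
        simp only [MulAut.conjNormal_apply, MulAut.one_apply] at h2
        exact mul_inv_eq_iff_eq_mul.1 h2
      · intro h
        apply MulEquiv.ext
        intro c
        apply Subtype.ext
        obtain ⟨i, hi⟩ := hymem c c.2
        simp only [MulAut.conjNormal_apply, MulAut.one_apply]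
        rw [mul_inv_eq_iff_eq_mul, hi]
        exact ((show Commute (x ^ k) y from h).pow_right i).eq
    have han : orderOf a ∣ n :=
      orderOf_dvd_of_pow_eq_one ((hak n).2 (by rw [hxn, one_mul, mul_one]))
    have hd : orderOf a ∣ n / ∏ p ∈ n.primeFactors, p := by
      obtain ⟨c, hc⟩ := han
      have hrad : ∏ p ∈ n.primeFactors, p ∣ c := by
        refine Finset.prod_primes_dvd c (fun p hp => (Nat.prime_of_mem_primeFactors hp).prime) ?_
        intro p hp
        have hd := orderOf_dvd_of_pow_eq_one ((hak _).2 (hprime p hp))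
        obtain ⟨hpp, hpn, -⟩ := Nat.mem_primeFactors.1 hp
        obtain ⟨d, hd⟩ := hd
        have : orderOf a * c = orderOf a * (d * p) := by
          rw [← mul_assoc, ← hd, Nat.div_mul_cancel hpn, hc]
        exact Dvd.intro_left d (Nat.eq_of_mul_eq_mul_left (orderOf_pos a) this).symm
      obtain ⟨d, hd⟩ := hrad
      have hpos : 0 < ∏ p ∈ n.primeFactors, p :=
        Finset.prod_pos fun p hp => (Nat.prime_of_mem_primeFactors hp).pos
      refine ⟨d, ?_⟩
      generalize (∏ p ∈ n.primeFactors, p) = R at hd hpos ⊢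
      apply Nat.div_eq_of_eq_mul_left hpos
      rw [hc, hd]; ring
    have hc := (hak _).1 (orderOf_dvd_iff_pow_eq_one.1 hd)
    have h := hconjk (n / ∏ p ∈ n.primeFactors, p)
    rw [mul_assoc, ← hc, inv_mul_cancel_left] at h
    have h' : y ^ r ^ (n / ∏ p ∈ n.primeFactors, p) = y ^ 1 := by rw [pow_one, ← h]
    rw [pow_eq_pow_iff_modEq, hyo] at h'
    exact h'
  refine ⟨n, m, r, hn0, hm0, hr1, hcop, by omega, hcong, ?_⟩
  set rels : Set (FreeGroup (Fin 2)) := {FreeGroup.of (0 : Fin 2) ^ n, FreeGroup.of (1 : Fin 2) ^ m,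
    (FreeGroup.of (0 : Fin 2))⁻¹ * FreeGroup.of 1 * FreeGroup.of 0 *
      (FreeGroup.of (1 : Fin 2) ^ r)⁻¹} with hrels
  have hrel : ∀ w ∈ rels, PresentedGroup.mk rels w = 1 := fun w hw => PresentedGroup.one_of_mem hw
  obtain ⟨hfin, hle⟩ := finite_card_le (X := (PresentedGroup.of (0 : Fin 2) : PresentedGroup rels))
    (Y := PresentedGroup.of (1 : Fin 2)) hn0 hm0 (r := r) (hrel _ (Or.inl rfl))
    (hrel _ (Or.inr (Or.inl rfl))) (mul_inv_eq_one.1 (hrel _ (Or.inr (Or.inr rfl))))
    (by
      rw [← PresentedGroup.closure_range_of rels]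
      congr 1
      ext z
      simp [Fin.exists_fin_two, eq_comm])
  have hlift : ∀ w ∈ rels, FreeGroup.lift ![x, y] w = 1 := by
    rintro w (rfl | rfl | rfl) <;> simp [hxn, hym, hconj]
  let f := PresentedGroup.toGroup hlift
  have hf : Function.Surjective f := by
    rw [← MonoidHom.range_eq_top, eq_top_iff, ← hgen, Subgroup.closure_le]
    rintro z (rfl | rfl)
    · exact ⟨PresentedGroup.of 0, by simp [f]⟩
    · exact ⟨PresentedGroup.of 1, by simp [f]⟩
  have hGc : Nat.card G = n * m := by rw [mul_comm]; exact hH.card_mul.symm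
  exact ⟨(MulEquiv.ofBijective f ((Nat.bijective_iff_surjective_and_card _).2 ⟨hf,
    le_antisymm (hle.trans hGc.ge) (Nat.card_le_card_of_surjective f hf)⟩)).symm⟩

end CfsgLib.Recognition.ZPresentation
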